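import Cfsg.Agent.SelfCentEight.EightMain
import Cfsg.Agent.NoNormalEight.Main

/-!
A 2-group with a self-centralizing elementary abelian subgroup of order 8 has sectional rank at
most 4.
-/

set_option autoImplicit false
set_option linter.style.haveILetI false
set_option linter.unusedSectionVars false

namespace CfsgLib.SelfCentEight

open Subgroup

universe u

variable {S : Type u} [Group S] [Finite S]

/-- The case of a normal self-centralizing subgroup. -/
theorem SelfCent.normal_case {A : Subgroup S} (hA : SelfCent A) [A.Normal] (H : Subgroup S) :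
    (frattini H).index ≤ 16 := by
  have hself : centralizer (A : Set S) = A := le_antisymm
    (fun y hy => hA.self y fun x hx => mem_centralizer_iff.1 hy x hx) hA.elem.le_centralizer
  have hsplit := index_split H (le_refl A)
  rw [relIndex_eq_one.2 le_sup_right, mul_one] at hsplit
  have h1 := top_le_four hA.hS H hA.elem hA.card
  rw [hself] at h1
  have h3 := relIndex_le_card H A (frattini H)
  rw [hA.card] at h3
  rw [hsplit]
  by_cases h8 : 8 ≤ (frattini H).relIndex (A.subgroupOf H)
  · have := top_eq_one_of_full hA.hS H (W := A) (by rw [hA.card]; exact h8)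
    rw [hself] at this
    rw [this]
    omega
  · obtain ⟨j, hj⟩ : ∃ j, (frattini H).relIndex (A.subgroupOf H) = 2 ^ j :=
      ((hA.hS.to_subgroup H).to_subgroup (A.subgroupOf H)).index
        ((frattini H).subgroupOf (A.subgroupOf H))
    have : j ≤ 2 := by
      by_contra hh
      exact h8 (hj ▸ Nat.pow_le_pow_right two_pos (show 3 ≤ j by omega))
    calc (frattini H).relIndex (A.subgroupOf H) * (frattini H ⊔ A.subgroupOf H).index
        ≤ 4 * 4 := Nat.mul_le_mul (hj ▸ Nat.pow_le_pow_right two_pos this) h1
      _ = 16 := rfl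

/-- Every subgroup has Frattini index at most 16. -/
theorem SelfCent.frattini_index {A : Subgroup S} (hA : SelfCent A) (H : Subgroup S) :
    (frattini H).index ≤ 16 := by
  by_cases h16 : ∃ M : Subgroup S, M.Normal ∧ Elem M ∧ 16 ≤ Nat.card M
  · obtain ⟨M, hMn, hM, h16⟩ := h16
    haveI := hMn
    obtain ⟨a, ha⟩ := hA.exists_sixteen hM h16
    exact ha.frattini_index H
  push Not at h16
  have hsmall : ∀ V : Subgroup S, V.Normal → Elem V → Nat.card V ≤ 8 := fun V hV hVe => by
    obtain ⟨n, hn⟩ := exists_two_pow hA.hS V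
    have := h16 V hV hVe
    rw [hn] at this ⊢
    have : n ≤ 3 := by
      by_contra hh
      have : 2 ^ 4 ≤ 2 ^ n := Nat.pow_le_pow_right two_pos (by omega)
      omega
    exact Nat.pow_le_pow_right two_pos this
  by_cases hAn : A.Normal
  · exact hA.normal_case H
  by_cases h8 : ∃ W : Subgroup S, W.Normal ∧ Elem W ∧ Nat.card W = 8
  · obtain ⟨W, hWn, hW, h8⟩ := h8
    haveI := hWn
    obtain ⟨a, c, he, h2⟩ := hA.exists_eight hW h8 (fun e => hAn (e ▸ hWn)) hsmall
    exact he.frattini_index (fun _ _ => Or.inr h2) H
  refine CfsgLib.NoNormalEight.frattini_index hA.hS (fun V hV hVc hV2 => ?_) H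
  have hVe : Elem V := ⟨fun x hx y hy => congrArg Subtype.val (hVc.1.1 ⟨x, hx⟩ ⟨y, hy⟩),
    fun x hx => by rw [← pow_two]; exact hV2 x hx⟩
  by_contra hh
  exact h8 ⟨V, hV, hVe, eq_eight_of_two_pow (exists_two_pow hA.hS V) (by omega) (hsmall V hV hVe)⟩

/-- The sectional 2-rank is at most 4. -/
theorem SelfCent.sectional {A : Subgroup S} (hA : SelfCent A) :
    Cfsg.SectionalPRankLE 2 4 S := by
  intro H N hN E hEc hEe
  set T := E.comap (QuotientGroup.mk' N) with hT
  set T' := T.map H.subtype with hT'
  let e : T' →* E := ((QuotientGroup.mk' N).subgroupComap E).comp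
    (T.equivMapOfInjective H.subtype H.subtype_injective).symm.toMonoidHom
  have hesurj : Function.Surjective e := by
    intro q
    obtain ⟨h, hh⟩ := QuotientGroup.mk'_surjective N (q : H ⧸ N)
    refine ⟨T.equivMapOfInjective H.subtype H.subtype_injective
      ⟨h, by rw [hT, mem_comap, hh]; exact q.2⟩, ?_⟩
    simp [e]
    exact Subtype.ext hh
  haveI : Fact (Nat.Prime 2) := ⟨Nat.prime_two⟩
  have hker : frattini T' ≤ e.ker := by
    refine CfsgLib.PGroupBasic.frattini_le_of_elementary (p := 2) _ ?_ fun x => ?_
    · rw [_root_.commutator_def, commutator_le]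
      intro x _ y _
      rw [MonoidHom.mem_ker, map_commutatorElement]
      exact commutatorElement_eq_one_iff_mul_comm.2 (hEc.1.1 (e x) (e y))
    · rw [MonoidHom.mem_ker, map_pow]
      exact Subtype.ext (by simpa using hEe _ (e x).2)
  have hcard : Nat.card E = e.ker.index := by
    rw [index_ker, e.range_eq_top_of_surjective hesurj, card_top]
  rw [hcard]
  exact (Nat.le_of_dvd (Nat.pos_of_ne_zero index_ne_zero_of_finite)
    (index_dvd_of_le hker)).trans (hA.frattini_index T')

end CfsgLib.SelfCentEight
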