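import Cfsg.Agent.SelfCentEight.Main
import Mathlib.GroupTheory.SpecificGroups.Quaternion

/-!
Larger subgroups containing a self-centralizing elementary abelian subgroup of order 8.
-/

set_option autoImplicit false
set_option linter.style.haveILetI false
set_option linter.unusedSectionVars false

namespace CfsgLib.SelfCentEight

open Subgroup

universe u

variable {S : Type u} [Group S] [Finite S]

/-- Adjoining a commuting involution to an elementary abelian subgroup. -/
def adjoin (F : Subgroup S) (q : S) (hq : q * q = 1) (hc : ∀ x ∈ F, x * q = q * x) : Subgroup S where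
  carrier := {x | x ∈ F ∨ q * x ∈ F}
  one_mem' := Or.inl (one_mem F)
  mul_mem' := by
    rintro x y (hx | hx) (hy | hy)
    · exact Or.inl (mul_mem hx hy)
    · refine Or.inr ?_
      rw [← mul_assoc, ← hc x hx, mul_assoc]
      exact mul_mem hx hy
    · exact Or.inr (by rw [← mul_assoc]; exact mul_mem hx hy)
    · refine Or.inl ?_
      rw [show x * y = q * q * (x * y) by rw [hq, one_mul],
        show q * q * (x * y) = q * ((q * x) * y) by group, ← mul_assoc, ← hc _ hx, mul_assoc]
      exact mul_mem hx hy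
  inv_mem' := by
    rintro x (hx | hx)
    · exact Or.inl (inv_mem hx)
    · refine Or.inr ?_
      have h := inv_mem hx
      rw [mul_inv_rev, inv_eq_of_mul_eq_one_right hq] at h
      have e := hc _ h
      rw [mul_assoc, hq, mul_one] at e
      rw [e, ← mul_assoc, hq, one_mul]
      exact h

theorem adjoin_elem {F : Subgroup S} (hF : Elem F) {q : S} (hq : q * q = 1)
    (hc : ∀ x ∈ F, x * q = q * x) : Elem (adjoin F q hq hc) := by
  have hsplit : ∀ x ∈ adjoin F q hq hc, ∃ w ∈ F, x = w ∨ x = q * w := by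
    rintro x (hx | hx)
    · exact ⟨x, hx, Or.inl rfl⟩
    · exact ⟨q * x, hx, Or.inr (by rw [← mul_assoc, hq, one_mul])⟩
  have hcF : ∀ x ∈ adjoin F q hq hc, ∀ w ∈ F, x * w = w * x := by
    intro x hx w hw
    obtain ⟨v, hv, rfl | rfl⟩ := hsplit x hx
    · exact hF.comm _ hv w hw
    · rw [mul_assoc, hF.comm v hv w hw, ← mul_assoc, ← hc w hw, mul_assoc]
  refine ⟨fun x hx y hy => ?_, fun x hx => ?_⟩
  · obtain ⟨w, hw, rfl | rfl⟩ := hsplit y hy
    · exact hcF x hx _ hw
    · have hxq : x * q = q * x := by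
        obtain ⟨v, hv, rfl | rfl⟩ := hsplit x hx
        · exact hc _ hv
        · rw [mul_assoc, hc v hv]
      rw [← mul_assoc, hxq, mul_assoc, hcF x hx w hw, ← mul_assoc]
  · obtain ⟨w, hw, rfl | rfl⟩ := hsplit x hx
    · exact hF.sq _ hw
    · rw [show q * w * (q * w) = q * (w * q) * w by group, hc w hw, ← mul_assoc, hq, one_mul,
        hF.sq w hw]

theorem card_adjoin {F : Subgroup S} {q : S} (hq : q * q = 1) (hc : ∀ x ∈ F, x * q = q * x)
    (hqF : q ∉ F) : Nat.card (adjoin F q hq hc) = 2 * Nat.card F := by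
  have hle : F ≤ adjoin F q hq hc := fun x hx => Or.inl hx
  have hi : (F.subgroupOf (adjoin F q hq hc)).index = 2 := by
    refine index_eq_two_iff.2 ⟨⟨q, Or.inr (by rw [hq]; exact one_mem F)⟩, fun x => ?_⟩
    simp only [mem_subgroupOf, Subgroup.coe_mul]
    by_cases hx : (x : S) ∈ F
    · exact Or.inr ⟨hx, fun h => hqF (by simpa using mul_mem (inv_mem hx) h)⟩
    · refine Or.inl ⟨?_, hx⟩
      have h := x.2.resolve_left hx
      have e := hc _ h
      rw [mul_assoc] at e
      rw [mul_left_cancel (a := q) (b := (x : S) * q) (c := q * x) e]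
      exact h
  have := (F.subgroupOf (adjoin F q hq hc)).card_mul_index
  rw [Nat.card_congr (subgroupOfEquivOfLe hle).toEquiv, hi] at this
  rw [← this, mul_comm]

/-- A four-group wreathed by 2 whose centre has it as centralizer. -/
theorem sectional_of_wreath (hS : IsPGroup 2 S) (Q E : Subgroup S) (hEQ : E ≤ Q) (hE : Elem E)
    (hE16 : Nat.card E = 16) (hQ32 : Nat.card Q = 32) {s : S} (hsQ : s ∈ Q) (hsE : s ∉ E)
    (hs : s * s = 1) (hfix : Nat.card ↥(E ⊓ centralizer ({s} : Set S)) = 4)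
    (hC : centralizer (((center Q).map Q.subtype : Subgroup S) : Set S) = Q) :
    Cfsg.SectionalPRankLE 2 4 S := by
  set F := E ⊓ centralizer ({s} : Set S) with hF
  have hFe : Elem F := ⟨fun x hx y hy => hE.comm x hx.1 y hy.1, fun x hx => hE.sq x hx.1⟩
  have hc : ∀ x ∈ F, x * s = s * x := fun x hx => mem_centralizer_singleton_iff.1 hx.2
  have hsF : s ∉ F := fun h => hsE h.1
  have h2 : (E.subgroupOf Q).index = 2 := by
    have := (E.subgroupOf Q).card_mul_index
    rw [Nat.card_congr (subgroupOfEquivOfLe hEQ).toEquiv, hE16, hQ32] at this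
    omega
  have hQsplit : ∀ x ∈ Q, x ∈ E ∨ s * x ∈ E := fun x hx => by
    by_cases hxE : x ∈ E
    · exact Or.inl hxE
    · exact Or.inr ((mul_mem_iff_of_index_two h2 (a := ⟨s, hsQ⟩) (b := ⟨x, hx⟩)).2
        (iff_of_false hsE hxE))
  -- `F` is central in `Q`
  have hFZ : F ≤ (center Q).map Q.subtype := by
    intro x hx
    refine ⟨⟨x, hEQ hx.1⟩, mem_center_iff.2 fun y => Subtype.ext ?_, rfl⟩
    show (y : S) * x = x * y
    rcases hQsplit y y.2 with h | h
    · exact hE.comm _ h x hx.1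
    · calc (y : S) * x = s * s * y * x := by rw [hs, one_mul]
        _ = s * ((s * y) * x) := by group
        _ = (s * x) * (s * y) := by rw [hE.comm _ h x hx.1, mul_assoc]
        _ = x * y := by rw [← hc x hx, mul_assoc, ← mul_assoc s, hs, one_mul]
  refine SelfCent.sectional (A := adjoin F s hs hc)
    ⟨hS, adjoin_elem hFe hs hc, by rw [card_adjoin hs hc hsF, hF, hfix], fun y hy => ?_⟩
  have hyQ : y ∈ Q := hC ▸ mem_centralizer_iff.2 (by
    rintro _ ⟨z, hz, rfl⟩
    -- central elements of `Q` commute with `s` and lie in `F` or its translate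
    refine hy _ ?_
    have hzs : (z : S) * s = s * z := congrArg Subtype.val (mem_center_iff.1 hz ⟨s, hsQ⟩).symm
    rcases hQsplit z z.2 with h | h
    · exact Or.inl ⟨h, mem_centralizer_singleton_iff.2 hzs⟩
    · refine Or.inr ⟨h, mem_centralizer_singleton_iff.2 ?_⟩
      show s * (z : S) * s = s * (s * z)
      rw [mul_assoc, hzs])
  have hys : y * s = s * y := (hy s (Or.inr (by rw [hs]; exact one_mem F))).symm
  rcases hQsplit y hyQ with h | h
  · exact Or.inl ⟨h, mem_centralizer_singleton_iff.2 hys⟩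
  · refine Or.inr ⟨h, mem_centralizer_singleton_iff.2 ?_⟩
    rw [mul_assoc, hys]

/-- Generators of a central product of two quaternion groups inside `S`. -/
structure QuatPair (Q : Subgroup S) (z i j k l : S) : Prop where
  hi : i ∈ Q
  hj : j ∈ Q
  hk : k ∈ Q
  hl : l ∈ Q
  z1 : z ≠ 1
  zz : z * z = 1
  ii : i * i = z
  jj : j * j = z
  kk : k * k = z
  ll : l * l = z
  ji : j * i = z * (i * j)
  lk : l * k = z * (k * l)
  ik : i * k = k * i
  il : i * l = l * i
  jk : j * k = k * j
  jl : j * l = l * j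
  centre : ∀ x : S, x * i = i * x → x * j = j * x → x * k = k * x → x * l = l * x → x = 1 ∨ x = z

namespace QuatPair

variable {Q : Subgroup S} {z i j k l : S}

theorem zcomm (h : QuatPair Q z i j k l) :
    z * i = i * z ∧ z * j = j * z ∧ z * k = k * z ∧ z * l = l * z := by
  refine ⟨?_, ?_, ?_, ?_⟩
  · rw [← h.ii, mul_assoc]
  · rw [← h.jj, mul_assoc]
  · rw [← h.kk, mul_assoc]
  · rw [← h.ll, mul_assoc]

/-- Exchanging the two generators of the second factor. -/
theorem twist (h : QuatPair Q z i j k l) : QuatPair Q z i j l (k * l) := by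
  obtain ⟨zi, zj, zk, zl⟩ := h.zcomm
  refine ⟨h.hi, h.hj, h.hl, mul_mem h.hk h.hl, h.z1, h.zz, h.ii, h.jj, h.ll, ?_, h.ji, ?_, h.il,
    ?_, h.jl, ?_, fun x e1 e2 e3 e4 => ?_⟩
  · calc k * l * (k * l) = k * (l * k) * l := by group
      _ = k * (z * (k * l)) * l := by rw [h.lk]
      _ = (k * z) * k * (l * l) := by group
      _ = z * (k * k) * (l * l) := by rw [← zk]; group
      _ = z := by rw [h.kk, h.ll, h.zz, one_mul]
  · symm
    calc z * (l * (k * l)) = z * ((l * k) * l) := by rw [mul_assoc l k l]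
      _ = (z * z) * (k * l * l) := by rw [h.lk]; group
      _ = k * l * l := by rw [h.zz, one_mul]
  · rw [← mul_assoc, h.ik, mul_assoc, h.il, ← mul_assoc]
  · rw [← mul_assoc, h.jk, mul_assoc, h.jl, ← mul_assoc]
  · refine h.centre x e1 e2 ?_ e3
    have : x * (k * l) * l⁻¹ = k * x := by
      rw [e4, mul_assoc k l x, ← e3]; group
    calc x * k = x * (k * l) * l⁻¹ := by group
      _ = k * x := this

/-- The elementary subgroup `⟨z, ik, jl⟩`. -/
theorem exists_plane (h : QuatPair Q z i j k l) :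
    ∃ A : Subgroup S, Elem A ∧ Nat.card A = 8 ∧ A ≤ Q ∧ z ∈ A ∧ i * k ∈ A ∧ j * l ∈ A ∧
      ∀ x ∈ A, x = 1 ∨ x = z ∨ x = i * k ∨ x = z * (i * k) ∨ x = j * l ∨ x = z * (j * l) ∨
        x = (i * k) * (j * l) ∨ x = z * ((i * k) * (j * l)) := by
  obtain ⟨zi, zj, zk, zl⟩ := h.zcomm
  have zp : z * (i * k) = i * k * z := by rw [← mul_assoc, zi, mul_assoc, zk, ← mul_assoc]
  have zq : z * (j * l) = j * l * z := by rw [← mul_assoc, zj, mul_assoc, zl, ← mul_assoc]
  have hp2 : i * k * (i * k) = 1 := by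
    calc i * k * (i * k) = i * (k * i) * k := by group
      _ = (i * i) * (k * k) := by rw [← h.ik]; group
      _ = 1 := by rw [h.ii, h.kk, h.zz]
  have hq2 : j * l * (j * l) = 1 := by
    calc j * l * (j * l) = j * (l * j) * l := by group
      _ = (j * j) * (l * l) := by rw [← h.jl]; group
      _ = 1 := by rw [h.jj, h.ll, h.zz]
  have hpq : i * k * (j * l) = j * l * (i * k) := by
    calc i * k * (j * l) = i * (k * j) * l := by group
      _ = (i * j) * (k * l) := by rw [← h.jk]; group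
      _ = (z * z) * ((i * j) * (k * l)) := by rw [h.zz, one_mul]
      _ = z * ((z * (i * j)) * (k * l)) := by group
      _ = z * (j * i) * (k * l) := by rw [← h.ji]; group
      _ = j * i * (z * (k * l)) := by
          rw [show z * (j * i) = j * i * z by rw [← mul_assoc, zj, mul_assoc, zi, ← mul_assoc]]
          group
      _ = j * (i * l) * k := by rw [← h.lk]; group
      _ = j * l * (i * k) := by rw [h.il]; group
  set Z0 : Subgroup S := adjoin ⊥ z h.zz (fun x hx => by rw [mem_bot.1 hx]; simp) with hZ0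
  have hbot : Elem (⊥ : Subgroup S) :=
    ⟨fun x hx y hy => by rw [mem_bot.1 hx, mem_bot.1 hy], fun x hx => by rw [mem_bot.1 hx, one_mul]⟩
  have hZ0e : Elem Z0 := adjoin_elem hbot _ _
  have hZ0m : ∀ x ∈ Z0, x = 1 ∨ x = z := by
    rintro x (hx | hx)
    · exact Or.inl (mem_bot.1 hx)
    · exact Or.inr ((eq_inv_of_mul_eq_one_right (mem_bot.1 hx)).trans
        (inv_eq_of_mul_eq_one_right h.zz))
  have hcp : ∀ x ∈ Z0, x * (i * k) = i * k * x := fun x hx => by
    rcases hZ0m x hx with rfl | rfl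
    · simp
    · exact zp
  set F := adjoin Z0 (i * k) hp2 hcp with hF
  have hFe : Elem F := adjoin_elem hZ0e _ _
  have hFm : ∀ x ∈ F, x = 1 ∨ x = z ∨ x = i * k ∨ x = z * (i * k) := by
    rintro x (hx | hx)
    · rcases hZ0m x hx with e | e
      · exact Or.inl e
      · exact Or.inr (Or.inl e)
    · rcases hZ0m _ hx with e | e
      · exact Or.inr (Or.inr (Or.inl ((eq_inv_of_mul_eq_one_right e).trans
          (inv_eq_of_mul_eq_one_right hp2))))
      · refine Or.inr (Or.inr (Or.inr ?_))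
        rw [zp, ← e, ← mul_assoc, hp2, one_mul]
  have hcq : ∀ x ∈ F, x * (j * l) = j * l * x := fun x hx => by
    rcases hFm x hx with rfl | rfl | rfl | rfl
    · simp
    · exact zq
    · exact hpq
    · rw [mul_assoc, hpq, ← mul_assoc, zq, mul_assoc]
  have hnz : i * k ∉ Z0 := fun hm => by
    rcases hZ0m _ hm with e | e
    · -- then `i` would be `k` up to the centre and commute with `j`
      have hk : k = i⁻¹ := eq_inv_of_mul_eq_one_right e
      have := h.jk
      rw [hk] at this
      have hji : j * i = i * j := by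
        calc j * i = i * (i⁻¹ * j) * i := by group
          _ = i * (j * i⁻¹) * i := by rw [this]
          _ = i * j := by group
      rw [h.ji, mul_eq_right] at hji
      exact h.z1 hji
    · have hk : k = i := by
        rw [← h.ii] at e
        exact mul_left_cancel e
      have := h.jk
      rw [hk, h.ji, mul_eq_right] at this
      exact h.z1 this
  have hnz' : j * l ∉ F := fun hm => by
    have hjp : j * (i * k) ≠ i * k * j := fun e => h.z1 (by
      rw [← mul_assoc, h.ji, mul_assoc i k j, ← h.jk, ← mul_assoc i j k, mul_assoc z] at e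
      exact mul_eq_right.1 e)
    -- `j * l` would commute with `i`
    have hjl : (j * l) * i = i * (j * l) := by
      rcases hFm _ hm with e | e | e | e <;> rw [e]
      · simp
      · exact zi
      · rw [mul_assoc, ← h.ik]
      · rw [mul_assoc, mul_assoc, ← h.ik, ← mul_assoc, zi, mul_assoc]
    rw [mul_assoc, ← h.il, ← mul_assoc, h.ji, mul_assoc z (i * j), mul_assoc i j l, mul_eq_right]
      at hjl
    exact h.z1 hjl
  refine ⟨adjoin F (j * l) hq2 hcq, adjoin_elem hFe _ _, ?_, ?_,
    Or.inl (Or.inl (Or.inr (by rw [h.zz]; exact one_mem _))),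
    Or.inl (Or.inr (by rw [hp2]; exact one_mem _)), Or.inr (by rw [hq2]; exact one_mem _), ?_⟩
  · rw [card_adjoin hq2 hcq hnz', hF, card_adjoin hp2 hcp hnz, hZ0, card_adjoin h.zz _
      (fun e => h.z1 (mem_bot.1 e)), card_bot]
  · have hzQ : z ∈ Q := h.ii ▸ mul_mem h.hi h.hi
    intro x hx
    have hF' : ∀ w ∈ F, w ∈ Q := fun w hw => by
      rcases hFm w hw with rfl | rfl | rfl | rfl
      exacts [one_mem Q, hzQ, mul_mem h.hi h.hk, mul_mem hzQ (mul_mem h.hi h.hk)]
    rcases hx with hx | hx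
    · exact hF' x hx
    · rw [show x = (j * l)⁻¹ * (j * l * x) by group]
      exact mul_mem (inv_mem (mul_mem h.hj h.hl)) (hF' _ hx)
  · rintro x (hx | hx)
    · rcases hFm x hx with e | e | e | e
      exacts [Or.inl e, Or.inr (Or.inl e), Or.inr (Or.inr (Or.inl e)),
        Or.inr (Or.inr (Or.inr (Or.inl e)))]
    · have e0 : x = (j * l) * (j * l * x) := by rw [← mul_assoc, hq2, one_mul]
      rcases hFm _ hx with e | e | e | e <;> rw [e] at e0
      · exact Or.inr (Or.inr (Or.inr (Or.inr (Or.inl (e0.trans (mul_one _))))))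
      · exact Or.inr (Or.inr (Or.inr (Or.inr (Or.inr (Or.inl (e0.trans zq.symm))))))
      · exact Or.inr (Or.inr (Or.inr (Or.inr (Or.inr (Or.inr (Or.inl (e0.trans hpq.symm)))))))
      · refine Or.inr (Or.inr (Or.inr (Or.inr (Or.inr (Or.inr (Or.inr ?_))))))
        rw [e0, ← mul_assoc, ← zq, mul_assoc, ← hpq]

/-- If the plane is not self-centralizing, some element exchanges the two factors. -/
theorem swap (h : QuatPair Q z i j k l) (hS : IsPGroup 2 S) (hCQ : ∀ y : S, y * i = i * y →
    y * j = j * y → y * k = k * y → y * l = l * y → y ∈ Q) (hns : ¬ ∃ A : Subgroup S, SelfCent A) :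
    ∃ y : S, y * z * y⁻¹ = z ∧ (y * i * y⁻¹ = k ∨ y * i * y⁻¹ = z * k) ∧
      (y * j * y⁻¹ = l ∨ y * j * y⁻¹ = z * l) ∧ (y * k * y⁻¹ = i ∨ y * k * y⁻¹ = z * i) ∧
      (y * l * y⁻¹ = j ∨ y * l * y⁻¹ = z * j) := by
  obtain ⟨zi, zj, zk, zl⟩ := h.zcomm
  obtain ⟨A, hA, h8, hAQ, hzA, hpA, hqA, hAm⟩ := h.exists_plane
  set U := centralizer (A : Set S) with hU
  have hlt : A < U := lt_of_le_of_ne hA.le_centralizer fun e => hns ⟨A, hS, hA, h8, fun y hy => by
    rw [e]; exact mem_centralizer_iff.2 hy⟩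
  -- the four generators normalise `A`
  have hnorm : ∀ g : S, g * z = z * g → (g * (i * k) = i * k * g ∨ g * (i * k) = z * (i * k * g)) →
      (g * (j * l) = j * l * g ∨ g * (j * l) = z * (j * l * g)) → ∀ x ∈ A, g * x * g⁻¹ ∈ A := by
    intro g hz hp hq x hx
    have e1 : g * z * g⁻¹ ∈ A := by rw [hz, mul_inv_cancel_right]; exact hzA
    have e2 : g * (i * k) * g⁻¹ ∈ A := by
      rcases hp with e | e <;> rw [e]
      · rw [mul_inv_cancel_right]; exact hpA
      · rw [← mul_assoc z, mul_inv_cancel_right]; exact mul_mem hzA hpA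
    have e3 : g * (j * l) * g⁻¹ ∈ A := by
      rcases hq with e | e <;> rw [e]
      · rw [mul_inv_cancel_right]; exact hqA
      · rw [← mul_assoc z, mul_inv_cancel_right]; exact mul_mem hzA hqA
    rcases hAm x hx with rfl | rfl | rfl | rfl | rfl | rfl | rfl | rfl
    · rw [mul_one, mul_inv_cancel]; exact one_mem A
    · exact e1
    · exact e2
    · rw [← conj_mul]; exact mul_mem e1 e2
    · exact e3
    · rw [← conj_mul]; exact mul_mem e1 e3
    · rw [← conj_mul]; exact mul_mem e2 e3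
    · rw [← conj_mul, ← conj_mul]; exact mul_mem e1 (mul_mem e2 e3)
  have hz' : ∀ {a b : S}, b * a = z * (a * b) → a * b = z * (b * a) := fun {a b} e => by
    rw [e, ← mul_assoc, h.zz, one_mul]
  have hgen : ∀ g ∈ ({i, j, k, l} : Set S), ∀ x ∈ A, g * x * g⁻¹ ∈ A := by
    intro g hg
    simp only [Set.mem_insert_iff, Set.mem_singleton_iff] at hg
    rcases hg with rfl | rfl | rfl | rfl
    · refine hnorm g zi.symm (Or.inl (by rw [mul_assoc g k g, ← h.ik])) (Or.inr ?_)
      rw [← mul_assoc, hz' h.ji, mul_assoc z, mul_assoc j g l, h.il, ← mul_assoc j l g]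
    · refine hnorm g zj.symm (Or.inr ?_) (Or.inl (by rw [mul_assoc g l g, ← h.jl]))
      rw [← mul_assoc, h.ji, mul_assoc z, mul_assoc i g k, h.jk, ← mul_assoc i k g]
    · refine hnorm g zk.symm (Or.inl ?_) (Or.inr ?_)
      · rw [← mul_assoc, ← h.ik]
      · rw [← mul_assoc, ← h.jk, mul_assoc, hz' h.lk, ← mul_assoc j z, ← zj, mul_assoc z j,
          ← mul_assoc j l g]
    · refine hnorm g zl.symm (Or.inr ?_) (Or.inl (by rw [← mul_assoc, ← h.jl]))
      rw [← mul_assoc, ← h.il, mul_assoc, h.lk, ← mul_assoc i z, ← zi, mul_assoc z i,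
        ← mul_assoc i k g]
  obtain ⟨y, hy, hyA, hfix⟩ := exists_fixed_coset hS hlt
    (fun x hx n hn => by rw [conj_eq_of_comm (mem_centralizer_iff.1 hx n hn)]; exact hn)
    ({i, j, k, l} : Set S)
    (fun g hg x hx => by
      refine mem_centralizer_iff.2 fun w hw => ?_
      -- conjugation by `g` preserves `A`
      obtain ⟨v, hv, rfl⟩ : ∃ v ∈ A, g * v * g⁻¹ = w := by
        obtain ⟨v, hv⟩ := Finite.surjective_of_injective (f := fun v : A =>
          (⟨g * v * g⁻¹, hgen g hg v v.2⟩ : A)) (fun v v' e => Subtype.ext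
            (mul_left_cancel (mul_right_cancel (congrArg Subtype.val e)))) ⟨w, hw⟩
        exact ⟨v, v.2, congrArg Subtype.val hv⟩
      rw [conj_mul, conj_mul, mem_centralizer_iff.1 hx v hv])
    hgen
  have hyz : y * z * y⁻¹ = z := conj_eq_of_comm (mem_centralizer_iff.1 hy z hzA)
  -- `y` moves each generator within its coset of `A`
  have hmove : ∀ g ∈ ({i, j, k, l} : Set S), ∃ x ∈ A, y * g * y⁻¹ = g * x := by
    intro g hg
    refine ⟨g⁻¹ * (y * g * y⁻¹), ?_, by group⟩
    have hm := hgen g hg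
    have hw := inv_mem (hfix g hg)
    obtain ⟨v, hv⟩ := Finite.surjective_of_injective (f := fun v : A =>
      (⟨g * v * g⁻¹, hm v v.2⟩ : A)) (fun v v' e => Subtype.ext
        (mul_left_cancel (mul_right_cancel (congrArg Subtype.val e)))) ⟨_, hw⟩
    have e : g * (v : S) * g⁻¹ = (g * y * g⁻¹ * y⁻¹)⁻¹ := congrArg Subtype.val hv
    have e' : g⁻¹ * (y * g * y⁻¹) = v := by
      calc g⁻¹ * (y * g * y⁻¹) = g⁻¹ * (g * y * g⁻¹ * y⁻¹)⁻¹ * g := by group
        _ = v := by rw [← e]; group
    rw [e']; exact v.2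
  -- squares are preserved
  have hsq : ∀ g ∈ ({i, j, k, l} : Set S), g * g = z → ∀ x ∈ A, y * g * y⁻¹ = g * x →
      x * g = g * x := by
    intro g _ hgg x hx e
    have h1 : g * x * (g * x) = z := by rw [← e, conj_mul, hgg, hyz]
    rw [show g * x * (g * x) = g * (x * g) * x by group] at h1
    calc x * g = g⁻¹ * (g * (x * g) * x) * x⁻¹ := by group
      _ = g⁻¹ * (g * g) * x := by rw [h1, hgg, hA.inv hx]
      _ = g * x := by group
  obtain ⟨u, hu, hui⟩ := hmove i (Or.inl rfl)
  obtain ⟨v, hv, hvj⟩ := hmove j (Or.inr (Or.inl rfl))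
  have hui' := hsq i (Or.inl rfl) h.ii u hu hui
  have hvj' := hsq j (Or.inr (Or.inl rfl)) h.jj v hv hvj
  have hne : ∀ {w : S}, z * w ≠ w := fun e => h.z1 (mul_eq_right.1 e)
  -- elements of `A` commuting with `i`, resp. `j`
  have hqi : (j * l) * i ≠ i * (j * l) := fun e => by
    rw [mul_assoc, ← h.il, ← mul_assoc, h.ji, mul_assoc z, mul_assoc i j l] at e
    exact hne e
  have hpj : (i * k) * j ≠ j * (i * k) := fun e => by
    rw [mul_assoc, ← h.jk, ← mul_assoc, ← mul_assoc, h.ji, mul_assoc z] at e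
    exact hne e.symm
  have hqi2 : ∀ w, w * i = i * w → (w * (j * l)) * i ≠ i * (w * (j * l)) := fun w hw e => hqi (by
    rw [← mul_assoc i w, ← hw, mul_assoc w _ i, mul_assoc w i] at e
    exact mul_left_cancel e)
  have hpj2 : ∀ w, w * j = j * w → (w * (i * k)) * j ≠ j * (w * (i * k)) := fun w hw e => hpj (by
    rw [← mul_assoc j w, ← hw, mul_assoc w _ j, mul_assoc w j] at e
    exact mul_left_cancel e)
  have hpi : (i * k) * i = i * (i * k) := by rw [mul_assoc, ← h.ik]
  have hqj : (j * l) * j = j * (j * l) := by rw [mul_assoc, ← h.jl]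
  have hzp' : z * (i * k) * i = i * (z * (i * k)) := by
    rw [mul_assoc, hpi, ← mul_assoc, zi, mul_assoc]
  have hu' : u = 1 ∨ u = z ∨ u = i * k ∨ u = z * (i * k) := by
    rcases hAm u hu with e | e | e | e | e | e | e | e
    exacts [Or.inl e, Or.inr (Or.inl e), Or.inr (Or.inr (Or.inl e)), Or.inr (Or.inr (Or.inr e)),
      absurd (e ▸ hui') hqi, absurd (e ▸ hui') (hqi2 z zi), absurd (e ▸ hui') (hqi2 _ hpi),
      absurd (by rw [e, ← mul_assoc] at hui'; exact hui') (hqi2 _ hzp')]
  have hv' : v = 1 ∨ v = z ∨ v = j * l ∨ v = z * (j * l) := by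
    have hpq : i * k * (j * l) = j * l * (i * k) := hA.comm _ hpA _ hqA
    rcases hAm v hv with e | e | e | e | e | e | e | e
    exacts [Or.inl e, Or.inr (Or.inl e), absurd (e ▸ hvj') hpj, absurd (e ▸ hvj') (hpj2 z zj),
      Or.inr (Or.inr (Or.inl e)), Or.inr (Or.inr (Or.inr e)),
      absurd (by rw [e, hpq] at hvj'; exact hvj') (hpj2 _ hqj),
      absurd (by rw [e, hpq, ← mul_assoc] at hvj'; exact hvj')
        (hpj2 _ (by rw [mul_assoc, hqj, ← mul_assoc, zj, mul_assoc]))]
  have hyp : y * (i * k) * y⁻¹ = i * k := conj_eq_of_comm (mem_centralizer_iff.1 hy _ hpA)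
  have hyq : y * (j * l) * y⁻¹ = j * l := conj_eq_of_comm (mem_centralizer_iff.1 hy _ hqA)
  have hk' : y * k * y⁻¹ = (y * i * y⁻¹)⁻¹ * (i * k) := by rw [← hyp]; group
  have hl' : y * l * y⁻¹ = (y * j * y⁻¹)⁻¹ * (j * l) := by rw [← hyq]; group
  have hzi' : z⁻¹ = z := inv_eq_of_mul_eq_one_right h.zz
  have hinv : ∀ {g : S}, g * g = z → g⁻¹ = z * g := fun {g} e =>
    inv_eq_of_mul_eq_one_left (by rw [mul_assoc, e, h.zz])
  have hji' : (z * (i * j)) ≠ i * j := hne
  -- the two generators are moved, or not, simultaneously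
  have hrel : (y * j * y⁻¹) * (y * i * y⁻¹) = z * ((y * i * y⁻¹) * (y * j * y⁻¹)) := by
    rw [conj_mul, h.ji, ← conj_mul, hyz, conj_mul]
  have hk2 : ∀ (g g' m : S), g * g = z → m = g * g' → g * (z * g') = g * g' * z →
      g * m = z * g' ∧ g * (z * m) = g' := by
    intro g g' m e1 e2 _
    have e3 : g * m = z * g' := by rw [e2, ← mul_assoc, e1]
    have zg : z * g = g * z := by rw [← e1, mul_assoc]
    refine ⟨e3, ?_⟩
    rw [← mul_assoc, ← zg, mul_assoc, e3, ← mul_assoc, h.zz, one_mul]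
  obtain ⟨hik1, hik2⟩ := hk2 i k (i * k) h.ii rfl (by rw [zk, mul_assoc])
  obtain ⟨hjl1, hjl2⟩ := hk2 j l (j * l) h.jj rfl (by rw [zl, mul_assoc])
  -- both fixed or both exchanged
  have hboth : ((u = 1 ∨ u = z) ∧ (v = 1 ∨ v = z)) ∨
      ((u = i * k ∨ u = z * (i * k)) ∧ (v = j * l ∨ v = z * (j * l))) := by
    have hcent : ∀ {g g' G G' : S}, (G = g ∨ G = z * g) → (G' = g' ∨ G' = z * g') →
        Commute g g' → Commute z g → Commute z g' → Commute G G' := by
      intro g g' G G' hG hG' c p q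
      rcases hG with rfl | rfl <;> rcases hG' with rfl | rfl
      · exact c
      · exact p.symm.mul_right c
      · exact q.mul_left c
      · exact ((Commute.refl z).mul_right q).mul_left (p.symm.mul_right c)
    have hfalse : ∀ {g g' : S}, (y * i * y⁻¹ = g ∨ y * i * y⁻¹ = z * g) →
        (y * j * y⁻¹ = g' ∨ y * j * y⁻¹ = z * g') →
        Commute g g' → Commute z g → Commute z g' → False := by
      intro g g' hG hG' c p q
      rw [(hcent hG hG' c p q).eq] at hrel
      exact hne hrel.symm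
    rcases hu' with eu | eu | eu | eu <;> rcases hv' with ev | ev | ev | ev
    all_goals first
      | exact Or.inl ⟨by first | exact Or.inl eu | exact Or.inr eu,
          by first | exact Or.inl ev | exact Or.inr ev⟩
      | exact Or.inr ⟨by first | exact Or.inl eu | exact Or.inr eu,
          by first | exact Or.inl ev | exact Or.inr ev⟩
      | (exfalso
         rw [eu] at hui
         rw [ev] at hvj
         simp only [hik1, hik2, hjl1, hjl2, mul_one, ← zi, ← zj] at hui hvj
         first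
           | exact hfalse (g := i) (g' := l) (by first | exact Or.inl hui | exact Or.inr hui)
               (by first | exact Or.inl hvj | exact Or.inr hvj) h.il zi zl
           | exact hfalse (g := k) (g' := j) (by first | exact Or.inl hui | exact Or.inr hui)
               (by first | exact Or.inl hvj | exact Or.inr hvj) h.jk.symm zk zj)
  rcases hboth with ⟨eu, ev⟩ | ⟨eu, ev⟩
  · exfalso
    -- a translate of `y` centralizes the four generators
    obtain ⟨a, ha, hai, hak⟩ : ∃ a ∈ A, a * i * a⁻¹ = i * u ∧ a * j * a⁻¹ = j * v := by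
      have cjl : (j * l) * i * (j * l)⁻¹ = i * z := by
        rw [mul_assoc j l i, ← h.il, ← mul_assoc, h.ji, mul_assoc z, mul_assoc i j l,
          ← mul_assoc z i, zi, mul_inv_cancel_right]
      have cjl' : (j * l) * j * (j * l)⁻¹ = j := conj_eq_of_comm hqj.symm
      have cik : (i * k) * j * (i * k)⁻¹ = j * z := by
        rw [mul_assoc i k j, ← h.jk, ← mul_assoc, hz' h.ji, mul_assoc z, mul_assoc j i k,
          ← mul_assoc z j, zj, mul_inv_cancel_right]
      have cik' : (i * k) * i * (i * k)⁻¹ = i := conj_eq_of_comm hpi.symm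
      rcases eu with eu | eu <;> rcases ev with ev | ev <;> rw [eu, ev]
      · exact ⟨1, one_mem A, by simp, by simp⟩
      · exact ⟨i * k, hpA, by rw [cik', mul_one], cik⟩
      · exact ⟨j * l, hqA, cjl, by rw [cjl', mul_one]⟩
      · refine ⟨i * k * (j * l), mul_mem hpA hqA, ?_, ?_⟩
        · rw [show i * k * (j * l) * i * (i * k * (j * l))⁻¹ =
            (i * k) * ((j * l) * i * (j * l)⁻¹) * (i * k)⁻¹ by group, cjl, ← conj_mul, cik',
            conj_eq_of_comm (hA.comm z hzA _ hpA)]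
        · rw [show i * k * (j * l) * j * (i * k * (j * l))⁻¹ =
            (i * k) * ((j * l) * j * (j * l)⁻¹) * (i * k)⁻¹ by group, cjl', cik]
    have hfixg : ∀ {g g' : S}, y * g * y⁻¹ = g' → a * g * a⁻¹ = g' →
        (a⁻¹ * y) * g = g * (a⁻¹ * y) := by
      intro g g' e e'
      have : a⁻¹ * (y * g * y⁻¹) * a = g := by rw [e, ← e']; group
      calc a⁻¹ * y * g = (a⁻¹ * (y * g * y⁻¹) * a) * (a⁻¹ * y) := by group
        _ = g * (a⁻¹ * y) := by rw [this]
    have e1 := hfixg hui hai
    have e2 := hfixg hvj hak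
    have hay : ∀ w ∈ A, (a⁻¹ * y) * w = w * (a⁻¹ * y) := fun w hw =>
      (mem_centralizer_iff.1 (mul_mem (inv_mem (hA.le_centralizer ha)) hy) w hw).symm
    have e3 : (a⁻¹ * y) * k = k * (a⁻¹ * y) := by
      have := hay _ hpA
      rw [← mul_assoc, e1, mul_assoc, mul_assoc i k] at this
      exact mul_left_cancel this
    have e4 : (a⁻¹ * y) * l = l * (a⁻¹ * y) := by
      have := hay _ hqA
      rw [← mul_assoc, e2, mul_assoc, mul_assoc j l] at this
      exact mul_left_cancel this
    have hm := hCQ _ e1 e2 e3 e4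
    rcases h.centre _ e1 e2 e3 e4 with e | e
    · exact hyA (by rw [show y = a * (a⁻¹ * y) by group, e, mul_one]; exact ha)
    · exact hyA (by rw [show y = a * (a⁻¹ * y) by group, e]; exact mul_mem ha hzA)
  · have hyi : y * i * y⁻¹ = k ∨ y * i * y⁻¹ = z * k := by
      rcases eu with eu | eu <;> rw [hui, eu]
      · exact Or.inr hik1
      · exact Or.inl hik2
    have hyj : y * j * y⁻¹ = l ∨ y * j * y⁻¹ = z * l := by
      rcases ev with ev | ev <;> rw [hvj, ev]
      · exact Or.inr hjl1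
      · exact Or.inl hjl2
    refine ⟨y, hyz, hyi, hyj, ?_, ?_⟩
    · rw [hk']
      rcases hyi with e | e <;> rw [e]
      · exact Or.inl (by rw [h.ik, inv_mul_cancel_left])
      · refine Or.inr ?_
        rw [mul_inv_rev, hzi', h.ik, mul_assoc, ← mul_assoc z k i, zk, mul_assoc k z i,
          inv_mul_cancel_left]
    · rw [hl']
      rcases hyj with e | e <;> rw [e]
      · exact Or.inl (by rw [h.jl, inv_mul_cancel_left])
      · refine Or.inr ?_
        rw [mul_inv_rev, hzi', h.jl, mul_assoc, ← mul_assoc z l j, zl, mul_assoc l z j,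
          inv_mul_cancel_left]

end QuatPair


theorem quaternion_facts :
    (QuaternionGroup.a 1 : QuaternionGroup 2) * QuaternionGroup.a 1 = QuaternionGroup.a 2 ∧
    (QuaternionGroup.xa 0 : QuaternionGroup 2) * QuaternionGroup.xa 0 = QuaternionGroup.a 2 ∧
    (QuaternionGroup.xa 0 : QuaternionGroup 2) * QuaternionGroup.a 1 =
      QuaternionGroup.a 2 * (QuaternionGroup.a 1 * QuaternionGroup.xa 0) ∧
    (QuaternionGroup.a 2 : QuaternionGroup 2) * QuaternionGroup.a 2 = 1 ∧
    (QuaternionGroup.a 2 : QuaternionGroup 2) ≠ 1 ∧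
    (∀ x : QuaternionGroup 2, x * QuaternionGroup.a 1 = QuaternionGroup.a 1 * x →
      x * QuaternionGroup.xa 0 = QuaternionGroup.xa 0 * x → x = 1 ∨ x = QuaternionGroup.a 2) := by
  decide +kernel

/-- Generators of a quaternion subgroup. -/
theorem exists_quaternion_gen {Q₁ : Subgroup S} (e₁ : Q₁ ≃* QuaternionGroup 2) :
    ∃ i j z : S, i ∈ Q₁ ∧ j ∈ Q₁ ∧ z ∈ Q₁ ∧ i * i = z ∧ j * j = z ∧ j * i = z * (i * j) ∧
      z * z = 1 ∧ z ≠ 1 ∧
      (∀ x ∈ Q₁, x * i = i * x → x * j = j * x → x = 1 ∨ x = z) := by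
  obtain ⟨f1, f2, f3, f4, f5, f6⟩ := quaternion_facts
  have key : ∀ p q : QuaternionGroup 2, ((e₁.symm p : Q₁) : S) * (e₁.symm q : Q₁) =
      ((e₁.symm (p * q) : Q₁) : S) := fun p q => by rw [map_mul, Subgroup.coe_mul]
  refine ⟨_, _, _, (e₁.symm (QuaternionGroup.a 1)).2, (e₁.symm (QuaternionGroup.xa 0)).2,
    (e₁.symm (QuaternionGroup.a 2)).2, by rw [key, f1], by rw [key, f2],
    by rw [key, key, key, f3], by rw [key, f4, map_one]; rfl, fun e => f5 ?_, fun x hx e1 e2 => ?_⟩
  · exact (map_eq_one_iff _ e₁.symm.injective).1 (Subtype.ext e)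
  · have h1 := congrArg e₁ (Subtype.ext e1 :
      (⟨x, hx⟩ : Q₁) * e₁.symm (QuaternionGroup.a 1) = e₁.symm (QuaternionGroup.a 1) * ⟨x, hx⟩)
    have h2 := congrArg e₁ (Subtype.ext e2 :
      (⟨x, hx⟩ : Q₁) * e₁.symm (QuaternionGroup.xa 0) = e₁.symm (QuaternionGroup.xa 0) * ⟨x, hx⟩)
    rw [map_mul, map_mul, MulEquiv.apply_symm_apply] at h1 h2
    rcases f6 _ h1 h2 with e | e
    · left
      exact congrArg Subtype.val ((map_eq_one_iff _ e₁.injective).1 e)
    · right
      exact congrArg Subtype.val (e₁.eq_symm_apply.2 e)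

/-- A self-centralizing central product of two quaternion groups. -/
theorem sectional_of_quaternion (hS : IsPGroup 2 S) (Q Q₁ Q₂ : Subgroup S)
    (e₁ : Q₁ ≃* QuaternionGroup 2) (e₂ : Q₂ ≃* QuaternionGroup 2)
    (hcomm : ∀ a ∈ Q₁, ∀ b ∈ Q₂, a * b = b * a) (hQ : Q₁ ⊔ Q₂ = Q) (hQ32 : Nat.card Q = 32)
    (hC : centralizer (Q : Set S) ≤ Q) : Cfsg.SectionalPRankLE 2 4 S := by
  have h1 : Q₁ ≤ Q := hQ ▸ le_sup_left
  have h2 : Q₂ ≤ Q := hQ ▸ le_sup_right
  obtain ⟨i, j, z, hi, hj, hz, hii, hjj, hji, hzz, hz1, hc1⟩ := exists_quaternion_gen e₁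
  obtain ⟨k, l, z', hk, hl, hz', hkk, hll, hlk, -, hz1', hc2⟩ := exists_quaternion_gen e₂
  have hzz' : z = z' := by
    by_contra hne
    let f : Q₁ × Q₂ → Q := fun p => ⟨p.1 * p.2, mul_mem (h1 p.1.2) (h2 p.2.2)⟩
    have hf : Function.Injective f := by
      intro p q e
      have e' : (p.1 : S) * p.2 = q.1 * q.2 := congrArg Subtype.val e
      set w := (q.1 : S)⁻¹ * p.1 with hw
      have hw1 : w ∈ Q₁ := mul_mem (inv_mem q.1.2) p.1.2
      have hw2 : w ∈ Q₂ := by
        rw [show w = (q.2 : S) * (p.2 : S)⁻¹ by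
          rw [hw, inv_mul_eq_iff_eq_mul, ← mul_assoc, eq_mul_inv_iff_mul_eq, e']]
        exact mul_mem q.2.2 (inv_mem p.2.2)
      have hw' : w = 1 := by
        rcases hc1 w hw1 (hcomm i hi w hw2).symm (hcomm j hj w hw2).symm with e | e
        · exact e
        rcases hc2 w hw2 (hcomm w hw1 k hk) (hcomm w hw1 l hl) with e2 | e2
        · exact e2
        · exact absurd (e.symm.trans e2) hne
      have hp : (p.1 : S) = q.1 := (inv_mul_eq_one.1 hw').symm
      rw [hp, mul_left_cancel_iff] at e'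
      exact Prod.ext (Subtype.ext hp) (Subtype.ext e')
    have := Nat.card_le_card_of_injective f hf
    rw [Nat.card_prod, Nat.card_congr e₁.toEquiv, Nat.card_congr e₂.toEquiv,
      Nat.card_eq_fintype_card, QuaternionGroup.card, hQ32] at this
    omega
  subst hzz'
  -- every element of `Q` is a product
  let D : Subgroup S :=
    { carrier := {x | ∃ u ∈ Q₁, ∃ v ∈ Q₂, x = u * v}
      one_mem' := ⟨1, one_mem _, 1, one_mem _, (mul_one 1).symm⟩
      mul_mem' := by
        rintro _ _ ⟨u, hu, v, hv, rfl⟩ ⟨u', hu', v', hv', rfl⟩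
        refine ⟨u * u', mul_mem hu hu', v * v', mul_mem hv hv', ?_⟩
        calc u * v * (u' * v') = u * (v * u') * v' := by group
          _ = u * u' * (v * v') := by rw [← hcomm u' hu' v hv]; group
      inv_mem' := by
        rintro _ ⟨u, hu, v, hv, rfl⟩
        exact ⟨u⁻¹, inv_mem hu, v⁻¹, inv_mem hv, by
          rw [mul_inv_rev, hcomm u⁻¹ (inv_mem hu) v⁻¹ (inv_mem hv)]⟩ }
  have hQD : Q ≤ D := hQ ▸ sup_le (fun u hu => ⟨u, hu, 1, one_mem _, (mul_one u).symm⟩)
    (fun v hv => ⟨1, one_mem _, v, hv, (one_mul v).symm⟩)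
  have hcentre : ∀ x : S, x * i = i * x → x * j = j * x → x * k = k * x → x * l = l * x →
      x = 1 ∨ x = z := by
    -- first for elements of `Q`
    have inQ : ∀ x ∈ Q, x * i = i * x → x * j = j * x → x * k = k * x → x * l = l * x →
        x = 1 ∨ x = z := by
      intro x hx a b c d
      obtain ⟨u, hu, v, hv, rfl⟩ := hQD hx
      have cancelR : ∀ g ∈ Q₁, u * v * g = g * (u * v) → u * g = g * u := fun g hg e => by
        rw [mul_assoc, ← hcomm g hg v hv, ← mul_assoc, ← mul_assoc] at e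
        exact mul_right_cancel e
      have cancelL : ∀ g ∈ Q₂, u * v * g = g * (u * v) → v * g = g * v := fun g hg e => by
        rw [mul_assoc, ← mul_assoc g u v, ← hcomm u hu g hg, mul_assoc] at e
        exact mul_left_cancel e
      rcases hc1 u hu (cancelR i hi a) (cancelR j hj b) with rfl | rfl <;>
        rcases hc2 v hv (cancelL k hk c) (cancelL l hl d) with rfl | rfl
      · left; simp
      · right; simp
      · right; simp
      · left; exact hzz
    intro x a b c d
    -- generated by the four elements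
    refine inQ x (hC ?_) a b c d
    have hgen : ∀ {R : Subgroup S} (e : R ≃* QuaternionGroup 2) (p q : S), p ∈ R → q ∈ R →
        x * p = p * x → x * q = q * x → p * p = q * q → q * p ≠ p * q →
        R ≤ centralizer {x} := by
      intro R e p q hp hq hxp hxq hpq hne r hr
      -- the centralizer contains five elements of `R`
      let f : Fin 5 → ↥(R ⊓ centralizer ({x} : Set S)) :=
        ![1, ⟨p, hp, mem_centralizer_singleton_iff.2 hxp.symm⟩,
          ⟨q, hq, mem_centralizer_singleton_iff.2 hxq.symm⟩,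
          ⟨p * q, mul_mem ⟨hp, mem_centralizer_singleton_iff.2 hxp.symm⟩
            ⟨hq, mem_centralizer_singleton_iff.2 hxq.symm⟩⟩,
          ⟨q * p, mul_mem ⟨hq, mem_centralizer_singleton_iff.2 hxq.symm⟩
            ⟨hp, mem_centralizer_singleton_iff.2 hxp.symm⟩⟩]
      have hf : Function.Injective f := by
        have n1 : p ≠ 1 := fun e => hne (by rw [e]; simp)
        have n2 : q ≠ 1 := fun e => hne (by rw [e]; simp)
        have n3 : p ≠ q := fun e => hne (by rw [e])
        have n4 : p * q ≠ 1 := fun e => hne (by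
          rw [eq_inv_of_mul_eq_one_right e]; simp)
        have n5 : q * p ≠ 1 := fun e => hne (by
          rw [eq_inv_of_mul_eq_one_right e]; simp)
        intro s t hst
        have e' := congrArg Subtype.val hst
        fin_cases s <;> fin_cases t <;> simp [f, n1, n2] at e' ⊢ <;>
          first
            | exact n1 e' | exact n1 e'.symm | exact n2 e' | exact n2 e'.symm | exact n3 e'
            | exact n3 e'.symm | exact n4 e' | exact n4 e'.symm | exact n5 e' | exact n5 e'.symm
            | exact hne e' | exact hne e'.symm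
      have h5 := Nat.card_le_card_of_injective f hf
      rw [Nat.card_fin] at h5
      have hR8 : Nat.card R = 8 := by
        rw [Nat.card_congr e.toEquiv, Nat.card_eq_fintype_card, QuaternionGroup.card]
      have h8 := eq_eight_of_two_pow (exists_two_pow hS _) h5 (hR8 ▸ card_le_of_le inf_le_left)
      have := eq_of_le_of_card_ge (inf_le_left : R ⊓ centralizer {x} ≤ R) (by rw [h8, hR8])
      have hr' : r ∈ R ⊓ centralizer {x} := by rw [this]; exact hr
      exact hr'.2
    have hle : Q ≤ centralizer {x} := hQ ▸ sup_le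
      (hgen e₁ i j hi hj a b (hii.trans hjj.symm) fun e => hz1 (by
        rw [hji] at e; exact mul_eq_right.1 e))
      (hgen e₂ k l hk hl c d (hkk.trans hll.symm) fun e => hz1 (by
        rw [hlk] at e; exact mul_eq_right.1 e))
    exact mem_centralizer_iff.2 fun r hr => mem_centralizer_singleton_iff.1 (hle hr)
  have hP : QuatPair Q z i j k l := ⟨h1 hi, h1 hj, h2 hk, h2 hl, hz1, hzz, hii, hjj, hkk, hll, hji,
    hlk, hcomm i hi k hk, hcomm i hi l hl, hcomm j hj k hk, hcomm j hj l hl, hcentre⟩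
  by_contra hns
  have hns' : ¬ ∃ A : Subgroup S, SelfCent A := fun ⟨A, hA⟩ => hns hA.sectional
  have hCQ : ∀ y : S, y * i = i * y → y * j = j * y → y * k = k * y → y * l = l * y → y ∈ Q :=
    fun y a b c d => by
      rcases hcentre y a b c d with rfl | rfl
      · exact one_mem Q
      · exact h1 hz
  obtain ⟨zi, zj, zk, zl⟩ := hP.zcomm
  obtain ⟨y, hyz, yi, yj, yk, yl⟩ := hP.swap hS hCQ hns'
  obtain ⟨y', hyz', yi', yj', yl', ykl'⟩ := hP.twist.swap hS
    (fun w a b c d => hCQ w a b (by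
      have : w * (k * l) * l⁻¹ = k * w := by rw [d, mul_assoc k l w, ← c]; group
      calc w * k = w * (k * l) * l⁻¹ := by group
        _ = k * w := this) c) hns'
  -- congruence modulo `z`
  let R : S → S → Prop := fun p q => p = q ∨ p = z * q
  have Rt : ∀ {p q r : S}, R p q → R q r → R p r := by
    rintro p q r (rfl | rfl) (rfl | rfl)
    · exact Or.inl rfl
    · exact Or.inr rfl
    · exact Or.inr rfl
    · exact Or.inl (by rw [← mul_assoc, hzz, one_mul])
  have Rm : ∀ {p q p' q' : S}, R p p' → R q q' → z * p' = p' * z → R (p * q) (p' * q') := by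
    intro p q p' q' hp hq hc
    rcases hp with rfl | rfl <;> rcases hq with rfl | rfl
    · exact Or.inl rfl
    · exact Or.inr (by rw [← mul_assoc, ← hc, mul_assoc])
    · exact Or.inr (mul_assoc _ _ _)
    · refine Or.inl ?_
      calc z * p' * (z * q') = z * (p' * z) * q' := by group
        _ = (z * z) * (p' * q') := by rw [← hc]; group
        _ = p' * q' := by rw [hzz, one_mul]
  set g := y' * y with hg
  have hgz : g * z * g⁻¹ = z := by
    rw [hg, show y' * y * z * (y' * y)⁻¹ = y' * (y * z * y⁻¹) * y'⁻¹ by group, hyz, hyz']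
  have Rc : ∀ {w p q : S}, w * z * w⁻¹ = z → R p q → R (w * p * w⁻¹) (w * q * w⁻¹) := by
    rintro w p q hw (rfl | rfl)
    · exact Or.inl rfl
    · exact Or.inr (by rw [← conj_mul, hw])
  have hy'k : R (y' * k * y'⁻¹) (j * i) := by
    have hkl : R k (z * ((k * l) * l)) := Or.inl (by
      rw [mul_assoc, hll, ← zk, ← mul_assoc, hzz, one_mul])
    have hdrop : R (z * ((k * l) * l)) ((k * l) * l) := Or.inr rfl
    refine Rt (Rc hyz' (Rt hkl hdrop)) ?_
    rw [← conj_mul]
    exact Rm ykl' yl' zj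
  have hgi : R (g * i * g⁻¹) (j * i) := by
    rw [hg, show y' * y * i * (y' * y)⁻¹ = y' * (y * i * y⁻¹) * y'⁻¹ by group]
    exact Rt (Rc hyz' yi) hy'k
  have hgj : R (g * j * g⁻¹) i := by
    rw [hg, show y' * y * j * (y' * y)⁻¹ = y' * (y * j * y⁻¹) * y'⁻¹ by group]
    exact Rt (Rc hyz' yj) yl'
  have hg2 : R (g * (j * i) * g⁻¹) j := by
    rw [← conj_mul]
    refine Rt (Rm hgj hgi zi) (Or.inl ?_)
    calc i * (j * i) = i * (z * (i * j)) := by rw [hji]
      _ = (i * z) * i * j := by group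
      _ = z * (i * i) * j := by rw [← zi]; group
      _ = j := by rw [hii, hzz, one_mul]
  have hpow2 : R (g ^ 2 * i * (g ^ 2)⁻¹) j := by
    rw [show g ^ 2 * i * (g ^ 2)⁻¹ = g * (g * i * g⁻¹) * g⁻¹ by
      rw [pow_two]; group]
    exact Rt (Rc hgz hgi) hg2
  have hpow3 : ∀ m : ℕ, R (g ^ (3 * m) * i * (g ^ (3 * m))⁻¹) i := by
    intro m
    induction m with
    | zero => exact Or.inl (by simp)
    | succ m ih =>
      have h3 : R (g ^ 3 * i * (g ^ 3)⁻¹) i := by
        rw [show g ^ 3 * i * (g ^ 3)⁻¹ = g * (g ^ 2 * i * (g ^ 2)⁻¹) * g⁻¹ by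
          rw [pow_succ' g 2]; group]
        exact Rt (Rc hgz hpow2) hgj
      have hz3 : g ^ 3 * z * (g ^ 3)⁻¹ = z := by
        have e : g * z = z * g := mul_inv_eq_iff_eq_mul.1 hgz
        exact mul_inv_eq_iff_eq_mul.2 ((Commute.pow_left e 3).eq)
      rw [show 3 * (m + 1) = 3 + 3 * m by ring, pow_add,
        show g ^ 3 * g ^ (3 * m) * i * (g ^ 3 * g ^ (3 * m))⁻¹ =
          g ^ 3 * (g ^ (3 * m) * i * (g ^ (3 * m))⁻¹) * (g ^ 3)⁻¹ by group]
      exact Rt (Rc hz3 ih) h3
  have hne : ∀ {w : S}, z * w ≠ w := fun e => hz1 (mul_eq_right.1 e)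
  obtain ⟨n, hn⟩ := hS g
  have hmod : 2 ^ n % 3 = 1 ∨ 2 ^ n % 3 = 2 := by
    have : ¬ 3 ∣ 2 ^ n := fun hd => by
      have := (Nat.prime_three.dvd_of_dvd_pow hd)
      omega
    omega
  have hfin : R i (g ^ (2 ^ n % 3) * i * (g ^ (2 ^ n % 3))⁻¹) ∧
      R (g ^ (2 ^ n % 3) * i * (g ^ (2 ^ n % 3))⁻¹) i := by
    have hz' : ∀ r : ℕ, g ^ r * z * (g ^ r)⁻¹ = z := fun r =>
      mul_inv_eq_iff_eq_mul.2 ((Commute.pow_left (mul_inv_eq_iff_eq_mul.1 hgz : g * z = z * g) r).eq)
    have e := Rc (hz' (2 ^ n % 3)) (hpow3 (2 ^ n / 3))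
    rw [show g ^ (2 ^ n % 3) * (g ^ (3 * (2 ^ n / 3)) * i * (g ^ (3 * (2 ^ n / 3)))⁻¹) *
      (g ^ (2 ^ n % 3))⁻¹ =
      (g ^ (2 ^ n % 3) * g ^ (3 * (2 ^ n / 3))) * i *
        (g ^ (2 ^ n % 3) * g ^ (3 * (2 ^ n / 3)))⁻¹ by group, ← pow_add, Nat.mod_add_div, hn,
      one_mul, inv_one, mul_one] at e
    refine ⟨e, ?_⟩
    rcases e with e | e
    · exact Or.inl e.symm
    · exact Or.inr (by
        calc g ^ (2 ^ n % 3) * i * (g ^ (2 ^ n % 3))⁻¹
            = (z * z) * (g ^ (2 ^ n % 3) * i * (g ^ (2 ^ n % 3))⁻¹) := by rw [hzz, one_mul]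
          _ = z * i := by rw [mul_assoc, ← e])
  rcases hmod with e | e <;> rw [e] at hfin
  · rw [pow_one] at hfin
    rcases Rt hfin.1 hgi with e | e
    · have hj1 : j = 1 := mul_eq_right.1 e.symm
      rw [hj1, one_mul] at hjj
      exact hz1 hjj.symm
    · have hzj : z * j = 1 := mul_eq_right.1 ((mul_assoc z j i).trans e.symm)
      have hjz : j = z := (eq_inv_of_mul_eq_one_right hzj).trans (inv_eq_of_mul_eq_one_right hzz)
      rw [hjz, hzz] at hjj
      exact hz1 hjj.symm
  · have hij : R i j := Rt hfin.1 hpow2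
    have hcomm' : j * i = i * j := by
      rcases hij with e | e <;> rw [e]
      rw [← mul_assoc, ← zj]
    rw [hji] at hcomm'
    exact hne hcomm'

end CfsgLib.SelfCentEight
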