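import Cfsg.Agent.SelfCentEight.ProductFour
import Cfsg.Prelude.Def_CaseTheorems
import Cfsg.Prelude.Def_TwoFusion
import Mathlib.GroupTheory.SpecificGroups.Dihedral

/-!
Sectional rank of a finite group from its Sylow 2-subgroup, applied to centralizers of shape
(dihedral or semidihedral) × four-group.
-/

set_option autoImplicit false
set_option linter.style.haveILetI false
set_option linter.unusedSectionVars false

namespace CfsgLib.SelfCentEight

open Subgroup

universe u

variable {G : Type u} [Group G] [Finite G]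

/-- A bound on the Frattini indices in a Sylow 2-subgroup bounds the sectional rank. -/
theorem sectional_of_sylow (S : Sylow 2 G)
    (hbound : ∀ H : Subgroup (S : Subgroup G), (frattini H).index ≤ 16) :
    Cfsg.SectionalPRankLE 2 4 G := by
  haveI : Fact (Nat.Prime 2) := ⟨Nat.prime_two⟩
  intro H N hN E hEc hEe
  set T := E.comap (QuotientGroup.mk' N) with hT
  let φ : T →* E := (QuotientGroup.mk' N).subgroupComap E
  have hφ : Function.Surjective φ := by
    intro q
    obtain ⟨h, hh⟩ := QuotientGroup.mk'_surjective N (q : H ⧸ N)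
    exact ⟨⟨h, by rw [hT, mem_comap, hh]; exact q.2⟩, Subtype.ext hh⟩
  obtain ⟨Q⟩ : Nonempty (Sylow 2 T) := inferInstance
  let ψ : (Q : Subgroup T) →* E := φ.comp (Q : Subgroup T).subtype
  have hψ : Function.Surjective ψ := by
    rw [← MonoidHom.range_eq_top, ← index_eq_one]
    have hE2 : IsPGroup 2 E := fun x => ⟨1, by
      rw [pow_one]; exact Subtype.ext (by simpa using hEe _ x.2)⟩
    obtain ⟨k, hk⟩ := hE2.index ψ.range
    have hd : ψ.range.index ∣ (Q : Subgroup T).index := by
      have := (Q : Subgroup T).index_map φ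
      rw [show ψ.range = (Q : Subgroup T).map φ by
        rw [MonoidHom.range_comp, range_subtype]]
      exact Subgroup.index_map_dvd (H := (Q : Subgroup T)) hφ
    rcases Nat.eq_zero_or_pos k with rfl | hk0
    · simpa using hk
    exact absurd ((dvd_pow_self 2 hk0.ne').trans (hk ▸ hd)) Q.not_dvd_index
  -- move the Sylow subgroup into `S`
  let emb : (Q : Subgroup T) →* G := H.subtype.comp (T.subtype.comp (Q : Subgroup T).subtype)
  have hemb : Function.Injective emb :=
    H.subtype_injective.comp (T.subtype_injective.comp (Q : Subgroup T).subtype_injective)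
  have hR : IsPGroup 2 emb.range :=
    Q.isPGroup'.of_equiv (MonoidHom.ofInjective hemb)
  obtain ⟨S', hS'⟩ := hR.exists_le_sylow
  let e : (S' : Subgroup G) ≃* (S : Subgroup G) := S'.equiv S
  let f : (Q : Subgroup T) →* (S : Subgroup G) :=
    e.toMonoidHom.comp (emb.codRestrict (S' : Subgroup G) fun x => hS' ⟨x, rfl⟩)
  have hf : Function.Injective f := e.injective.comp fun a b hab =>
    hemb (congrArg (fun w : (S' : Subgroup G) => (w : G)) hab)
  let χ : f.range →* E := ψ.comp (MonoidHom.ofInjective hf).symm.toMonoidHom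
  have hχ : Function.Surjective χ := hψ.comp (MonoidHom.ofInjective hf).symm.surjective
  have hker : frattini f.range ≤ χ.ker := by
    refine CfsgLib.PGroupBasic.frattini_le_of_elementary (p := 2) _ ?_ fun x => ?_
    · rw [_root_.commutator_def, commutator_le]
      intro x _ y _
      rw [MonoidHom.mem_ker, map_commutatorElement]
      exact commutatorElement_eq_one_iff_mul_comm.2 (hEc.1.1 (χ x) (χ y))
    · rw [MonoidHom.mem_ker, map_pow]
      exact Subtype.ext (by simpa using hEe _ (χ x).2)
  have hcard : Nat.card E = χ.ker.index := by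
    rw [index_ker, χ.range_eq_top_of_surjective hχ, card_top]
  rw [hcard]
  exact (Nat.le_of_dvd (Nat.pos_of_ne_zero index_ne_zero_of_finite)
    (index_dvd_of_le hker)).trans (hbound f.range)

/-- The structure of the first factor. -/
theorem factor_cases {D : Subgroup G}
    (hD : (∃ m : ℕ, 2 ≤ m ∧ Nonempty (D ≃* DihedralGroup m)) ∨ Cfsg.IsQuasiDihedral D) :
    (Elem D ∧ Nat.card D = 4) ∨
      ∃ C : Subgroup G, IsCyclic C ∧
        (∀ d ∈ D, ∀ e ∈ D, d ∉ C → e ∉ C → d⁻¹ * e ∈ C) ∧
        ∃ z, ∀ d ∈ D, d * d = 1 → (∀ e ∈ D, d * e = e * d) → d = 1 ∨ d = z := by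
  rcases hD with ⟨m, hm, ⟨e⟩⟩ | ⟨n, hn, hcard, x, y, hx, hy, hyx⟩
  · rcases Nat.lt_or_ge m 3 with hm3 | hm3
    · left
      obtain rfl : m = 2 := by omega
      refine ⟨⟨fun a ha b hb => ?_, fun a ha => ?_⟩, ?_⟩
      · have := e.injective (show e (⟨a, ha⟩ * ⟨b, hb⟩) = e (⟨b, hb⟩ * ⟨a, ha⟩) by
          rw [map_mul, map_mul]
          exact (by decide : ∀ p q : DihedralGroup 2, p * q = q * p) _ _)
        exact congrArg Subtype.val this
      · have := e.injective (show e (⟨a, ha⟩ * ⟨a, ha⟩) = e 1 by
          rw [map_mul, map_one]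
          exact (by decide : ∀ p : DihedralGroup 2, p * p = 1) _)
        exact congrArg Subtype.val this
      · rw [Nat.card_congr e.toEquiv, DihedralGroup.nat_card]
    · right
      let g : DihedralGroup m →* G := D.subtype.comp e.symm.toMonoidHom
      haveI : NeZero m := ⟨by omega⟩
      haveI : IsCyclic ↥((zpowers (DihedralGroup.r (1 : ZMod m))).map g) :=
        isCyclic_of_surjective (g.subgroupMap (zpowers (DihedralGroup.r (1 : ZMod m))))
          (g.subgroupMap_surjective _)
      have hr : ∀ i : ZMod m, DihedralGroup.r i ∈ zpowers (DihedralGroup.r (1 : ZMod m)) := fun i =>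
        mem_zpowers_iff.2 ⟨(i.val : ℤ), by
          rw [zpow_natCast, DihedralGroup.r_one_pow, ZMod.natCast_zmod_val]⟩
      refine ⟨(zpowers (DihedralGroup.r (1 : ZMod m))).map g, inferInstance,
        fun d hd d' hd' hdC hd'C => ?_, g (DihedralGroup.r ((m / 2 : ℕ) : ZMod m)), fun d hd h2 hc => ?_⟩
      · obtain ⟨p, rfl⟩ : ∃ p, g p = d := ⟨e ⟨d, hd⟩, by simp [g]⟩
        obtain ⟨q, rfl⟩ : ∃ q, g q = d' := ⟨e ⟨d', hd'⟩, by simp [g]⟩
        cases p with
        | r i => exact absurd (mem_map_of_mem g (hr i)) hdC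
        | sr i =>
          cases q with
          | r j => exact absurd (mem_map_of_mem g (hr j)) hd'C
          | sr j =>
            rw [← map_inv, ← map_mul, DihedralGroup.inv_sr, DihedralGroup.sr_mul_sr]
            exact mem_map_of_mem g (hr _)
      · have hginj : Function.Injective g := D.subtype_injective.comp e.symm.injective
        obtain ⟨p, rfl⟩ : ∃ p, g p = d := ⟨e ⟨d, hd⟩, by simp [g]⟩
        have hc' : p * DihedralGroup.r 1 = DihedralGroup.r 1 * p := hginj (by
          rw [map_mul, map_mul]
          exact hc _ (e.symm (DihedralGroup.r 1)).2)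
        have h2' : p * p = 1 := hginj (by rw [map_mul, map_one]; exact h2)
        cases p with
        | r i =>
          rw [DihedralGroup.r_mul_r, DihedralGroup.one_def] at h2'
          have hi : i + i = 0 := DihedralGroup.r.inj h2'
          have hv : (i.val + i.val) % m = 0 := by
            rw [← ZMod.val_add, hi, ZMod.val_zero]
          have hlt := i.val_lt
          rcases Nat.eq_zero_or_pos i.val with h0 | h0
          · left
            rw [(ZMod.val_eq_zero i).1 h0, ← DihedralGroup.one_def, map_one]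
          · right
            congr 2
            have h1 : i.val + i.val = m := by
              obtain ⟨k, hk⟩ := Nat.dvd_of_mod_eq_zero hv
              have : k = 1 := by
                have h2 : m * k < m * 2 := by omega
                have h3 : m * 0 < m * k := by omega
                have := Nat.lt_of_mul_lt_mul_left h2
                have := Nat.lt_of_mul_lt_mul_left h3
                omega
              subst this
              omega
            rw [show m / 2 = i.val by omega, ZMod.natCast_zmod_val]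
        | sr i =>
          exfalso
          rw [DihedralGroup.sr_mul_r, DihedralGroup.r_mul_sr] at hc'
          have hi : i + 1 = i - 1 := DihedralGroup.sr.inj hc'
          have h20 : ((2 : ℕ) : ZMod m) = 0 := by
            push_cast
            linear_combination hi
          have := Nat.le_of_dvd two_pos ((ZMod.natCast_eq_zero_iff _ _).1 h20)
          omega
  · right
    haveI : Fact (Nat.Prime 2) := ⟨Nat.prime_two⟩
    obtain ⟨X, hX⟩ : ∃ X : Subgroup D, X = zpowers x := ⟨_, rfl⟩
    have hXcard : Nat.card X = 2 ^ n := by rw [hX, Nat.card_zpowers, hx]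
    have hXi : X.index = 2 := by
      have := X.card_mul_index
      rw [hXcard, hcard, pow_succ] at this
      exact Nat.eq_of_mul_eq_mul_left (Nat.two_pow_pos n) this
    haveI : IsCyclic ↥(X.map D.subtype) := by
      rw [hX]
      exact isCyclic_of_surjective (D.subtype.subgroupMap (zpowers x))
        (D.subtype.subgroupMap_surjective _)
    refine ⟨X.map D.subtype, inferInstance, fun d hd d' hd' hdC hd'C => ?_,
      ((x ^ 2 ^ (n - 1) : D) : G), fun d hd h2 hc => ?_⟩
    · have hp : (⟨d, hd⟩ : D)⁻¹ * ⟨d', hd'⟩ ∈ X :=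
        (mul_mem_iff_of_index_two hXi).2 (iff_of_false
          (fun e => hdC (by simpa using mem_map_of_mem D.subtype (inv_mem_iff.1 e)))
          (fun e => hd'C (by simpa using mem_map_of_mem D.subtype e)))
      exact ⟨_, hp, rfl⟩
    · have hc' : ∀ w : D, (⟨d, hd⟩ : D) * w = w * ⟨d, hd⟩ := fun w => Subtype.ext (hc w w.2)
      by_cases hdX : (⟨d, hd⟩ : D) ∈ X
      · rw [hX] at hdX
        obtain ⟨i, hi⟩ := mem_zpowers_iff.1 hdX
        have h2' : x ^ (i + i) = 1 := by
          rw [zpow_add, hi]; exact Subtype.ext h2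
        rw [← orderOf_dvd_iff_zpow_eq_one, hx] at h2'
        obtain ⟨k, hk⟩ := h2'
        have hi2 : i = (2 : ℤ) ^ (n - 1) * k := by
          have : (2 : ℤ) ^ n = 2 * 2 ^ (n - 1) := by
            rw [← pow_succ']; congr 1; omega
          push_cast at hk
          rw [this] at hk
          linarith
        rw [hi2, zpow_mul] at hi
        have hz2 : (x ^ ((2 : ℤ) ^ (n - 1))) ^ (2 : ℤ) = 1 := by
          rw [← zpow_mul, ← pow_succ, show n - 1 + 1 = n by omega,
            show ((2 : ℤ) ^ n) = ((2 ^ n : ℕ) : ℤ) by push_cast; rfl, zpow_natCast, ← hx,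
            pow_orderOf_eq_one]
        rcases Int.even_or_odd' k with ⟨l, rfl | rfl⟩
        · left
          rw [zpow_mul, hz2, one_zpow] at hi
          exact (congrArg Subtype.val hi).symm
        · right
          rw [zpow_add, zpow_mul, hz2, one_zpow, one_mul, zpow_one,
            show ((2 : ℤ) ^ (n - 1)) = ((2 ^ (n - 1) : ℕ) : ℤ) by push_cast; rfl,
            zpow_natCast] at hi
          exact (congrArg Subtype.val hi).symm
      · exfalso
        have hyX : y ∉ X := by
          intro hyX
          rw [hX] at hyX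
          obtain ⟨i, hi⟩ := mem_zpowers_iff.1 hyX
          have hcom : y * x * y⁻¹ = x := by
            rw [← hi, (((Commute.refl x).zpow_left i)).eq, mul_inv_cancel_right]
          rw [hcom] at hyx
          exact quasi_contra hn hx hyx
        have hdy : (⟨d, hd⟩ : D) * y⁻¹ ∈ X :=
          (mul_mem_iff_of_index_two hXi).2 (iff_of_false hdX fun e => hyX (inv_mem_iff.1 e))
        rw [hX] at hdy
        obtain ⟨i, hi⟩ := mem_zpowers_iff.1 hdy
        have hy' : y = x ^ (-i) * (⟨d, hd⟩ : D) := by rw [zpow_neg, hi]; group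
        have hcom : y * x * y⁻¹ = x := by
          have h1 : Commute (x ^ (-i)) x := (Commute.refl x).zpow_left _
          have h2 : Commute (⟨d, hd⟩ : D) x := hc' x
          rw [hy', (h1.mul_left h2).eq, mul_inv_cancel_right]
        rw [hcom] at hyx
        exact quasi_contra hn hx hyx
where
  quasi_contra {K : Type u} [Group K] {n : ℕ} (hn : 3 ≤ n) {x : K} (hx : orderOf x = 2 ^ n)
      (h : x = x ^ (2 ^ (n - 1) - 1)) : False := by
    have hb : 2 ^ (n - 1) - 1 < orderOf x := by
      rw [hx]
      have : 2 ^ (n - 1) ≤ 2 ^ n := Nat.pow_le_pow_right two_pos (by omega)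
      have : 0 < 2 ^ (n - 1) := Nat.two_pow_pos _
      omega
    have h1 : 1 < orderOf x := by
      rw [hx]
      exact Nat.one_lt_two_pow (by omega)
    have := pow_injOn_Iio_orderOf (Set.mem_Iio.2 h1) (Set.mem_Iio.2 hb) (by simpa using h)
    have h4 : 2 ^ 2 ≤ 2 ^ (n - 1) := Nat.pow_le_pow_right two_pos (by omega)
    omega

/-- The sectional 2-rank is at most 4. -/
theorem sectional_of_product (T D B : Subgroup G) (hT : IsPGroup 2 T)
    (hprod : Cfsg.IsInternalDirectProduct D B T)
    (hD : (∃ m : ℕ, 2 ≤ m ∧ Nonempty (D ≃* DihedralGroup m)) ∨ Cfsg.IsQuasiDihedral D)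
    (hB : IsKleinFour B)
    (hTb : ∀ b ∈ B, orderOf b = 2 → T ≤ centralizer ({b} : Set G) ∧
      Odd (T.relIndex (centralizer ({b} : Set G)))) :
    Cfsg.SectionalPRankLE 2 4 G := by
  haveI : Fact (Nat.Prime 2) := ⟨Nat.prime_two⟩
  obtain ⟨hDT, hBT, hcomm, hdisj, hsup⟩ := hprod
  obtain ⟨S, hTS⟩ := hT.exists_le_sylow
  refine sectional_of_sylow S ?_
  set P : Subgroup G := (S : Subgroup G) with hP
  have hBe : Elem B := by
    haveI := hB
    refine ⟨fun a ha b hb => congrArg Subtype.val (show (⟨a, ha⟩ : B) * ⟨b, hb⟩ = ⟨b, hb⟩ * ⟨a, ha⟩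
      from mul_comm_of_exponent_two IsKleinFour.exponent_two _ _), fun a ha => ?_⟩
    exact congrArg Subtype.val (IsKleinFour.mul_self (⟨a, ha⟩ : B))
  have hbtwo : ∀ b ∈ B, b ≠ 1 → orderOf b = 2 := fun b hb h1 =>
    orderOf_eq_prime (by rw [pow_two]; exact hBe.sq b hb) h1
  -- elements of `P` centralizing an involution of `B` lie in `T`
  have hcent : ∀ b ∈ B, b ≠ 1 → ∀ y ∈ P, y * b = b * y → y ∈ T := by
    intro b hb hb1 y hy hyb
    obtain ⟨hle, hodd⟩ := hTb b hb (hbtwo b hb hb1)
    set U := P ⊓ centralizer ({b} : Set G) with hU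
    have hTU : T ≤ U := le_inf hTS hle
    have hd : T.relIndex U ∣ T.relIndex (centralizer ({b} : Set G)) :=
      ⟨U.relIndex (centralizer ({b} : Set G)),
        (relIndex_mul_relIndex T U (centralizer ({b} : Set G)) hTU inf_le_right).symm⟩
    obtain ⟨k, hk⟩ := (S.isPGroup'.to_le (inf_le_left : U ≤ P)).index (T.subgroupOf U)
    rw [relIndex] at hd
    rw [hk] at hd
    have hk0 : k = 0 := by
      by_contra hne
      exact (Nat.not_even_iff_odd.2 hodd) (even_iff_two_dvd.2 ((dvd_pow_self 2 hne).trans hd))
    rw [hk0, pow_zero, index_eq_one, subgroupOf_eq_top] at hk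
    exact hk ⟨hy, mem_centralizer_singleton_iff.2 hyb⟩
  have hsplit : ∀ t ∈ T, ∃ d ∈ D, ∃ b ∈ B, t = d * b := by
    intro t ht
    rw [← hsup, ← SetLike.mem_coe, coe_mul_of_left_le_normalizer_right (H := D) (N := B)] at ht
    · obtain ⟨d, hd, b, hb, rfl⟩ := ht
      exact ⟨d, hd, b, hb, rfl⟩
    · intro d hd
      exact mem_normalizer_of_conj fun b hb => by
        rw [hcomm d hd b hb, mul_inv_cancel_right]; exact hb
  have hBP : B ≤ P := hBT.trans hTS
  have hDP : D ≤ P := hDT.trans hTS
  have hBe' : Elem (B.subgroupOf P) :=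
    ⟨fun a ha b hb => Subtype.ext (hBe.comm a ha b hb), fun a ha => Subtype.ext (hBe.sq a ha)⟩
  have h : ProductFour (T.subgroupOf P) (D.subgroupOf P) (B.subgroupOf P) :=
    { hP := S.isPGroup'
      hB := hBe'
      cardB := by rw [Nat.card_congr (subgroupOfEquivOfLe hBP).toEquiv, hB.card_four]
      hDT := fun x hx => hDT hx
      hBT := fun x hx => hBT hx
      comm := fun d hd b hb => Subtype.ext (hcomm d hd b hb)
      disj := fun x hx hx' => Subtype.ext (mem_bot.1 (hdisj ▸ (⟨hx, hx'⟩ : (x : G) ∈ D ⊓ B)))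
      split := fun t ht => by
        obtain ⟨d, hd, b, hb, e⟩ := hsplit t ht
        exact ⟨⟨d, hDP hd⟩, hd, ⟨b, hBP hb⟩, hb, Subtype.ext e⟩
      cent := fun b hb hb1 y hy => hcent b hb (fun e => hb1 (Subtype.ext e)) y y.2
        (congrArg Subtype.val hy) }
  intro H
  rcases factor_cases hD with ⟨hDe, hD4⟩ | ⟨C, hC, hCsplit, z, hz⟩
  · -- `T` is elementary of order 16
    have hTe : Elem (T.subgroupOf P) := by
      refine ⟨fun a ha b hb => Subtype.ext ?_, fun a ha => Subtype.ext ?_⟩
      · obtain ⟨d, hd, u, hu, e⟩ := hsplit a ha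
        obtain ⟨d', hd', u', hu', e'⟩ := hsplit b hb
        show (a : G) * b = b * a
        have c1 : Commute d d' := hDe.comm d hd d' hd'
        have c2 : Commute u u' := hBe.comm u hu u' hu'
        have c3 : Commute d u' := hcomm d hd u' hu'
        have c4 : Commute u d' := (hcomm d' hd' u hu).symm
        rw [e, e']
        exact ((c1.mul_right c3).mul_left (c4.mul_right c2)).eq
      · obtain ⟨d, hd, u, hu, e⟩ := hsplit a ha
        show (a : G) * a = 1
        rw [e, show d * u * (d * u) = d * (u * d) * u by group, ← hcomm d hd u hu, ← mul_assoc,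
          hDe.sq d hd, one_mul, hBe.sq u hu]
    have hT16 : Nat.card (T.subgroupOf P) = 16 := by
      rw [Nat.card_congr (subgroupOfEquivOfLe hTS).toEquiv]
      let f : D × B → T := fun p => ⟨p.1 * p.2, mul_mem (hDT p.1.2) (hBT p.2.2)⟩
      have hf : Function.Bijective f := by
        refine ⟨fun p q e => ?_, fun t => ?_⟩
        · have e' : (p.1 : G) * p.2 = q.1 * q.2 := congrArg Subtype.val e
          have e2 : (q.1 : G)⁻¹ * p.1 = q.2 * (p.2 : G)⁻¹ := by
            rw [inv_mul_eq_iff_eq_mul, ← mul_assoc, eq_mul_inv_iff_mul_eq, e']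
          have h1 : (q.1 : G)⁻¹ * p.1 = 1 := by
            rw [← mem_bot, ← hdisj]
            exact mem_inf.2 ⟨mul_mem (inv_mem q.1.2) p.1.2, e2 ▸ mul_mem q.2.2 (inv_mem p.2.2)⟩
          have hp : (p.1 : G) = q.1 := (inv_mul_eq_one.1 h1).symm
          rw [hp, mul_right_inj] at e'
          exact Prod.ext (Subtype.ext hp) (Subtype.ext e')
        · obtain ⟨d, hd, b, hb, e⟩ := hsplit t t.2
          exact ⟨(⟨d, hd⟩, ⟨b, hb⟩), Subtype.ext e.symm⟩
      rw [← Nat.card_congr (Equiv.ofBijective f hf), Nat.card_prod, hD4, hB.card_four]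
    exact h.frattini_index_elementary hTe hT16 H
  · have hztop : T.subgroupOf P = ⊤ := by
      by_cases hzP : z ∈ P
      · refine h.top_of_small_centre (z := ⟨z, hzP⟩) fun d hd h2 hc => ?_
        rcases hz d hd (congrArg Subtype.val h2) (fun e he =>
          congrArg Subtype.val (hc ⟨e, hDP he⟩ he)) with e | e
        · exact Or.inl (Subtype.ext e)
        · exact Or.inr (Subtype.ext e)
      · refine h.top_of_small_centre (z := 1) fun d hd h2 hc => ?_
        rcases hz d hd (congrArg Subtype.val h2) (fun e he =>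
          congrArg Subtype.val (hc ⟨e, hDP he⟩ he)) with e | e
        · exact Or.inl (Subtype.ext e)
        · exact absurd (e ▸ d.2) hzP
    haveI := hC
    haveI := isCyclic_subgroupOf (C := C) P
    exact h.frattini_index_top hztop (C := C.subgroupOf P)
      (fun d hd e he hdC heC => hCsplit d hd e he hdC heC) H

end CfsgLib.SelfCentEight
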