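import Cfsg.Agent.SelfCentEight.Index
import Cfsg.Agent.NoNormalEight.OmegaCentral

/-!
Elementary facts for the sectional rank bound in the presence of a self-centralizing `E₈`.
-/

set_option autoImplicit false
set_option linter.style.haveILetI false
set_option linter.unusedSectionVars false

namespace CfsgLib.SelfCentEight

open Subgroup

universe u

variable {S : Type u} [Group S] [Finite S]

/-- An elementary abelian 2-subgroup. -/
structure Elem (M : Subgroup S) : Prop where
  comm : ∀ x ∈ M, ∀ y ∈ M, x * y = y * x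
  sq : ∀ x ∈ M, x * x = 1

theorem Elem.inv {M : Subgroup S} (h : Elem M) {x : S} (hx : x ∈ M) : x⁻¹ = x :=
  inv_eq_of_mul_eq_one_right (h.sq x hx)

theorem Elem.le_centralizer {M : Subgroup S} (h : Elem M) : M ≤ centralizer (M : Set S) :=
  fun x hx => mem_centralizer_iff.2 fun y hy => h.comm y hy x hx

theorem mem_normalizer_of_conj {X : Subgroup S} {g : S}
    (h : ∀ x ∈ X, g * x * g⁻¹ ∈ X) : g ∈ normalizer (X : Set S) := by
  intro n
  refine ⟨h n, fun hn => ?_⟩
  let f : X → X := fun x => ⟨g * x * g⁻¹, h x x.2⟩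
  have hf : Function.Injective f := fun x y e => Subtype.ext
    (mul_left_cancel (mul_right_cancel (congrArg Subtype.val e)))
  obtain ⟨x, hx⟩ := Finite.surjective_of_injective hf ⟨_, hn⟩
  have e : (x : S) = n := mul_left_cancel (mul_right_cancel (congrArg Subtype.val hx))
  exact e ▸ x.2

/-- A 2-group of operators has a fixed point in a non-trivial section. -/
theorem exists_fixed_coset (hS : IsPGroup 2 S) {X N : Subgroup S} (hlt : N < X)
    (hN : ∀ x ∈ X, ∀ n ∈ N, x * n * x⁻¹ ∈ N) (A : Set S)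
    (hAX : ∀ a ∈ A, ∀ x ∈ X, a * x * a⁻¹ ∈ X) (hAN : ∀ a ∈ A, ∀ n ∈ N, a * n * a⁻¹ ∈ N) :
    ∃ x ∈ X, x ∉ N ∧ ∀ a ∈ A, a * x * a⁻¹ * x⁻¹ ∈ N := by
  haveI : Fact (Nat.Prime 2) := ⟨Nat.prime_two⟩
  set P := normalizer (X : Set S) ⊓ normalizer (N : Set S) with hP
  have hXP : X ≤ P := le_inf le_normalizer fun x hx => mem_normalizer_of_conj (hN x hx)
  haveI := (hS.to_subgroup P).isNilpotent
  haveI : (N.subgroupOf P).Normal := ⟨fun n hn g => (g.2.2 n).1 hn⟩
  haveI : (X.subgroupOf P).Normal := ⟨fun n hn g => (g.2.1 n).1 hn⟩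
  have hlt' : N.subgroupOf P < X.subgroupOf P := by
    refine lt_of_le_of_ne (fun x hx => hlt.le hx) fun e => hlt.not_ge fun x hx => ?_
    exact (show (⟨x, hXP hx⟩ : P) ∈ N.subgroupOf P by rw [e]; exact hx)
  obtain ⟨x, hxX, hxN, hcen⟩ :=
    CfsgLib.PGroupBasic.exists_central_mod (N.subgroupOf P) (X.subgroupOf P) hlt'
  refine ⟨x, hxX, hxN, fun a ha => ?_⟩
  have haP : a ∈ P := ⟨mem_normalizer_of_conj (hAX a ha), mem_normalizer_of_conj (hAN a ha)⟩
  have := inv_mem (hcen ⟨a, haP⟩)
  rw [mem_subgroupOf] at this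
  simpa [mul_assoc] using this

/-- For an involution `a` acting on an elementary abelian `M`, the commutators form a subgroup of
the centralizer. -/
theorem exists_image {a : S} (ha : a * a = 1) {M : Subgroup S} (hM : Elem M)
    (hn : ∀ m ∈ M, a * m * a ∈ M) :
    ∃ R : Subgroup S, R ≤ M ⊓ centralizer {a} ∧
      Nat.card ↥(M ⊓ centralizer {a}) * Nat.card R = Nat.card M ∧
      (∀ m ∈ M, a * m * a * m ∈ R) ∧ ∀ r ∈ R, ∃ m ∈ M, a * m * a * m = r := by
  let f : M →* M :=
    { toFun := fun m => ⟨a * m * a * m, mul_mem (hn m m.2) m.2⟩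
      map_one' := Subtype.ext (by simpa using ha)
      map_mul' := fun x y => Subtype.ext (by
        show a * ((x : S) * y) * a * ((x : S) * y) = a * x * a * x * (a * y * a * y)
        calc a * ((x : S) * y) * a * ((x : S) * y)
            = a * x * (a * a) * y * a * (x * y) := by rw [ha, mul_one]; group
          _ = a * x * a * ((a * y * a) * x) * y := by group
          _ = a * x * a * (x * (a * y * a)) * y := by rw [hM.comm _ (hn y y.2) x x.2]
          _ = a * x * a * x * (a * y * a * y) := by group) }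
  have hiff : ∀ m : S, m ∈ M → (a * m * a * m = 1 ↔ m * a = a * m) := fun m hm => by
    constructor
    · intro h
      have e : a * m * a = m := (eq_inv_of_mul_eq_one_left h).trans (hM.inv hm)
      calc m * a = a * m * a * a := by rw [e]
        _ = a * m := by rw [mul_assoc (a * m), ha, mul_one]
    · intro h
      rw [mul_assoc a m a, h, ← mul_assoc a a m, ha, one_mul, hM.sq m hm]
  refine ⟨f.range.map M.subtype, ?_, ?_, fun m hm => ⟨⟨_, mul_mem (hn m hm) hm⟩, ⟨⟨m, hm⟩, rfl⟩,
    rfl⟩, ?_⟩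
  · rintro _ ⟨_, ⟨m, rfl⟩, rfl⟩
    refine ⟨(f m).2, mem_centralizer_singleton_iff.2 ?_⟩
    show a * m * a * m * a = a * (a * m * a * m)
    have e : a * (a * (m : S) * a * m) * a = a * m * a * m := by
      calc a * (a * (m : S) * a * m) * a = a * a * m * (a * m * a) := by group
        _ = a * m * a * m := by rw [ha, one_mul, hM.comm m m.2 _ (hn m m.2)]
    calc a * (m : S) * a * m * a = a * (a * m * a * m) * a * a := by rw [e]
      _ = a * (a * m * a * m) := by rw [mul_assoc _ a a, ha, mul_one]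
  · have hker : f.ker.map M.subtype = M ⊓ centralizer {a} := by
      ext x
      constructor
      · rintro ⟨m, hm, rfl⟩
        exact ⟨m.2, mem_centralizer_singleton_iff.2
          ((hiff _ m.2).1 (congrArg Subtype.val (MonoidHom.mem_ker.1 hm)))⟩
      · rintro ⟨hx, hxa⟩
        exact ⟨⟨x, hx⟩, MonoidHom.mem_ker.2 (Subtype.ext
          ((hiff x hx).2 (mem_centralizer_singleton_iff.1 hxa))), rfl⟩
    rw [← hker, card_map_of_injective M.subtype_injective,
      card_map_of_injective M.subtype_injective, ← f.ker.card_mul_index, index_ker]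
  · rintro _ ⟨_, ⟨m, rfl⟩, rfl⟩
    exact ⟨m, m.2, rfl⟩

theorem card_le_sq {a : S} (ha : a * a = 1) {M : Subgroup S} (hM : Elem M)
    (hn : ∀ m ∈ M, a * m * a ∈ M) :
    Nat.card M ≤ Nat.card ↥(M ⊓ centralizer {a}) * Nat.card ↥(M ⊓ centralizer {a}) := by
  obtain ⟨R, hR, hcard, -, -⟩ := exists_image ha hM hn
  rw [← hcard]
  exact Nat.mul_le_mul_left _ (card_le_of_le hR)

/-- When the centralizer is as small as possible, every fixed element is a commutator. -/
theorem exists_comm_eq {a : S} (ha : a * a = 1) {M : Subgroup S} (hM : Elem M)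
    (hn : ∀ m ∈ M, a * m * a ∈ M)
    (h : Nat.card ↥(M ⊓ centralizer {a}) * Nat.card ↥(M ⊓ centralizer {a}) = Nat.card M)
    {x : S} (hx : x ∈ M) (hxa : x * a = a * x) : ∃ m ∈ M, a * m * a * m = x := by
  obtain ⟨R, hR, hcard, -, hsurj⟩ := exists_image ha hM hn
  rw [← h] at hcard
  have := eq_of_le_of_card_ge hR (Nat.eq_of_mul_eq_mul_left Nat.card_pos hcard).ge
  exact hsurj x (this ▸ ⟨hx, mem_centralizer_singleton_iff.2 hxa⟩)

/-- The commutator of an involution is inverted by it. -/
theorem inverted {a : S} (ha : a * a = 1) (y : S) :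
    a * (a * y * a * y⁻¹) * a = (a * y * a * y⁻¹)⁻¹ := by
  calc a * (a * y * a * y⁻¹) * a = (a * a) * y * a * y⁻¹ * a := by group
    _ = y * a⁻¹ * y⁻¹ * a⁻¹ := by rw [ha, inv_eq_of_mul_eq_one_right ha, one_mul]
    _ = (a * y * a * y⁻¹)⁻¹ := by group

/-- A commutator in an elementary abelian subgroup commutes with the involution. -/
theorem comm_of_inverted {a m : S} (ha : a * a = 1) {M : Subgroup S} (hM : Elem M) (hm : m ∈ M)
    (h : a * m * a = m⁻¹) : m * a = a * m := by
  rw [hM.inv hm] at h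
  calc m * a = a * m * a * a := by rw [h]
    _ = a * m := by rw [mul_assoc (a * m), ha, mul_one]

theorem comm_mem_ker {a x : S} (ha : a * a = 1) (h : a * x * a * x⁻¹ = 1) : x * a = a * x := by
  rw [mul_inv_eq_one] at h
  calc x * a = a * x * a * a := by rw [h]
    _ = a * x := by rw [mul_assoc (a * x), ha, mul_one]

section Frattini

variable (hS : IsPGroup 2 S) (H : Subgroup S)
include hS

theorem sq_mem_frattini (x : H) : x * x ∈ frattini H := by
  haveI : Fact (Nat.Prime 2) := ⟨Nat.prime_two⟩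
  rw [← pow_two]
  exact (CfsgLib.PGroupBasic.commutator_pow_le_frattini (hS.to_subgroup H)).2 x

theorem comm_mem_frattini (x y : H) : x * y * x⁻¹ * y⁻¹ ∈ frattini H :=
  comm_mem_of_sq (sq_mem_frattini hS H) x y

end Frattini

/-- Splitting of the Frattini index along two normal subgroups. -/
theorem index_split (H : Subgroup S) {K W : Subgroup S} [K.Normal] [W.Normal] (hWK : W ≤ K) :
    (frattini H).index = (frattini H).relIndex (W.subgroupOf H) *
      (frattini H ⊔ W.subgroupOf H).relIndex (K.subgroupOf H) *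
      (frattini H ⊔ K.subgroupOf H).index := by
  haveI : (frattini H).Normal := inferInstance
  haveI : (W.subgroupOf H).Normal := Normal.subgroupOf inferInstance H
  haveI : (K.subgroupOf H).Normal := Normal.subgroupOf inferInstance H
  have hle : W.subgroupOf H ≤ K.subgroupOf H := fun x hx => hWK hx
  have e : K.subgroupOf H ⊔ (frattini H ⊔ W.subgroupOf H) = frattini H ⊔ K.subgroupOf H := by
    rw [← sup_assoc, sup_comm (K.subgroupOf H), sup_assoc, sup_eq_left.2 hle]
  rw [← relIndex_mul_index (le_sup_left : frattini H ≤ frattini H ⊔ K.subgroupOf H),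
    ← relIndex_mul_relIndex (frattini H) (frattini H ⊔ W.subgroupOf H)
      (frattini H ⊔ K.subgroupOf H) le_sup_left (sup_le_sup_left hle _), relIndex_sup_left]
  congr 2
  rw [← e, relIndex_sup_right]

section Bottom

variable (H W : Subgroup S)

theorem card_subgroupOf_le : Nat.card (W.subgroupOf H) ≤ Nat.card W :=
  Nat.card_le_card_of_injective (fun x => (⟨((x : H) : S), x.2⟩ : W))
    fun _ _ h => Subtype.ext (Subtype.ext (congrArg (fun z : W => (z : S)) h))

theorem relIndex_mul_card (F : Subgroup H) :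
    F.relIndex (W.subgroupOf H) * Nat.card ↥(F ⊓ W.subgroupOf H) = Nat.card (W.subgroupOf H) := by
  rw [← inf_relIndex_right, mul_comm]
  conv_rhs => rw [← ((F ⊓ W.subgroupOf H).subgroupOf (W.subgroupOf H)).card_mul_index]
  rw [Nat.card_congr (subgroupOfEquivOfLe inf_le_right).toEquiv]
  rfl

/-- The bottom factor of the splitting is at most the order of `W`. -/
theorem relIndex_le_card (F : Subgroup H) : F.relIndex (W.subgroupOf H) ≤ Nat.card W :=
  ((Nat.le_mul_of_pos_right _ Nat.card_pos).trans_eq (relIndex_mul_card H W F)).trans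
    (card_subgroupOf_le H W)

theorem two_le_card_inf (F : Subgroup H) {x : S} (hx : x ∈ H) (hxF : (⟨x, hx⟩ : H) ∈ F)
    (hxW : x ∈ W) (hx1 : x ≠ 1) : 2 ≤ Nat.card ↥(F ⊓ W.subgroupOf H) := by
  haveI : Nontrivial ↥(F ⊓ W.subgroupOf H) :=
    ⟨⟨⟨⟨x, hx⟩, hxF, hxW⟩, 1, fun e => hx1 (by
      simpa using congrArg (fun z : ↥(F ⊓ W.subgroupOf H) => ((z : H) : S)) e)⟩⟩
  exact Finite.one_lt_card

/-- A nontrivial element in `F ∩ W` halves the bottom factor. -/
theorem two_mul_relIndex_le (F : Subgroup H) {x : S} (hx : x ∈ H) (hxF : (⟨x, hx⟩ : H) ∈ F)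
    (hxW : x ∈ W) (hx1 : x ≠ 1) : 2 * F.relIndex (W.subgroupOf H) ≤ Nat.card W := by
  rw [mul_comm]
  exact ((Nat.mul_le_mul_left _ (two_le_card_inf H W F hx hxF hxW hx1)).trans_eq
    (relIndex_mul_card H W F)).trans (card_subgroupOf_le H W)

theorem le_of_card_le (h : Nat.card W ≤ Nat.card (W.subgroupOf H)) : W ≤ H := by
  intro w hw
  have hb := (Nat.bijective_iff_injective_and_card (fun x : W.subgroupOf H =>
    (⟨((x : H) : S), x.2⟩ : W))).2 ⟨fun _ _ h => Subtype.ext (Subtype.ext
      (congrArg (fun z : W => (z : S)) h)), le_antisymm (card_subgroupOf_le H W) h⟩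
  obtain ⟨x, hx⟩ := hb.2 ⟨w, hw⟩
  have e : ((x : H) : S) = w := congrArg Subtype.val hx
  exact e ▸ (x : H).2

/-- When the bottom factor is everything, `W` lies in `H` and meets `F` trivially. -/
theorem of_card_le_relIndex (F : Subgroup H) (h : Nat.card W ≤ F.relIndex (W.subgroupOf H)) :
    W ≤ H ∧ ∀ x : H, x ∈ F → (x : S) ∈ W → (x : S) = 1 := by
  refine ⟨le_of_card_le H W (h.trans ((Nat.le_mul_of_pos_right _ Nat.card_pos).trans_eq
    (relIndex_mul_card H W F))), fun x hxF hxW => ?_⟩
  by_contra hx1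
  have := two_mul_relIndex_le H W F x.2 hxF hxW hx1
  have : 0 < Nat.card W := Nat.card_pos
  omega

/-- When the bottom factor is half of everything and `F ∩ W` is nontrivial, it has order 2. -/
theorem of_card_le_two_mul (F : Subgroup H) (h : Nat.card W ≤ 2 * F.relIndex (W.subgroupOf H))
    {x : S} (hx : x ∈ H) (hxF : (⟨x, hx⟩ : H) ∈ F) (hxW : x ∈ W) (hx1 : x ≠ 1) :
    W ≤ H ∧ ∀ y : H, y ∈ F → (y : S) ∈ W → (y : S) = 1 ∨ (y : S) = x := by
  have h1 := relIndex_mul_card H W F
  have h2 := two_le_card_inf H W F hx hxF hxW hx1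
  have h3 := card_subgroupOf_le H W
  have hpos : 0 < F.relIndex (W.subgroupOf H) := by
    have : 0 < Nat.card W := Nat.card_pos
    omega
  have hcard : Nat.card ↥(F ⊓ W.subgroupOf H) = 2 := by
    by_contra hne
    have := Nat.mul_le_mul_left (F.relIndex (W.subgroupOf H))
      (show 3 ≤ Nat.card ↥(F ⊓ W.subgroupOf H) by omega)
    omega
  rw [hcard] at h1
  refine ⟨le_of_card_le H W (by omega), fun y hyF hyW => ?_⟩
  by_contra hy
  push Not at hy
  obtain ⟨hy1, hyx⟩ := hy
  let f : Fin 3 → ↥(F ⊓ W.subgroupOf H) := ![1, ⟨⟨x, hx⟩, hxF, hxW⟩, ⟨y, hyF, hyW⟩]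
  have hf : Function.Injective f := by
    intro i j hij
    have e := congrArg (fun z : ↥(F ⊓ W.subgroupOf H) => ((z : H) : S)) hij
    fin_cases i <;> fin_cases j <;> simp [f] at e ⊢ <;>
      first
        | exact hx1 e | exact hx1 e.symm | exact hy1 e | exact hy1 e.symm
        | exact hy1 (by rw [e]; rfl) | exact hy1 (by rw [← e]; rfl) | exact hyx e
        | exact hyx e.symm
  have := Nat.card_le_card_of_injective f hf
  rw [Nat.card_fin, hcard] at this
  omega

end Bottom

/-- If a subgroup contains `W` and centralizes it, the top factor is trivial. -/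
theorem top_eq_one (H : Subgroup S) {W : Subgroup S}
    (h : ∀ x : H, (x : S) ∈ centralizer (W : Set S)) (F : Subgroup H) :
    (F ⊔ (centralizer (W : Set S)).subgroupOf H).index = 1 := by
  rw [index_eq_one, eq_top_iff]
  exact fun x _ => mem_sup_right (h x)

/-- A subgroup with the full bottom factor centralizes `W`. -/
theorem top_eq_one_of_full (hS : IsPGroup 2 S) (H : Subgroup S) {W : Subgroup S} [W.Normal]
    (h : Nat.card W ≤ (frattini H).relIndex (W.subgroupOf H)) :
    (frattini H ⊔ (centralizer (W : Set S)).subgroupOf H).index = 1 := by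
  obtain ⟨hle, htriv⟩ := of_card_le_relIndex H W _ h
  refine top_eq_one H (fun x => mem_centralizer_iff.2 fun w hw => ?_) _
  have h1 := htriv _ (comm_mem_frattini hS H x ⟨w, hle hw⟩)
    (mul_mem ((inferInstance : W.Normal).conj_mem w hw x) (inv_mem hw))
  exact (mul_inv_eq_iff_eq_mul.1 (mul_inv_eq_one.1 h1)).symm

/-- The middle factor of the splitting is an elementary quotient of a subgroup of `K / W`. -/
theorem middle_le (hS : IsPGroup 2 S) (H : Subgroup S) {K W : Subgroup S} [W.Normal]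
    {Q : Type u} [Group Q] (φ : K →* Q) (hker : ∀ k : K, φ k = 1 ↔ (k : S) ∈ W) :
    ∃ (J : Subgroup Q) (N : Subgroup J), (∀ x : J, x * x ∈ N) ∧
      N.index = (frattini H ⊔ W.subgroupOf H).relIndex (K.subgroupOf H) ∧
      ∀ q ∈ J, ∃ (k : K), (k : S) ∈ H ∧ φ k = q := by
  let ψ : K.subgroupOf H →* Q := φ.comp
    ((H.subtype.comp (K.subgroupOf H).subtype).codRestrict K fun x => x.2)
  set N₀ := (frattini H ⊔ W.subgroupOf H).subgroupOf (K.subgroupOf H) with hN₀
  refine ⟨ψ.range, N₀.map ψ.rangeRestrict, fun x => ?_, ?_, ?_⟩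
  · obtain ⟨y, rfl⟩ := ψ.rangeRestrict_surjective x
    exact ⟨y * y, mem_sup_left (sq_mem_frattini hS H (y : H)), map_mul _ _ _⟩
  · refine index_map_eq _ ψ.rangeRestrict_surjective fun y hy => ?_
    rw [MonoidHom.ker_rangeRestrict, MonoidHom.mem_ker] at hy
    exact mem_sup_right ((hker _).1 hy)
  · rintro _ ⟨y, rfl⟩
    exact ⟨_, (y : H).2, rfl⟩

/-- An elementary quotient of `H` modulo `K`. -/
theorem top_le (hS : IsPGroup 2 S) (H : Subgroup S) {K : Subgroup S} [K.Normal] :
    ∃ (N : Subgroup ↥((QuotientGroup.mk' K).comp H.subtype).range),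
      (∀ x, x * x ∈ N) ∧ N.index = (frattini H ⊔ K.subgroupOf H).index := by
  refine ⟨(frattini H ⊔ K.subgroupOf H).map ((QuotientGroup.mk' K).comp H.subtype).rangeRestrict,
    fun x => ?_, ?_⟩
  · obtain ⟨y, rfl⟩ := MonoidHom.rangeRestrict_surjective _ x
    exact ⟨y * y, mem_sup_left (sq_mem_frattini hS H y), map_mul _ _ _⟩
  · refine index_map_eq _ (MonoidHom.rangeRestrict_surjective _) fun y hy => ?_
    rw [MonoidHom.ker_rangeRestrict, MonoidHom.mem_ker] at hy
    exact mem_sup_right ((QuotientGroup.eq_one_iff (y : S)).1 hy)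

end CfsgLib.SelfCentEight
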