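import Cfsg.Agent.SelfCentEight.EightSetup

/-!
The case where all normal elementary abelian subgroups have order at most 8: the centralizer.
-/

set_option autoImplicit false
set_option linter.style.haveILetI false
set_option linter.unusedSectionVars false
set_option linter.unusedTactic false
set_option linter.unreachableTactic false

namespace CfsgLib.SelfCentEight

open Subgroup

universe u

variable {S : Type u} [Group S] [Finite S]

/-- The configuration together with an element of the centralizer giving a central involution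
modulo `W`. -/
structure Core (W : Subgroup S) (a c : S) (k₀ : S) : Prop where
  eight : Eight W a c
  mem : k₀ ∈ centralizer (W : Set S)
  notMem : k₀ ∉ W
  cen : ∀ g : S, g * k₀ * g⁻¹ * k₀⁻¹ ∈ W
  sq_mem : k₀ * k₀ ∈ W

namespace Eight

variable {W : Subgroup S} [hn : W.Normal] {a c : S}

theorem conj_mem (h : Eight W a c) {w : S} (hw : w ∈ W) : a * w * a ∈ W := by
  have := hn.conj_mem w hw a
  rwa [h.inv_eq] at this

theorem exists_core (h : Eight W a c) (hlt : W < centralizer (W : Set S)) :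
    ∃ k₀, Core W a c k₀ := by
  haveI : Fact (Nat.Prime 2) := ⟨Nat.prime_two⟩
  haveI := (h.hS.to_quotient W).isNilpotent
  set Kb := (centralizer (W : Set S)).map (QuotientGroup.mk' W) with hKb
  haveI : Kb.Normal := Normal.map inferInstance _ (QuotientGroup.mk'_surjective W)
  have hne : Kb ≠ ⊥ := fun e => hlt.not_ge (by
    rw [hKb, Subgroup.map_eq_bot_iff, QuotientGroup.ker_mk'] at e
    exact e)
  set Z := Kb ⊓ center (S ⧸ W) with hZ
  have hZne : Z ≠ ⊥ := CfsgLib.PGroupBasic.inf_center_ne_bot Kb hne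
  haveI : Nontrivial Z := (nontrivial_iff_ne_bot _).2 hZne
  obtain ⟨n, hn'⟩ := exists_two_pow (h.hS.to_quotient W) Z
  obtain ⟨⟨z, hz⟩, hzo⟩ := exists_prime_orderOf_dvd_card' (G := Z) 2 (by
    have := Finite.one_lt_card (α := Z)
    rw [hn']
    exact dvd_pow_self 2 fun e => by rw [hn', e] at this; norm_num at this)
  obtain ⟨k, hk, rfl⟩ := hz.1
  have hz1 : (k : S ⧸ W) ≠ 1 := fun e => by
    rw [show (⟨QuotientGroup.mk' W k, hz⟩ : Z) = 1 from Subtype.ext e, orderOf_one] at hzo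
    norm_num at hzo
  have hz2 : (k : S ⧸ W) * (k : S ⧸ W) = 1 := by
    rw [← pow_two]
    exact congrArg Subtype.val (orderOf_dvd_iff_pow_eq_one.1 (dvd_of_eq hzo))
  refine ⟨k, h, hk, fun e => hz1 ((QuotientGroup.eq_one_iff k).2 e), fun g => ?_, ?_⟩
  · refine (QuotientGroup.eq_one_iff _).1 ?_
    rw [QuotientGroup.mk_mul, QuotientGroup.mk_mul, QuotientGroup.mk_mul, QuotientGroup.mk_inv,
      QuotientGroup.mk_inv]
    have := mem_center_iff.1 hz.2 (g : S ⧸ W)
    simp only [QuotientGroup.mk'_apply] at this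
    rw [this]; group
  · exact (QuotientGroup.eq_one_iff _).1 (by rw [QuotientGroup.mk_mul]; exact hz2)

theorem conj_mul_mul (h : Eight W a c) (x y : S) : a * (x * y) * a = (a * x * a) * (a * y * a) := by
  calc a * (x * y) * a = a * x * (a * a) * y * a := by rw [h.inv, mul_one]; group
    _ = (a * x * a) * (a * y * a) := by group

end Eight

namespace Core

variable {W : Subgroup S} [hn : W.Normal] {a c k₀ : S}

theorem w₀_central (C : Core W a c k₀) (g : S) : g * (k₀ * k₀) * g⁻¹ = k₀ * k₀ := by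
  have hw := C.cen g
  have hwk : (g * k₀ * g⁻¹ * k₀⁻¹) * k₀ = k₀ * (g * k₀ * g⁻¹ * k₀⁻¹) :=
    mem_centralizer_iff.1 C.mem _ hw
  have e : g * k₀ * g⁻¹ = g * k₀ * g⁻¹ * k₀⁻¹ * k₀ := by group
  rw [← conj_mul, e]
  set w := g * k₀ * g⁻¹ * k₀⁻¹ with hwdef
  calc w * k₀ * (w * k₀) = w * (k₀ * w) * k₀ := by group
    _ = w * w * (k₀ * k₀) := by rw [← hwk]; group
    _ = k₀ * k₀ := by rw [C.eight.hW.sq w hw, one_mul]

theorem w₀_ne_one (C : Core W a c k₀) : k₀ * k₀ ≠ 1 := by
  intro e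
  have hki : k₀⁻¹ = k₀ := inv_eq_of_mul_eq_one_right e
  have hk : ∀ w ∈ W, w * k₀ = k₀ * w := fun w hw => mem_centralizer_iff.1 C.mem w hw
  let V : Subgroup S :=
    { carrier := {x | x ∈ W ∨ k₀ * x ∈ W}
      one_mem' := Or.inl (one_mem W)
      mul_mem' := by
        rintro x y (hx | hx) (hy | hy)
        · exact Or.inl (mul_mem hx hy)
        · refine Or.inr ?_
          rw [← mul_assoc, ← hk x hx, mul_assoc]
          exact mul_mem hx hy
        · exact Or.inr (by rw [← mul_assoc]; exact mul_mem hx hy)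
        · refine Or.inl ?_
          rw [show x * y = k₀ * k₀ * (x * y) by rw [e, one_mul],
            show k₀ * k₀ * (x * y) = k₀ * ((k₀ * x) * y) by group, ← mul_assoc, ← hk _ hx, mul_assoc]
          exact mul_mem hx hy
      inv_mem' := by
        rintro x (hx | hx)
        · exact Or.inl (inv_mem hx)
        · refine Or.inr ?_
          have h := inv_mem hx
          rw [mul_inv_rev, hki] at h
          have e' := hk _ h
          rw [mul_assoc, e, mul_one] at e'
          rw [e', ← mul_assoc, e, one_mul]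
          exact h }
  have hsplit : ∀ x ∈ V, ∃ w ∈ W, x = w ∨ x = k₀ * w := by
    rintro x (hx | hx)
    · exact ⟨x, hx, Or.inl rfl⟩
    · exact ⟨k₀ * x, hx, Or.inr (by rw [← mul_assoc, e, one_mul])⟩
  have hkV : k₀ ∈ V := Or.inr (by rw [e]; exact one_mem W)
  have hWV : W ≤ V := fun w hw => Or.inl hw
  have hVn : V.Normal := ⟨fun x hx g => by
    have hgk : g * k₀ * g⁻¹ ∈ V := by
      simpa using mul_mem (hWV (C.cen g)) hkV
    obtain ⟨w, hw, rfl | rfl⟩ := hsplit x hx
    · exact hWV (hn.conj_mem _ hw g)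
    · rw [← conj_mul]; exact mul_mem hgk (hWV (hn.conj_mem _ hw g))⟩
  have hVe : Elem V := by
    have hcW := C.eight.hW
    have hcK : ∀ x ∈ V, ∀ w ∈ W, x * w = w * x := by
      intro x hx w hw
      obtain ⟨v, hv, rfl | rfl⟩ := hsplit x hx
      · exact hcW.comm _ hv w hw
      · rw [mul_assoc, hcW.comm v hv w hw, ← mul_assoc, ← hk w hw, mul_assoc]
    refine ⟨fun x hx y hy => ?_, fun x hx => ?_⟩
    · obtain ⟨w, hw, rfl | rfl⟩ := hsplit y hy
      · exact hcK x hx _ hw
      · have hxk : x * k₀ = k₀ * x := by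
          obtain ⟨v, hv, rfl | rfl⟩ := hsplit x hx
          · exact hk _ hv
          · rw [mul_assoc, hk v hv]
        rw [← mul_assoc, hxk, mul_assoc, hcK x hx w hw, ← mul_assoc]
    · obtain ⟨w, hw, rfl | rfl⟩ := hsplit x hx
      · exact hcW.sq _ hw
      · rw [show k₀ * w * (k₀ * w) = k₀ * (w * k₀) * w by group, hk w hw, ← mul_assoc, e, one_mul,
          hcW.sq w hw]
  have hle := C.eight.small V hVn hVe
  have := eq_of_le_of_card_ge hWV (by rw [C.eight.card]; exact hle)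
  exact C.notMem (this ▸ hkV)

/-- The commutator of `a` and `k₀`. -/
theorem d_mem (C : Core W a c k₀) : a * k₀ * a * k₀⁻¹ ∈ W := by
  have := C.cen a
  rwa [C.eight.inv_eq] at this

theorem d_comm (C : Core W a c k₀) :
    (a * k₀ * a * k₀⁻¹) * a = a * (a * k₀ * a * k₀⁻¹) :=
  comm_of_inverted C.eight.inv C.eight.hW C.d_mem (inverted C.eight.inv k₀)

/-- Adjusting a fixed coset by an element of the centralizer. -/
theorem adjustK (C : Core W a c k₀) {n u e : S} (hn' : n ∈ centralizer (W : Set S)) (heW : e ∈ W)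
    (hu : a * u * a * u⁻¹ = e) (he : a * n * a * n⁻¹ = e) : n * u * a = a * (n * u) := by
  refine comm_mem_ker C.eight.inv ?_
  calc a * (n * u) * a * (n * u)⁻¹ = a * n * a * (a⁻¹ * a⁻¹) * (a * u * a * u⁻¹) * n⁻¹ := by group
    _ = a * n * a * (e * n⁻¹) := by
        rw [hu, C.eight.inv_eq, C.eight.inv, mul_one]; group
    _ = a * n * a * n⁻¹ * e := by
        rw [mem_centralizer_iff.1 (inv_mem hn') e heW]; group
    _ = 1 := by rw [he, C.eight.hW.sq e heW]

theorem d_ne (C : Core W a c k₀) : a * k₀ * a * k₀⁻¹ ≠ 1 ∧ a * k₀ * a * k₀⁻¹ ≠ c := by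
  refine ⟨fun e => C.notMem (C.eight.mem_of_comm C.mem (comm_mem_ker C.eight.inv e)), fun e => ?_⟩
  obtain ⟨w, hw, hwc⟩ := C.eight.exists_move
  have hwK := C.eight.hW.le_centralizer hw
  have h1 := C.adjustK (n := w) (u := k₀) hwK C.eight.hc e (by rw [C.eight.hW.inv hw]; exact hwc)
  exact C.notMem (by
    simpa using mul_mem (inv_mem hw) (C.eight.mem_of_comm (mul_mem hwK C.mem) h1))

/-- The fixed space of `a` in `W`. -/
theorem fixed_cases (C : Core W a c k₀) {m : S} (hm : m ∈ W) (hma : m * a = a * m) :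
    m = 1 ∨ m = c ∨ m = a * k₀ * a * k₀⁻¹ ∨ m = c * (a * k₀ * a * k₀⁻¹) := by
  have h := C.eight
  set d := a * k₀ * a * k₀⁻¹ with hd
  by_contra hh
  push Not at hh
  obtain ⟨h1, h2, h3, h4⟩ := hh
  obtain ⟨hd1, hdc⟩ := C.d_ne
  obtain ⟨w, hw, hwc⟩ := h.exists_move
  have hle : W ≤ centralizer {a} := Basis.le_of_mem h.hS
    ⟨h.hW, h.card, h.hc, C.d_mem, hm, h.hc1, hd1, hdc, h1, h2, h3, h4⟩
    (mem_centralizer_singleton_iff.2 h.comm_c) (mem_centralizer_singleton_iff.2 C.d_comm)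
    (mem_centralizer_singleton_iff.2 hma)
  apply h.hc1
  rw [← hwc, ← mem_centralizer_singleton_iff.1 (hle hw), mul_assoc w a a, h.inv, mul_one,
    h.hW.sq w hw]

/-- Fixed cosets can be adjusted to fixed elements. -/
theorem exists_comm (C : Core W a c k₀) {u : S} (hu : a * u * a * u⁻¹ ∈ W) :
    ∃ n ∈ centralizer (W : Set S), n * u * a = a * (n * u) := by
  have h := C.eight
  obtain ⟨w, hw, hwc⟩ := h.exists_move
  have hwK := h.hW.le_centralizer hw
  have hwc' : a * w * a * w⁻¹ = c := by rw [h.hW.inv hw]; exact hwc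
  set d := a * k₀ * a * k₀⁻¹ with hd
  have hcases := C.fixed_cases hu (comm_of_inverted h.inv h.hW hu (inverted h.inv u))
  rcases hcases with e | e | e | e
  · exact ⟨1, one_mem _, C.adjustK (one_mem _) (one_mem W) e (by simpa using h.inv)⟩
  · exact ⟨w, hwK, C.adjustK hwK h.hc e hwc'⟩
  · exact ⟨k₀, C.mem, C.adjustK C.mem C.d_mem e hd.symm⟩
  · refine ⟨w * k₀, mul_mem hwK C.mem, C.adjustK (mul_mem hwK C.mem) (mul_mem h.hc C.d_mem) e ?_⟩
    rw [h.conj_mul_mul, mul_inv_rev]
    calc a * w * a * (a * k₀ * a) * (k₀⁻¹ * w⁻¹) = a * w * a * (d * w⁻¹) := by rw [hd]; group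
      _ = c * d := by rw [h.hW.comm d C.d_mem _ (inv_mem hw), ← mul_assoc, hwc']

/-- A fixed coset inside the centralizer is trivial or that of `k₀`. -/
theorem fixed_coset (C : Core W a c k₀) {k : S} (hk : k ∈ centralizer (W : Set S))
    (hfix : a * k * a * k⁻¹ ∈ W) : k ∈ W ∨ k₀⁻¹ * k ∈ W := by
  have h := C.eight
  obtain ⟨w, hw, hwc⟩ := h.exists_move
  have hwc' : a * w * a * w⁻¹ = c := by rw [h.hW.inv hw]; exact hwc
  have hwK := h.hW.le_centralizer hw
  set d := a * k₀ * a * k₀⁻¹ with hd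
  -- reduce to commutators in `{1, c}`
  have key : ∀ l ∈ centralizer (W : Set S), (a * l * a * l⁻¹ = 1 ∨ a * l * a * l⁻¹ = c) → l ∈ W := by
    rintro l hl (e | e)
    · exact h.mem_of_comm hl (comm_mem_ker h.inv e)
    · have h1 := C.adjustK hwK h.hc e hwc'
      simpa using mul_mem (inv_mem hw) (h.mem_of_comm (mul_mem hwK hl) h1)
  have hcases := C.fixed_cases hfix (comm_of_inverted h.inv h.hW hfix (inverted h.inv k))
  rw [← hd] at hcases
  rcases hcases with e | e | e | e
  · exact Or.inl (key k hk (Or.inl e))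
  · exact Or.inl (key k hk (Or.inr e))
  all_goals
    refine Or.inr (key _ (mul_mem (inv_mem C.mem) hk) ?_)
    have hk0 : a * k₀⁻¹ * a = k₀⁻¹ * d⁻¹ := by
      calc a * k₀⁻¹ * a = a⁻¹ * k₀⁻¹ * a⁻¹ := by rw [h.inv_eq]
        _ = k₀⁻¹ * d⁻¹ := by rw [hd]; group
    have hcalc : a * (k₀⁻¹ * k) * a * (k₀⁻¹ * k)⁻¹ = k₀⁻¹ * (d⁻¹ * (a * k * a * k⁻¹)) * k₀ := by
      rw [h.conj_mul_mul, hk0]; group
    rw [hcalc, h.hW.inv (show d ∈ W from C.d_mem)]
  · left
    rw [e, h.hW.sq d C.d_mem]; group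
  · right
    rw [e, h.hW.comm c h.hc d C.d_mem, ← mul_assoc d d c, h.hW.sq d C.d_mem, one_mul, mul_assoc,
      mem_centralizer_iff.1 C.mem c h.hc, ← mul_assoc, inv_mul_cancel, one_mul]

/-- The automorphism induced by `a` on the centralizer modulo `W`, with its two fixed points. -/
theorem exists_fixTwo (C : Core W a c k₀) :
    ∃ T : FixTwo ((centralizer (W : Set S)) ⧸ W.subgroupOf (centralizer (W : Set S))),
      T.k₀ = ((⟨k₀, C.mem⟩ : centralizer (W : Set S)) :
        (centralizer (W : Set S)) ⧸ W.subgroupOf (centralizer (W : Set S))) ∧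
      ∀ k : centralizer (W : Set S), ∃ l : centralizer (W : Set S), (l : S) = a * k * a ∧
        T.σ (k : (centralizer (W : Set S)) ⧸ W.subgroupOf (centralizer (W : Set S))) = l := by
  have h := C.eight
  set K := centralizer (W : Set S) with hK
  set L := W.subgroupOf K with hL
  let σ₀ : MulAut K := MulAut.conjNormal a
  have hσ₀ : ∀ k : K, ((σ₀ k : K) : S) = a * k * a := fun k => by
    rw [MulAut.conjNormal_apply, h.inv_eq]
  have hmap : L.map (σ₀ : K ≃* K).toMonoidHom = L := by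
    ext k
    constructor
    · rintro ⟨l, hl, rfl⟩
      show ((σ₀ l : K) : S) ∈ W
      rw [hσ₀]; exact h.conj_mem hl
    · intro hk
      refine ⟨σ₀ k, ?_, ?_⟩
      · show ((σ₀ k : K) : S) ∈ W
        rw [hσ₀]; exact h.conj_mem hk
      · show σ₀ (σ₀ k) = k
        refine Subtype.ext ?_
        rw [hσ₀, hσ₀, show a * (a * (k : S) * a) * a = a * a * k * (a * a) by group, h.inv,
          one_mul, mul_one]
  let σ : MulAut (K ⧸ L) := QuotientGroup.congr L L σ₀ hmap
  refine ⟨⟨(h.hS.to_subgroup K).to_quotient L, σ, fun q => ?_, ((⟨k₀, C.mem⟩ : K) : K ⧸ L), ?_,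
    fun q hq => ?_, fun _ e => C.notMem ((QuotientGroup.eq_one_iff (⟨k₀, C.mem⟩ : K)).1 e)⟩, rfl,
    fun k => ⟨σ₀ k, hσ₀ k, rfl⟩⟩
  · obtain ⟨k, rfl⟩ := QuotientGroup.mk_surjective q
    show ((σ₀ (σ₀ k) : K) : K ⧸ L) = k
    congr 1
    refine Subtype.ext ?_
    rw [hσ₀, hσ₀, show a * (a * (k : S) * a) * a = a * a * k * (a * a) by group, h.inv,
      one_mul, mul_one]
  · show ((σ₀ ⟨k₀, C.mem⟩ : K) : K ⧸ L) = _
    rw [eq_comm, QuotientGroup.eq]
    show k₀⁻¹ * ((σ₀ ⟨k₀, C.mem⟩ : K) : S) ∈ W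
    rw [hσ₀]
    have := hn.conj_mem _ C.d_mem k₀⁻¹
    simpa [mul_assoc] using this
  · obtain ⟨k, rfl⟩ := QuotientGroup.mk_surjective q
    change ((σ₀ k : K) : K ⧸ L) = k at hq
    have hfix : a * (k : S) * a * (k : S)⁻¹ ∈ W := by
      rw [eq_comm, QuotientGroup.eq] at hq
      have h1 : (k : S)⁻¹ * ((σ₀ k : K) : S) ∈ W := hq
      rw [hσ₀] at h1
      have := hn.conj_mem _ h1 k
      simpa [mul_assoc] using this
    rcases C.fixed_coset k.2 hfix with h' | h'
    · exact Or.inl ((QuotientGroup.eq_one_iff k).2 h')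
    · exact Or.inr (QuotientGroup.eq.2 (show (⟨k₀, C.mem⟩ : K)⁻¹ * k ∈ L from h')).symm

end Core

end CfsgLib.SelfCentEight
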