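import Cfsg.Agent.SelfCentEight.Eight

/-!
The case where all normal elementary abelian subgroups have order at most 8: the bound.
-/

set_option autoImplicit false
set_option linter.style.haveILetI false
set_option linter.unusedSectionVars false
set_option linter.unusedTactic false
set_option linter.unreachableTactic false

namespace CfsgLib.SelfCentEight

open Subgroup

universe u

variable {S : Type u} [Group S] [Finite S]

/-- The elements acting on `W` as transvections with centre `z` (or trivially). -/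
def elations (W : Subgroup S) (z : S) (hz : z * z = 1) (hcen : ∀ g : S, g * z * g⁻¹ = z)
    [hn : W.Normal] : Subgroup S where
  carrier := {g | ∀ w ∈ W, g * w * g⁻¹ = w ∨ g * w * g⁻¹ = z * w}
  one_mem' := fun w _ => Or.inl (by group)
  mul_mem' := by
    intro g g' hg hg' w hw
    rw [show g * g' * w * (g * g')⁻¹ = g * (g' * w * g'⁻¹) * g⁻¹ by group]
    rcases hg' w hw with e | e <;> rw [e]
    · exact hg w hw
    · rw [← conj_mul, hcen g]
      rcases hg w hw with e' | e' <;> rw [e']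
      · exact Or.inr rfl
      · exact Or.inl (by rw [← mul_assoc, hz, one_mul])
  inv_mem' := by
    intro g hg w hw
    have hm : g⁻¹ * w * g ∈ W := by simpa using hn.conj_mem w hw g⁻¹
    rcases hg _ hm with e | e <;> rw [show g * (g⁻¹ * w * g) * g⁻¹ = w by group] at e
    · exact Or.inl (by rw [inv_inv]; exact e.symm)
    · refine Or.inr ?_
      rw [inv_inv]
      calc g⁻¹ * w * g = z * (z * (g⁻¹ * w * g)) := by rw [← mul_assoc, hz, one_mul]
        _ = z * w := by rw [← e]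

theorem elations_normal {W : Subgroup S} [hn : W.Normal] {z : S} {hz : z * z = 1}
    {hcen : ∀ g : S, g * z * g⁻¹ = z} : (elations W z hz hcen).Normal := by
  refine ⟨fun g hg x w hw => ?_⟩
  have hm : x⁻¹ * w * x ∈ W := by simpa using hn.conj_mem w hw x⁻¹
  rw [show x * g * x⁻¹ * w * (x * g * x⁻¹)⁻¹ = x * (g * (x⁻¹ * w * x) * g⁻¹) * x⁻¹ by group]
  rcases hg _ hm with e | e <;> rw [e]
  · exact Or.inl (by group)
  · refine Or.inr ?_
    rw [← conj_mul, hcen x]
    group

namespace Core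

variable {W : Subgroup S} [hn : W.Normal] {a c k₀ : S}

theorem w₀_sq (C : Core W a c k₀) : k₀ * k₀ * (k₀ * k₀) = 1 := C.eight.hW.sq _ C.sq_mem

theorem c_ne_w₀_of_eq (C : Core W a c k₀) {l : S}
    (hlk : k₀⁻¹ * (a * l * a * l⁻¹) ∈ W) : c ≠ k₀ * k₀ := by
  intro hcw
  have h := C.eight
  set u := k₀⁻¹ * (a * l * a * l⁻¹) with hu
  set d := a * k₀ * a * k₀⁻¹ with hd
  obtain ⟨hd1, hdc⟩ := C.d_ne
  have e1 : a * l * a = k₀ * u * l := by rw [hu]; group
  have huk : u * k₀ = k₀ * u := mem_centralizer_iff.1 C.mem u hlk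
  have e2 : l = d * (a * u * a * u) * (k₀ * k₀) * l := by
    calc l = a * (a * l * a) * a := by
            rw [show a * (a * l * a) * a = a * a * l * (a * a) by group, h.inv, one_mul, mul_one]
      _ = (a * k₀ * a) * (a * u * a) * (a * l * a) := by
            rw [e1, h.conj_mul_mul, h.conj_mul_mul, e1]
      _ = d * (k₀ * (a * u * a) * (k₀ * u)) * l := by rw [e1, hd]; group
      _ = d * ((a * u * a) * k₀ * (k₀ * u)) * l := by
            rw [mem_centralizer_iff.1 C.mem _ (h.conj_mem hlk)]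
      _ = d * (a * u * a * ((k₀ * k₀) * u)) * l := by group
      _ = d * (a * u * a * u) * (k₀ * k₀) * l := by
            rw [h.hW.comm _ C.sq_mem u hlk]; group
  have e3 : d * (a * u * a * u) * (k₀ * k₀) = 1 := mul_eq_right.1 e2.symm
  rw [← hcw] at e3
  rcases h.image u hlk with e | e <;> rw [e] at e3
  · rw [mul_one] at e3
    exact hdc ((eq_inv_of_mul_eq_one_left e3).trans (h.hW.inv h.hc))
  · rw [mul_assoc, h.hW.sq c h.hc, mul_one] at e3
    exact hd1 e3

/-- If `c` is not the square of `k₀`, fixed cosets lie in the centralizer or its `a`-translate. -/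
theorem mem_or (C : Core W a c k₀) (h2 : Two W a) (hcw : c ≠ k₀ * k₀) {u : S} (hu : a * u * a * u⁻¹ ∈ W) :
    u ∈ centralizer (W : Set S) ∨ a * u ∈ centralizer (W : Set S) := by
  have h := C.eight
  obtain ⟨n, hn', hy⟩ := C.exists_comm hu
  set y := n * u with hy'
  have hyc : y * c * y⁻¹ = c := by
    obtain ⟨w, hw, hwc⟩ := h.exists_move
    have hyi : y⁻¹ * a = a * y⁻¹ :=
      inv_mul_eq_iff_eq_mul.2 (by rw [← mul_assoc, hy, mul_inv_cancel_right])
    have hm : y * w * y⁻¹ ∈ W := hn.conj_mem w hw y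
    have e : a * (y * w * y⁻¹) * a * (y * w * y⁻¹) = y * c * y⁻¹ := by
      calc a * (y * w * y⁻¹) * a * (y * w * y⁻¹) = (a * y) * w * (y⁻¹ * a) * (y * w * y⁻¹) := by
            group
        _ = (y * a) * w * (a * y⁻¹) * (y * w * y⁻¹) := by rw [hy, hyi]
        _ = y * (a * w * a * w) * y⁻¹ := by group
        _ = y * c * y⁻¹ := by rw [hwc]
    rcases h.image _ hm with e' | e' <;> rw [e] at e'
    · exact absurd (conj_eq_one_iff.1 e') h.hc1
    · exact e'
  have hyB : ∀ m ∈ W, m * a = a * m → m * y = y * m := by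
    intro m hm hma
    have hw0 := C.w₀_central y
    -- the fixed space is generated by `c` and `k₀ * k₀`
    have hw0a : (k₀ * k₀) * a = a * (k₀ * k₀) :=
      (mul_inv_eq_iff_eq_mul.1 (C.w₀_central a)).symm
    have hle : m ∈ four h.hW h.hc C.sq_mem := by
      by_contra hh
      have hh1 : m ≠ 1 := fun e => hh (Or.inl e)
      have hh2 : m ≠ c := fun e => hh (Or.inr (Or.inl e))
      have hh3 : m ≠ k₀ * k₀ := fun e => hh (Or.inr (Or.inr (Or.inl e)))
      have hh4 : m ≠ c * (k₀ * k₀) := fun e => hh (Or.inr (Or.inr (Or.inr e)))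
      obtain ⟨w, hw, hwc⟩ := h.exists_move
      have hle : W ≤ centralizer {a} := Basis.le_of_mem h.hS
        ⟨h.hW, h.card, h.hc, C.sq_mem, hm, h.hc1, C.w₀_ne_one, hcw.symm, hh1, hh2, hh3, hh4⟩
        (mem_centralizer_singleton_iff.2 h.comm_c) (mem_centralizer_singleton_iff.2 hw0a)
        (mem_centralizer_singleton_iff.2 hma)
      apply h.hc1
      rw [← hwc, ← mem_centralizer_singleton_iff.1 (hle hw), mul_assoc w a a, h.inv, mul_one,
        h.hW.sq w hw]
    have e : y * m * y⁻¹ = m := by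
      rcases hle with rfl | rfl | rfl | rfl
      · group
      · exact hyc
      · exact hw0
      · rw [← conj_mul, hyc, hw0]
    exact (mul_inv_eq_iff_eq_mul.1 e).symm
  have hWK := h.hW.le_centralizer
  rcases h2 y hy hyB with h' | h'
  · exact Or.inl (by simpa [hy'] using mul_mem (inv_mem hn') (hWK h'))
  · refine Or.inr ?_
    have : a * n⁻¹ * a⁻¹ ∈ centralizer (W : Set S) :=
      (inferInstance : (centralizer (W : Set S)).Normal).conj_mem _ (inv_mem hn') a
    simpa [hy', mul_assoc] using mul_mem this (hWK h')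

/-- The elations with centre `k₀ * k₀`. -/
def V (C : Core W a c k₀) : Subgroup S := elations W (k₀ * k₀) C.w₀_sq C.w₀_central

theorem a_notMem_V (C : Core W a c k₀) (hcw : c ≠ k₀ * k₀) : a ∉ C.V := fun ha => by
  have h := C.eight
  obtain ⟨w, hw, hwc⟩ := h.exists_move
  rcases ha w hw with e | e <;> rw [h.inv_eq] at e
  · rw [e, h.hW.sq w hw] at hwc
    exact h.hc1 hwc.symm
  · rw [e, mul_assoc, h.hW.sq w hw, mul_one] at hwc
    exact hcw hwc.symm

theorem centralizer_le_V (C : Core W a c k₀) : centralizer (W : Set S) ≤ C.V := fun g hg w hw =>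
  Or.inl (mul_inv_eq_iff_eq_mul.2 (mem_centralizer_iff.1 hg w hw).symm)

theorem mem_K_of_V (C : Core W a c k₀) (h2 : Two W a) (hcw : c ≠ k₀ * k₀) {u : S} (hu : u ∈ C.V)
    (hfix : a * u * a * u⁻¹ ∈ W) : u ∈ centralizer (W : Set S) :=
  (C.mem_or h2 hcw hfix).resolve_right fun h => C.a_notMem_V hcw (by
    simpa using mul_mem (C.centralizer_le_V h) (inv_mem hu))

theorem sq_mem_K_of_V (C : Core W a c k₀) {u : S} (hu : u ∈ C.V) :
    u * u ∈ centralizer (W : Set S) := by
  refine mem_centralizer_iff.2 fun w hw => ?_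
  have e : u * u * w * (u * u)⁻¹ = w := by
    rw [show u * u * w * (u * u)⁻¹ = u * (u * w * u⁻¹) * u⁻¹ by group]
    rcases hu w hw with e | e
    · rw [e, e]
    · rw [e, ← conj_mul, C.w₀_central, e, ← mul_assoc, C.w₀_sq, one_mul]
  exact (mul_inv_eq_iff_eq_mul.1 e).symm

section Noncyclic

variable (C : Core W a c k₀)
  (hcyc : ¬ IsCyclic ((centralizer (W : Set S)) ⧸ W.subgroupOf (centralizer (W : Set S))))
include C hcyc

theorem c_ne_w₀ : c ≠ k₀ * k₀ := by
  obtain ⟨T, hT0, hTσ⟩ := C.exists_fixTwo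
  obtain ⟨G, hG⟩ := T.exists_good
  have hne : G ≠ ⊤ := fun e => hcyc (by
    haveI := hG.cyclic
    exact isCyclic_of_surjective ((MulEquiv.subgroupCongr e).trans topEquiv).toMonoidHom
      ((MulEquiv.subgroupCongr e).trans topEquiv).surjective)
  obtain ⟨q, hq⟩ := hG.tw_surj hne hG.mem₀
  obtain ⟨l, rfl⟩ := QuotientGroup.mk_surjective q
  obtain ⟨l', hl', hσ⟩ := hTσ l
  rw [FixTwo.tw, hσ, hT0, ← QuotientGroup.mk_inv, ← QuotientGroup.mk_mul, eq_comm,
    QuotientGroup.eq] at hq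
  refine C.c_ne_w₀_of_eq (l := (l : S)) ?_
  have h1 : k₀⁻¹ * ((l' : S) * (l : S)⁻¹) ∈ W := hq
  rwa [hl'] at h1

theorem mem_K_of_V_comm (h2 : Two W a) {u : S} (hu : u ∈ C.V) (hq : a * u * a * u⁻¹ ∈ centralizer (W : Set S)) :
    u ∈ centralizer (W : Set S) := by
  have h := C.eight
  obtain ⟨T, hT0, hTσ⟩ := C.exists_fixTwo
  obtain ⟨G, hG⟩ := T.exists_good
  have hne : G ≠ ⊤ := fun e => hcyc (by
    haveI := hG.cyclic
    exact isCyclic_of_surjective ((MulEquiv.subgroupCongr e).trans topEquiv).toMonoidHom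
      ((MulEquiv.subgroupCongr e).trans topEquiv).surjective)
  set q : centralizer (W : Set S) := ⟨_, hq⟩ with hqdef
  obtain ⟨q', hq', hqσ⟩ := hTσ q
  have hinv : T.σ (q : _ ⧸ W.subgroupOf _) = (q : _ ⧸ W.subgroupOf _)⁻¹ := by
    rw [hqσ, ← QuotientGroup.mk_inv]
    congr 1
    exact Subtype.ext (hq'.trans (inverted h.inv u))
  obtain ⟨r, hr⟩ := hG.tw_surj hne (hG.inverted_mem hcyc hinv)
  obtain ⟨r, rfl⟩ := QuotientGroup.mk_surjective r
  obtain ⟨r', hr', hrσ⟩ := hTσ r
  rw [FixTwo.tw, hrσ, ← QuotientGroup.mk_inv, ← QuotientGroup.mk_mul, QuotientGroup.eq] at hr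
  have h1 : ((r' : S) * (r : S)⁻¹)⁻¹ * (a * u * a * u⁻¹) ∈ W := hr
  rw [hr'] at h1
  have hfix : a * ((r : S)⁻¹ * u) * a * ((r : S)⁻¹ * u)⁻¹ ∈ W := by
    rw [show a * ((r : S)⁻¹ * u) * a * ((r : S)⁻¹ * u)⁻¹ =
      (r : S)⁻¹ * ((a⁻¹⁻¹ * r * a⁻¹ * (r : S)⁻¹)⁻¹ * (a⁻¹ * a⁻¹)⁻¹⁻¹ * (a * u * a * u⁻¹)) * r by
        rw [h.inv_eq, h.inv, h.inv_eq, inv_one, inv_one, mul_one, h.conj_mul_mul]
        rw [show a * (r : S)⁻¹ * a = (a⁻¹ * r * a⁻¹)⁻¹ by group, h.inv_eq]
        group]
    rw [h.inv_eq, h.inv, h.inv_eq, inv_one, inv_one, mul_one]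
    simpa using hn.conj_mem _ h1 (r : S)⁻¹
  have h3 := C.mem_K_of_V h2 (C.c_ne_w₀ hcyc)
    (mul_mem (inv_mem (C.centralizer_le_V r.2)) hu) hfix
  simpa using mul_mem r.2 h3

theorem V_le_K (h2 : Two W a) {g : S} (hg : g ∈ C.V) : g ∈ centralizer (W : Set S) := by
  have h := C.eight
  haveI : C.V.Normal := elations_normal
  haveI : (centralizer (W : Set S)).Normal := inferInstance
  have hq : a * g * a * g⁻¹ ∈ C.V := by
    refine mul_mem ?_ (inv_mem hg)
    have := (inferInstance : C.V.Normal).conj_mem g hg a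
    rwa [h.inv_eq] at this
  refine C.mem_K_of_V_comm hcyc h2 hg (C.mem_K_of_V_comm hcyc h2 hq ?_)
  rw [inverted h.inv g, ← mul_inv_rev]
  exact inv_mem (C.sq_mem_K_of_V hq)

/-- The centralizer of `W` has index at most 2. -/
theorem mem_K_or (h2 : Two W a) (g : S) : g ∈ centralizer (W : Set S) ∨ a * g ∈ centralizer (W : Set S) := by
  have h := C.eight
  have hz := C.w₀_central
  obtain ⟨q, r, fl⟩ := exists_flag h.hS h.hW h.card C.sq_mem C.w₀_ne_one hz
  -- the subgroup of elements moving `r` only along the centre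
  have hV : ∀ x : S, (x * r * x⁻¹ = r ∨ x * r * x⁻¹ = k₀ * k₀ * r) → x ∈ C.V := by
    intro x hx
    let D : Subgroup S :=
      { carrier := {w | w ∈ W ∧ (x * w * x⁻¹ = w ∨ x * w * x⁻¹ = k₀ * k₀ * w)}
        one_mem' := ⟨one_mem W, Or.inl (by group)⟩
        mul_mem' := by
          rintro v w ⟨hv, hv'⟩ ⟨hw, hw'⟩
          refine ⟨mul_mem hv hw, ?_⟩
          rw [← conj_mul]
          have hc := h.hW.comm v hv _ C.sq_mem
          rcases hv' with e | e <;> rcases hw' with e' | e' <;> rw [e, e']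
          · exact Or.inl rfl
          · exact Or.inr (by rw [← mul_assoc, hc, mul_assoc])
          · exact Or.inr (mul_assoc _ _ _)
          · refine Or.inl ?_
            calc k₀ * k₀ * v * (k₀ * k₀ * w) = k₀ * k₀ * (v * (k₀ * k₀)) * w := by group
              _ = k₀ * k₀ * (k₀ * k₀) * (v * w) := by rw [hc]; group
              _ = v * w := by rw [C.w₀_sq, one_mul]
        inv_mem' := by
          rintro w ⟨hw, hw'⟩
          rw [h.hW.inv hw]
          exact ⟨hw, hw'⟩ }
    have hle : W ≤ D := fl.toBasis.le_of_mem h.hS ⟨fl.hp, Or.inl (fl.fix_p x)⟩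
      ⟨fl.hq, fl.move_q x⟩ ⟨fl.hr, hx⟩
    exact fun w hw => (hle hw).2
  by_cases hg : g ∈ C.V
  · exact Or.inl (C.V_le_K hcyc h2 hg)
  refine Or.inr (C.V_le_K hcyc h2 (hV _ ?_))
  have hmr : ∀ x : S, x ∉ C.V → x * r * x⁻¹ = q * r ∨ x * r * x⁻¹ = k₀ * k₀ * q * r := by
    intro x hx
    have := fl.move_r x
    simp only [Set.mem_insert_iff, Set.mem_singleton_iff] at this
    rcases this with e | e | e | e
    · exact absurd (hV x (Or.inl e)) hx
    · exact absurd (hV x (Or.inr e)) hx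
    · exact Or.inl e
    · exact Or.inr e
  have ha := hmr a (C.a_notMem_V (C.c_ne_w₀ hcyc))
  rw [show a * g * r * (a * g)⁻¹ = a * (g * r * g⁻¹) * a⁻¹ by group]
  have hq2 := h.hW.sq q fl.hq
  have hqw := h.hW.comm q fl.hq _ C.sq_mem
  have key : a * (q * r) * a⁻¹ = r ∨ a * (q * r) * a⁻¹ = k₀ * k₀ * r := by
    rw [← conj_mul]
    rcases fl.move_q a with e2 | e2 <;> rcases ha with e1 | e1 <;> rw [e1, e2]
    · exact Or.inl (by rw [← mul_assoc, hq2, one_mul])
    · refine Or.inr ?_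
      calc q * (k₀ * k₀ * q * r) = q * (k₀ * k₀) * q * r := by group
        _ = k₀ * k₀ * (q * q) * r := by rw [hqw]; group
        _ = k₀ * k₀ * r := by rw [hq2, mul_one]
    · exact Or.inr (by rw [mul_assoc (k₀ * k₀), ← mul_assoc q q r, hq2, one_mul])
    · refine Or.inl ?_
      calc k₀ * k₀ * q * (k₀ * k₀ * q * r) = k₀ * k₀ * (q * (k₀ * k₀)) * q * r := by group
        _ = k₀ * k₀ * (k₀ * k₀) * (q * q) * r := by rw [hqw]; group
        _ = r := by rw [C.w₀_sq, hq2, one_mul, one_mul]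
  rcases hmr g hg with e | e <;> rw [e]
  · exact key
  · rw [show a * (k₀ * k₀ * q * r) * a⁻¹ = a * (k₀ * k₀) * a⁻¹ * (a * (q * r) * a⁻¹) by group, hz a]
    rcases key with e' | e' <;> rw [e']
    · exact Or.inr rfl
    · exact Or.inl (by rw [← mul_assoc, C.w₀_sq, one_mul])

end Noncyclic

end Core


namespace Eight

variable {W : Subgroup S} [hn : W.Normal] {a c : S}

/-- Subgroups have Frattini index at most 16. -/
theorem frattini_index (h : Eight W a c)
    (hor : ∀ k₀, Core W a c k₀ → c = k₀ * k₀ ∨ Two W a) (H : Subgroup S) :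
    (frattini H).index ≤ 16 := by
  haveI : Fact (Nat.Prime 2) := ⟨Nat.prime_two⟩
  set K := centralizer (W : Set S) with hK
  set L := W.subgroupOf K with hL
  haveI : (frattini H).Normal := inferInstance
  haveI : (K.subgroupOf H).Normal := Normal.subgroupOf inferInstance H
  have hWK := h.hW.le_centralizer
  have hsplit := index_split H hWK
  obtain ⟨A3, hA3⟩ : ∃ x, x = (frattini H).relIndex (W.subgroupOf H) := ⟨_, rfl⟩
  obtain ⟨A2, hA2⟩ : ∃ x, x = (frattini H ⊔ W.subgroupOf H).relIndex (K.subgroupOf H) := ⟨_, rfl⟩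
  obtain ⟨A1, hA1⟩ : ∃ x, x = (frattini H ⊔ K.subgroupOf H).index := ⟨_, rfl⟩
  rw [← hA3, ← hA2, ← hA1] at hsplit
  have h1 : A1 ≤ 4 := by rw [hA1]; exact top_le_four h.hS H h.hW h.card
  have h3 : A3 ≤ 8 := by rw [hA3]; exact h.card ▸ relIndex_le_card H W _
  by_contra hbig
  obtain ⟨n, hn'⟩ := (h.hS.to_subgroup H).index (frattini H)
  have h32 : 32 ≤ A3 * A2 * A1 := by
    rw [← hsplit, hn']
    have : 5 ≤ n := by
      by_contra hh
      exact hbig (hn'.trans_le (Nat.pow_le_pow_right two_pos (show n ≤ 4 by omega)))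
    exact Nat.pow_le_pow_right two_pos this
  have hfull : 8 ≤ A3 → A1 = 1 := fun h8 =>
    hA1.trans (top_eq_one_of_full h.hS H (by rw [h.card, ← hA3]; exact h8))
  have h2 : 2 ≤ A2 := by
    by_contra hh
    by_cases h8 : 8 ≤ A3
    · rw [hfull h8] at h32
      have := Nat.mul_le_mul h3 (show A2 ≤ 1 by omega)
      omega
    · have := Nat.mul_le_mul (Nat.mul_le_mul (show A3 ≤ 7 by omega) (show A2 ≤ 1 by omega)) h1
      omega
  have hlt : W < K := lt_of_le_of_ne hWK fun e => by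
    have : A2 = 1 := hA2.trans (relIndex_eq_one.2 (e ▸ le_sup_right))
    omega
  obtain ⟨k₀, C⟩ := h.exists_core hlt
  have hor' : c ≠ k₀ * k₀ → Two W a := fun hne => (hor k₀ C).resolve_left hne
  obtain ⟨J, N, hN, hNi, hJ⟩ := middle_le h.hS H (W := W) (QuotientGroup.mk' L)
    (fun k => QuotientGroup.eq_one_iff k)
  rw [← hA2] at hNi
  obtain ⟨T, hT0, hTσ⟩ := C.exists_fixTwo
  -- `k₀` in the image gives an element of `F ∩ W`
  have hk0 : T.k₀ ∈ J → ∃ k : S, k ∈ H ∧ k ∈ K ∧ k₀⁻¹ * k ∈ W ∧ k * k = k₀ * k₀ := by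
    intro hmem
    obtain ⟨k, hkH, hk⟩ := hJ _ hmem
    rw [hT0, eq_comm, QuotientGroup.mk'_apply, QuotientGroup.eq] at hk
    have hw : k₀⁻¹ * (k : S) ∈ W := hk
    refine ⟨k, hkH, k.2, hw, ?_⟩
    have hc := mem_centralizer_iff.1 C.mem _ hw
    calc (k : S) * k = k₀ * ((k₀⁻¹ * k) * k₀) * (k₀⁻¹ * k) := by group
      _ = k₀ * k₀ * ((k₀⁻¹ * k) * (k₀⁻¹ * k)) := by rw [hc]; group
      _ = k₀ * k₀ := by rw [h.hW.sq _ hw, mul_one]
  have hw0F : T.k₀ ∈ J → ∃ hH : k₀ * k₀ ∈ H, (⟨k₀ * k₀, hH⟩ : H) ∈ frattini H := by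
    intro hmem
    obtain ⟨k, hkH, -, -, hk⟩ := hk0 hmem
    refine ⟨hk ▸ mul_mem hkH hkH, ?_⟩
    rw [show (⟨k₀ * k₀, hk ▸ mul_mem hkH hkH⟩ : H) = ⟨k, hkH⟩ * ⟨k, hkH⟩ from Subtype.ext hk.symm]
    exact sq_mem_frattini h.hS H _
  by_cases hcyc : IsCyclic (K ⧸ L)
  swap
  · -- `K / W` is not cyclic
    have hTwo := hor' (C.c_ne_w₀ hcyc)
    have hA1' : A1 ≤ 2 := by
      rw [hA1]
      refine index_le_two_of fun x y hx hy => mem_sup_right ?_
      have hxK : a * (x : S) ∈ K :=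
        (C.mem_K_or hcyc hTwo x).resolve_left fun hh => hx (mem_sup_right hh)
      have hyK : a * (y : S) ∈ K :=
        (C.mem_K_or hcyc hTwo y).resolve_left fun hh => hy (mem_sup_right hh)
      show (x : S)⁻¹ * y ∈ K
      simpa [mul_assoc] using mul_mem (inv_mem hxK) hyK
    obtain ⟨G, hG⟩ := T.exists_good
    obtain ⟨hN4, hN3⟩ := FixTwo.subgroup_bound hG J N hN
    rw [hNi] at hN4 hN3
    have h2' : A2 = 4 := by
      by_contra hne
      by_cases h8 : 8 ≤ A3
      · rw [hfull h8] at h32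
        have := Nat.mul_le_mul h3 (show A2 ≤ 3 by omega)
        omega
      · have := Nat.mul_le_mul (Nat.mul_le_mul (show A3 ≤ 7 by omega) (show A2 ≤ 3 by omega)) hA1'
        obtain ⟨j, hj⟩ : ∃ j, A3 = 2 ^ j := hA3 ▸
          ((h.hS.to_subgroup H).to_subgroup (W.subgroupOf H)).index
            ((frattini H).subgroupOf (W.subgroupOf H))
        have : j ≤ 2 := by
          by_contra hh
          have : 2 ^ 3 ≤ 2 ^ j := Nat.pow_le_pow_right two_pos (by omega)
          omega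
        have : A3 ≤ 4 := hj ▸ Nat.pow_le_pow_right two_pos this
        have := Nat.mul_le_mul (Nat.mul_le_mul this (show A2 ≤ 3 by omega)) hA1'
        omega
    obtain ⟨hw0H, hw0⟩ := hw0F (hN3 (by omega))
    have hhalf := two_mul_relIndex_le H W _ hw0H hw0 C.sq_mem C.w₀_ne_one
    rw [h.card, ← hA3] at hhalf
    rw [h2'] at h32
    have hA1e : A1 = 2 := by
      by_contra hne
      have := Nat.mul_le_mul (show A3 * 4 ≤ 16 by omega) (show A1 ≤ 1 by omega)
      omega
    rw [hA1e] at h32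
    obtain ⟨hle, hF⟩ := of_card_le_two_mul H W (frattini H) (by rw [h.card, ← hA3]; omega) hw0H hw0
      C.sq_mem C.w₀_ne_one
    obtain ⟨x, hx⟩ : ∃ x : H, x ∉ K.subgroupOf H := by
      by_contra hh
      push Not at hh
      have : A1 = 1 := hA1.trans <| index_eq_one.2 (eq_top_iff.2 fun x _ => mem_sup_right (hh x))
      omega
    have hxK : a * (x : S) ∈ K := (C.mem_K_or hcyc hTwo x).resolve_left hx
    obtain ⟨w, hw, hwc⟩ := h.exists_move
    have hxw : (x : S) * w * (x : S)⁻¹ = a * w * a := by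
      calc (x : S) * w * (x : S)⁻¹ = a⁻¹ * (a * x * w * (a * x)⁻¹) * a := by group
        _ = a * w * a := by
          rw [← mem_centralizer_iff.1 hxK w hw, mul_inv_cancel_right, h.inv_eq]
    have := hF _ (comm_mem_frattini h.hS H x ⟨w, hle hw⟩) (by
      show (x : S) * w * (x : S)⁻¹ * w⁻¹ ∈ W
      exact mul_mem (hn.conj_mem w hw x) (inv_mem hw))
    rw [Subgroup.coe_mul, Subgroup.coe_mul, Subgroup.coe_mul, Subgroup.coe_inv, Subgroup.coe_inv,
      hxw, h.hW.inv hw, hwc] at this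
    exact this.elim h.hc1 (C.c_ne_w₀ hcyc)
  · -- `K / W` is cyclic
    haveI := hcyc
    have hA2le : A2 ≤ 2 := hNi ▸ FixTwo.subgroup_bound_cyclic J N hN
    have hG : T.Good ⊤ := FixTwo.Good.top
    have hk0J : T.k₀ ∈ J := by
      obtain ⟨q, hq, hq1⟩ := J.bot_or_exists_ne_one.resolve_left fun e => by
        subst e
        have := index_dvd_of_le (bot_le : (⊥ : Subgroup (⊥ : Subgroup (K ⧸ L))) ≤ N)
        rw [index_bot, card_bot, hNi, Nat.dvd_one] at this
        omega
      exact hG.k₀_mem (mem_top q) hq hq1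
    obtain ⟨k, hkH, hkK, hkW, hksq⟩ := hk0 hk0J
    obtain ⟨hw0H, hw0⟩ := hw0F hk0J
    have hhalf := two_mul_relIndex_le H W _ hw0H hw0 C.sq_mem C.w₀_ne_one
    rw [h.card, ← hA3] at hhalf
    have := Nat.mul_le_mul (Nat.mul_le_mul (show A3 ≤ 4 by omega) hA2le) h1
    have hA3e : A3 = 4 := by
      by_contra hne
      have := Nat.mul_le_mul (Nat.mul_le_mul (show A3 ≤ 3 by omega) hA2le) h1
      omega
    have hA1e : 3 ≤ A1 := by
      by_contra hne
      have := Nat.mul_le_mul (Nat.mul_le_mul (show A3 ≤ 4 by omega) hA2le) (show A1 ≤ 2 by omega)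
      omega
    obtain ⟨hle, hF⟩ := of_card_le_two_mul H W (frattini H) (by rw [h.card, ← hA3]; omega) hw0H hw0
      C.sq_mem C.w₀_ne_one
    rw [hA1] at hA1e
    have hHV : ∀ x ∈ H, x ∈ C.V := fun x hx w hw => by
      rcases hF _ (comm_mem_frattini h.hS H ⟨x, hx⟩ ⟨w, hle hw⟩)
        (mul_mem (hn.conj_mem w hw x) (inv_mem hw)) with e | e
      · exact Or.inl (mul_inv_eq_one.1 e)
      · exact Or.inr (mul_inv_eq_iff_eq_mul.1 e)
    have habel : ∀ x ∈ K, ∀ y ∈ K, x * y = y * x := by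
      intro x hx y hy
      obtain ⟨g, hg⟩ := IsCyclic.exists_generator (α := K ⧸ L)
      obtain ⟨g, rfl⟩ := QuotientGroup.mk_surjective g
      have hsp : ∀ z ∈ K, ∃ (i : ℤ) (w : S), w ∈ W ∧ z = (g : S) ^ i * w := by
        intro z hz
        obtain ⟨i, hi⟩ := mem_zpowers_iff.1 (hg ((⟨z, hz⟩ : K) : K ⧸ L))
        rw [← QuotientGroup.mk_zpow, QuotientGroup.eq] at hi
        have hi' : ((g ^ i : K) : S)⁻¹ * z ∈ W := hi
        rw [Subgroup.coe_zpow] at hi'
        exact ⟨i, _, hi', by group⟩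
      obtain ⟨i, v, hv, rfl⟩ := hsp x hx
      obtain ⟨j, w, hw, rfl⟩ := hsp y hy
      have hgw : ∀ u ∈ W, Commute (g : S) u := fun u hu => (mem_centralizer_iff.1 g.2 u hu).symm
      have c1 : Commute v ((g : S) ^ j) := ((hgw v hv).zpow_left j).symm
      have c2 : Commute w ((g : S) ^ i) := ((hgw w hw).zpow_left i).symm
      have c3 : Commute ((g : S) ^ i) ((g : S) ^ j) := (Commute.refl _).zpow_zpow i j
      have c4 : Commute v w := h.hW.comm v hv w hw
      exact ((c3.mul_right c2.symm).mul_left (c1.mul_right c4)).eq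
    by_cases hcw : c = k₀ * k₀
    · -- some element of `H` acts as `a`
      obtain ⟨q, r, fl⟩ := exists_flag h.hS h.hW h.card C.sq_mem C.w₀_ne_one C.w₀_central
      have hav : ∀ u ∈ W, a * u * a⁻¹ = u ∨ a * u * a⁻¹ = k₀ * k₀ * u := by
        intro u hu
        rw [h.inv_eq, ← hcw]
        rcases h.image u hu with e | e
        · exact Or.inl ((eq_inv_of_mul_eq_one_left e).trans (h.hW.inv hu))
        · refine Or.inr ?_
          rw [← e, mul_assoc (a * u * a), h.hW.sq u hu, mul_one]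
      obtain ⟨x, hx, hxq, hxr⟩ := exists_elation h.hS H fl.toBasis fl.fix_p
        (fun x hx => ⟨hHV x hx q fl.hq, hHV x hx r fl.hr⟩) hA1e (hav q fl.hq) (hav r fl.hr)
      have hκ : a⁻¹ * x ∈ K :=
        fl.toBasis.centralizer_of_eq h.hS (by rw [fl.fix_p, fl.fix_p]) hxq hxr
      obtain ⟨hd1, hdc⟩ := C.d_ne
      set d := a * k₀ * a * k₀⁻¹ with hd
      set v := k₀⁻¹ * k with hv
      have hcom : x * k * x⁻¹ * k⁻¹ = d * (a * v * a * v⁻¹) := by
        have e1 : x * k * x⁻¹ = a * ((a⁻¹ * x) * k * (a⁻¹ * x)⁻¹) * a⁻¹ := by group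
        rw [e1, habel _ hκ k hkK, mul_inv_cancel_right, h.inv_eq, show k = k₀ * v by rw [hv]; group,
          h.conj_mul_mul, mul_inv_rev]
        calc a * k₀ * a * (a * v * a) * (v⁻¹ * k₀⁻¹)
            = a * k₀ * a * ((a * v * a * v⁻¹) * k₀⁻¹) := by group
          _ = d * (a * v * a * v⁻¹) := by
            rw [← habel k₀⁻¹ (inv_mem C.mem) _ (hWK (mul_mem (h.conj_mem hkW) (inv_mem hkW))), hd]
            group
      have hdW : d * (a * v * a * v⁻¹) ∈ W :=
        mul_mem C.d_mem (mul_mem (h.conj_mem hkW) (inv_mem hkW))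
      have := hF _ (comm_mem_frattini h.hS H ⟨x, hx⟩ ⟨k, hkH⟩) (by
        show x * k * x⁻¹ * k⁻¹ ∈ W
        rw [hcom]; exact hdW)
      change x * k * x⁻¹ * k⁻¹ = 1 ∨ x * k * x⁻¹ * k⁻¹ = k₀ * k₀ at this
      rw [hcom, ← hcw, h.hW.inv hkW] at this
      rcases h.image v hkW with e | e <;> rw [e] at this
      · rw [mul_one] at this
        exact this.elim hd1 hdc
      · rcases this with e' | e'
        · exact hdc ((eq_inv_of_mul_eq_one_left e').trans (h.hW.inv h.hc))
        · exact hd1 (mul_eq_right.1 e')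
    · -- a commutator with `a` acts as an elation
      obtain ⟨w, hw, hwc⟩ := h.exists_move
      have hw2 := C.w₀_sq
      have haw : a * w * a = c * w := by
        rw [← hwc, mul_assoc (a * w * a), h.hW.sq w hw, mul_one]
      have hne : w ≠ 1 ∧ w ≠ k₀ * k₀ ∧ w ≠ c ∧ w ≠ k₀ * k₀ * c := by
        have hfix : ∀ u, u * a = a * u → u ∈ W → w ≠ u := fun u hu huW e => h.hc1 (by
          subst e
          rw [← hwc, ← hu, mul_assoc w a a, h.inv, mul_one, h.hW.sq w hw])
        have hw0a : (k₀ * k₀) * a = a * (k₀ * k₀) :=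
          (mul_inv_eq_iff_eq_mul.1 (C.w₀_central a)).symm
        exact ⟨hfix 1 (by simp) (one_mem W), hfix _ hw0a C.sq_mem, hfix c h.comm_c h.hc,
          hfix _ (by rw [mul_assoc, h.comm_c, ← mul_assoc, hw0a, mul_assoc]) (mul_mem C.sq_mem h.hc)⟩
      have b : Basis W (k₀ * k₀) c w :=
        ⟨h.hW, h.card, C.sq_mem, h.hc, hw, C.w₀_ne_one, h.hc1, hcw, hne⟩
      obtain ⟨t, ht, htc, htw⟩ := exists_elation h.hS H b C.w₀_central
        (fun x hx => ⟨hHV x hx c h.hc, hHV x hx w hw⟩) hA1e (i := k₀ * k₀ * c) (j := w)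
        (Or.inr rfl) (Or.inl rfl)
      haveI : C.V.Normal := elations_normal
      set y := a * t * a * t⁻¹ with hy
      have hyV : y ∈ C.V := by
        have h1 := (inferInstance : C.V.Normal).conj_mem t (hHV t ht) a
        rw [h.inv_eq] at h1
        exact mul_mem h1 (inv_mem (hHV t ht))
      have hyw : y * w * y⁻¹ = k₀ * k₀ * w := by
        have hti : t⁻¹ * w * t = w := by
          calc t⁻¹ * w * t = t⁻¹ * (t * w * t⁻¹) * t := by rw [htw]
            _ = w := by group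
        have hac : a * c * a = c := by rw [← h.comm_c, mul_assoc, h.inv, mul_one]
        have haw0 : a * (k₀ * k₀) * a = k₀ * k₀ := by
          have := C.w₀_central a
          rwa [h.inv_eq] at this
        calc y * w * y⁻¹ = a * (t * (a * (t⁻¹ * w * t) * a⁻¹) * t⁻¹) * a⁻¹ := by rw [hy]; group
          _ = a * (k₀ * k₀ * c * w) * a := by rw [hti, h.inv_eq, haw, ← conj_mul, htc, htw]
          _ = k₀ * k₀ * (c * (c * w)) := by
              rw [h.conj_mul_mul, h.conj_mul_mul, haw0, hac, haw]; group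
          _ = k₀ * k₀ * w := by rw [← mul_assoc c c w, h.hW.sq c h.hc, one_mul]
      have hyK : y ∉ K := fun hh => C.w₀_ne_one (by
        rw [← mem_centralizer_iff.1 hh w hw, mul_inv_cancel_right] at hyw
        exact mul_eq_right.1 hyw.symm)
      set g : K := ⟨y * y, C.sq_mem_K_of_V hyV⟩ with hg
      by_cases hsq : ∃ e ∈ (⊤ : Subgroup (K ⧸ L)), e * e = (g : K ⧸ L)
      · -- then `y` can be adjusted to a fixed coset
        obtain ⟨e, he, he2⟩ := hsq
        obtain ⟨q, -, hq⟩ := hG.tw_sq he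
        obtain ⟨q, rfl⟩ := QuotientGroup.mk_surjective q
        obtain ⟨q', hq', hqσ⟩ := hTσ q
        rw [FixTwo.tw, hqσ, he2, ← QuotientGroup.mk_inv, ← QuotientGroup.mk_mul, eq_comm,
          QuotientGroup.eq] at hq
        have h1 : (y * y)⁻¹ * ((q' : S) * (q : S)⁻¹) ∈ W := hq
        rw [hq'] at h1
        have hyi : a * y * a = y⁻¹ := inverted h.inv t
        have hfix : a * (y * q) * a * (y * q)⁻¹ ∈ W := by
          rw [h.conj_mul_mul, hyi]
          have := hn.conj_mem _ h1 y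
          simpa [mul_assoc] using this
        refine hyK ?_
        have := C.mem_K_of_V (hor' hcw) hcw (mul_mem hyV (C.centralizer_le_V q.2)) hfix
        simpa using mul_mem this (inv_mem q.2)
      · -- then the square of an element of `H` generates `K / W`
        obtain ⟨x, hx, hxc, hxw⟩ := exists_elation h.hS H b C.w₀_central
          (fun x hx => ⟨hHV x hx c h.hc, hHV x hx w hw⟩) hA1e (hyV c h.hc) (hyV w hw)
        have hκ : y⁻¹ * x ∈ K :=
          b.centralizer_of_eq h.hS (by rw [C.w₀_central, C.w₀_central]) hxc hxw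
        set κ : K := ⟨y⁻¹ * x, hκ⟩ with hκdef
        have hyfix : ∀ l : K, ∃ v ∈ W, y⁻¹ * l * y = l * v := by
          intro l
          obtain ⟨i, hi⟩ := mem_zpowers_iff.1 (hG.gen_of_not_sq (mem_top _) hsq (mem_top (l : K ⧸ L)))
          rw [← QuotientGroup.mk_zpow, QuotientGroup.eq] at hi
          have hi' : ((g ^ i : K) : S)⁻¹ * (l : S) ∈ W := hi
          rw [Subgroup.coe_zpow, hg] at hi'
          set u := ((y * y) ^ i)⁻¹ * (l : S) with hu
          refine ⟨u⁻¹ * (y⁻¹ * u * y), mul_mem (inv_mem hi') ?_, ?_⟩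
          · simpa using hn.conj_mem u hi' y⁻¹
          have hc1 : Commute y ((y * y) ^ i) :=
            (((Commute.refl y).mul_right (Commute.refl y))).zpow_right i
          calc y⁻¹ * (l : S) * y = y⁻¹ * ((y * y) ^ i) * u * y := by rw [hu]; group
            _ = ((y * y) ^ i) * (y⁻¹ * u * y) := by rw [hc1.inv_left.eq]; group
            _ = (l : S) * (u⁻¹ * (y⁻¹ * u * y)) := by rw [hu]; group
        obtain ⟨v, hvW, hv⟩ := hyfix κ
        have hxxK : x * x ∈ K := C.sq_mem_K_of_V (hHV x hx)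
        have hxx : ((⟨x * x, hxxK⟩ : K) : K ⧸ L) = (g : K ⧸ L) * ((κ : K ⧸ L) * (κ : K ⧸ L)) := by
          rw [← QuotientGroup.mk_mul, ← QuotientGroup.mk_mul, eq_comm, QuotientGroup.eq]
          show (y * y * ((y⁻¹ * x) * (y⁻¹ * x)))⁻¹ * (x * x) ∈ W
          have e : x * x = y * y * ((y⁻¹ * x) * v * (y⁻¹ * x)) := by
            calc x * x = y * y * ((y⁻¹ * (y⁻¹ * x) * y) * (y⁻¹ * x)) := by group
              _ = y * y * ((y⁻¹ * x) * v * (y⁻¹ * x)) := by
                rw [show y⁻¹ * (y⁻¹ * x) * y = (y⁻¹ * x) * v from hv]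
          rw [e]
          have hc := mem_centralizer_iff.1 hκ v hvW
          rw [show (y * y * ((y⁻¹ * x) * (y⁻¹ * x)))⁻¹ * (y * y * ((y⁻¹ * x) * v * (y⁻¹ * x))) =
            (y⁻¹ * x)⁻¹ * (v * (y⁻¹ * x)) by group, hc, inv_mul_cancel_left]
          exact hvW
        have hnsq : ¬ ∃ e ∈ (⊤ : Subgroup (K ⧸ L)), e * e = ((⟨x * x, hxxK⟩ : K) : K ⧸ L) := by
          rintro ⟨e, -, he⟩
          refine hsq ⟨e * (κ : K ⧸ L)⁻¹, mem_top _, ?_⟩
          rw [hxx] at he
          rw [show e * (κ : K ⧸ L)⁻¹ * (e * (κ : K ⧸ L)⁻¹) =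
            e * ((κ : K ⧸ L)⁻¹ * e) * (κ : K ⧸ L)⁻¹ by group,
            hG.comm (mem_top ((κ : K ⧸ L)⁻¹)) (mem_top e), ← mul_assoc, he]
          group
        have : A2 = 1 := by
          refine hA2.trans (relIndex_eq_one.2 fun j hj => ?_)
          obtain ⟨i, hi⟩ := mem_zpowers_iff.1
            (hG.gen_of_not_sq (mem_top _) hnsq (mem_top ((⟨(j : S), hj⟩ : K) : K ⧸ L)))
          rw [← QuotientGroup.mk_zpow, QuotientGroup.eq] at hi
          have hi' : (((⟨x * x, hxxK⟩ : K) ^ i : K) : S)⁻¹ * (j : S) ∈ W := hi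
          rw [Subgroup.coe_zpow] at hi'
          set X : H := ⟨x, hx⟩
          rw [show j = (X * X) ^ i * (((X * X) ^ i)⁻¹ * j) by group]
          refine mul_mem (mem_sup_left (zpow_mem (sq_mem_frattini h.hS H X) i)) (mem_sup_right ?_)
          show ((((X * X) ^ i)⁻¹ * j : H) : S) ∈ W
          rw [Subgroup.coe_mul, Subgroup.coe_inv, Subgroup.coe_zpow]
          exact hi'
        omega

end Eight

end CfsgLib.SelfCentEight
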