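import Cfsg.Agent.SelfCentEight.Sixteen

/-!
The case where all normal elementary abelian subgroups have order at most 8: the configuration.
-/

set_option autoImplicit false
set_option linter.style.haveILetI false
set_option linter.unusedSectionVars false
set_option linter.unusedTactic false
set_option linter.unreachableTactic false

namespace CfsgLib.SelfCentEight

open Subgroup

universe u

variable {S : Type u} [Group S] [Finite S]

/-- A maximal normal elementary abelian subgroup of order 8 with a transvection. -/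
structure Eight (W : Subgroup S) (a c : S) : Prop where
  hS : IsPGroup 2 S
  hW : Elem W
  card : Nat.card W = 8
  small : ∀ V : Subgroup S, V.Normal → Elem V → Nat.card V ≤ 8
  inv : a * a = 1
  hc : c ∈ W
  hc1 : c ≠ 1
  image : ∀ w ∈ W, a * w * a * w = 1 ∨ a * w * a * w = c
  exists_move : ∃ w ∈ W, a * w * a * w = c
  comm_c : c * a = a * c
  ker : ∀ k : S, k ∈ centralizer (W : Set S) → k * a = a * k → k ∈ W

/-- The fixed space of `a` together with `a` is self-centralizing. -/
def Two (W : Subgroup S) (a : S) : Prop :=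
  ∀ y : S, y * a = a * y → (∀ m ∈ W, m * a = a * m → m * y = y * m) → y ∈ W ∨ a * y ∈ W

namespace Eight

variable {W : Subgroup S} [hn : W.Normal] {a c : S}

theorem inv_eq (h : Eight W a c) : a⁻¹ = a := inv_eq_of_mul_eq_one_right h.inv

theorem notMem_centralizer (h : Eight W a c) : a ∉ centralizer (W : Set S) := fun ha => by
  obtain ⟨w, hw, e⟩ := h.exists_move
  apply h.hc1
  rw [← e, ← mem_centralizer_iff.1 ha w hw, mul_assoc w a a, h.inv, mul_one, h.hW.sq w hw]

/-- The fixed points of `a` in the centralizer of `W` lie in `W`. -/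
theorem mem_of_comm (h : Eight W a c) {k : S} (hk : k ∈ centralizer (W : Set S))
    (hka : k * a = a * k) : k ∈ W := h.ker k hk hka

end Eight

theorem ker_of_two {W : Subgroup S} (hW : Elem W) {a c : S} (ha : a * a = 1) (hc1 : c ≠ 1)
    (hex : ∃ w ∈ W, a * w * a * w = c) (h2 : Two W a) :
    ∀ k : S, k ∈ centralizer (W : Set S) → k * a = a * k → k ∈ W := by
  intro k hk hka
  refine (h2 k hka fun m hm _ => mem_centralizer_iff.1 hk m hm).resolve_right fun h' => ?_
  obtain ⟨w, hw, e⟩ := hex
  have haK : a ∈ centralizer (W : Set S) := by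
    simpa using mul_mem (hW.le_centralizer h') (inv_mem hk)
  apply hc1
  rw [← e, ← mem_centralizer_iff.1 haK w hw, mul_assoc w a a, ha, mul_one, hW.sq w hw]

namespace SelfCent

variable {A : Subgroup S}

/-- The configuration exists. -/
theorem exists_eight (hA : SelfCent A) {W : Subgroup S} [hn : W.Normal] (hW : Elem W)
    (h8 : Nat.card W = 8) (hne : W ≠ A)
    (hsmall : ∀ V : Subgroup S, V.Normal → Elem V → Nat.card V ≤ 8) :
    ∃ a c, Eight W a c ∧ Two W a := by
  haveI : Fact (Nat.Prime 2) := ⟨Nat.prime_two⟩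
  have hinvA : ∀ {x}, x ∈ A → x * x = 1 := fun hx => hA.elem.sq _ hx
  have hconj : ∀ {x}, x ∈ A → ∀ m ∈ W, x * m * x ∈ W := fun {x} hx m hm => by
    have := hn.conj_mem m hm x
    rwa [hA.elem.inv hx] at this
  have hfix : ∀ {m}, m ∈ W → (∀ x ∈ A, x * m = m * x) → m ∈ W ⊓ A :=
    fun hm h => ⟨hm, hA.self _ h⟩
  have hcomB : ∀ {m x}, m ∈ W ⊓ A → x ∈ A → m * x = x * m := fun hm hx => hA.elem.comm _ hm.2 _ hx
  set B := W ⊓ A with hB
  have hB4 : Nat.card B ≤ 4 := by
    have hle : Nat.card B ≤ 8 := hA.card ▸ card_le_of_le inf_le_right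
    by_contra h
    have h' := eq_eight_of_two_pow (exists_two_pow hA.hS B) (by omega) hle
    have e1 : B = A := eq_of_le_of_card_ge inf_le_right (by rw [h', hA.card])
    have e2 : B = W := eq_of_le_of_card_ge inf_le_left (by rw [h', h8])
    exact hne (e2.symm.trans e1)
  have hB2 : 2 ≤ Nat.card B := by
    have hlt : (⊥ : Subgroup S) < W := bot_lt_iff_ne_bot.2 fun e => by
      rw [e, card_bot] at h8; omega
    obtain ⟨m, hm, hm1, hfixm⟩ := exists_fixed_coset hA.hS hlt
      (fun x _ n hn => by rw [mem_bot.1 hn]; simp) (A : Set S)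
      (fun x _ m hm => hn.conj_mem m hm x) (fun x _ n hn => by rw [mem_bot.1 hn]; simp)
    have hmB : m ∈ B := hfix hm fun x hx =>
      mul_inv_eq_iff_eq_mul.1 (mul_inv_eq_one.1 (mem_bot.1 (hfixm x hx)))
    haveI : Nontrivial B := ⟨⟨⟨m, hmB⟩, 1, fun e => hm1 (mem_bot.2 (congrArg Subtype.val e))⟩⟩
    exact Finite.one_lt_card
  -- the centre of the transvection induced by an involution with fixed space of order 4
  have hcentre : ∀ {x}, x ∈ A → Nat.card ↥(W ⊓ centralizer {x}) = 4 →
      ∃ r ∈ W, r ≠ 1 ∧ r * x = x * r ∧ (∀ w ∈ W, x * w * x * w = 1 ∨ x * w * x * w = r) ∧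
        ∃ w ∈ W, x * w * x * w = r := by
    intro x hx h4
    obtain ⟨R, hR, hcard, himg, hsurj⟩ := exists_image (hinvA hx) hW (hconj hx)
    rw [h4, h8] at hcard
    have hR2 : Nat.card R = 2 := by omega
    obtain ⟨r, hr, hr1⟩ := R.bot_or_exists_ne_one.resolve_left fun e => by
      rw [e, card_bot] at hR2; omega
    refine ⟨r, (hR hr).1, hr1, mem_centralizer_singleton_iff.1 (hR hr).2, fun w hw => ?_,
      hsurj r hr⟩
    by_contra hh
    push Not at hh
    let f : Fin 3 → R := ![1, ⟨r, hr⟩, ⟨_, himg w hw⟩]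
    have hf : Function.Injective f := by
      intro i j hij
      have e := congrArg Subtype.val hij
      fin_cases i <;> fin_cases j <;> simp [f, hr1] at e ⊢ <;>
        first
          | exact hh.1 e | exact hh.1 e.symm | exact hh.2 e | exact hh.2 e.symm
          | exact hr1 e.symm
    have := Nat.card_le_card_of_injective f hf
    rw [Nat.card_fin, hR2] at this
    omega
  obtain ⟨k, hk⟩ := exists_two_pow hA.hS B
  have hk' : Nat.card B = 2 ∨ Nat.card B = 4 := by
    have h3 : k ≤ 2 := by
      by_contra h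
      have : 2 ^ 3 ≤ 2 ^ k := Nat.pow_le_pow_right two_pos (by omega)
      omega
    interval_cases k <;> simp_all
  rcases hk' with hb | hb
  swap
  · -- `|B| = 4`
    obtain ⟨a, ha, haB⟩ : ∃ a ∈ A, a ∉ B := by
      by_contra h
      push Not at h
      have := card_le_of_le h
      rw [hA.card] at this
      omega
    have hBA : ∀ {x}, x ∈ A → x ∈ B ∨ a * x ∈ B := fun {x} hx => by
      have h2 : (B.subgroupOf A).index = 2 := by
        have := (B.subgroupOf A).card_mul_index
        rw [Nat.card_congr (subgroupOfEquivOfLe (inf_le_right : B ≤ A)).toEquiv, hb, hA.card] at this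
        omega
      by_cases hxB : x ∈ B
      · exact Or.inl hxB
      · exact Or.inr ((mul_mem_iff_of_index_two h2 (a := ⟨a, ha⟩) (b := ⟨x, hx⟩)).2
          (iff_of_false haB hxB))
    have hgenA : ∀ {y}, y * a = a * y → (∀ m ∈ B, m * y = y * m) → y ∈ A := by
      intro y hya hyB
      refine hA.self y fun x hx => ?_
      rcases hBA hx with h | h
      · exact hyB x h
      · rw [show x = a * (a * x) by rw [← mul_assoc, hinvA ha, one_mul], mul_assoc,
          hyB _ h, ← mul_assoc, ← hya, mul_assoc]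
    have hCB : W ⊓ centralizer {a} = B := by
      refine le_antisymm (fun m hm => ⟨hm.1, hgenA (mem_centralizer_singleton_iff.1 hm.2)
        fun x hx => hW.comm x hx.1 m hm.1⟩) fun m hm =>
        ⟨hm.1, mem_centralizer_singleton_iff.2 (hcomB hm ha)⟩
    obtain ⟨c, hc, hc1, hca, himg, hex⟩ := hcentre ha (by rw [hCB, hb])
    suffices h2 : Two W a from ⟨a, c, ⟨hA.hS, hW, h8, hsmall, hinvA ha, hc, hc1, himg, hex, hca,
      ker_of_two hW (hinvA ha) hc1 hex h2⟩, h2⟩
    intro y hya hyW
    exact (hBA (hgenA hya fun m hm => hyW m hm.1 (hcomB hm ha))).imp (fun h => h.1) fun h => h.1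
  -- `|B| = 2`
  obtain ⟨c, hc, hc1⟩ := B.bot_or_exists_ne_one.resolve_left fun e => by
    rw [e, card_bot] at hb; omega
  have hBc : ∀ m ∈ B, m = 1 ∨ m = c := by
    intro m hm
    by_contra hh
    push Not at hh
    let f : Fin 3 → B := ![1, ⟨c, hc⟩, ⟨m, hm⟩]
    have hf : Function.Injective f := by
      intro i j hij
      have e := congrArg Subtype.val hij
      fin_cases i <;> fin_cases j <;> simp [f, hc1, hh.1] at e ⊢ <;>
        first
          | exact hc1 e | exact hc1 e.symm | exact hh.1 e | exact hh.1 e.symm | exact hh.2 e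
          | exact hh.2 e.symm
    have := Nat.card_le_card_of_injective f hf
    rw [Nat.card_fin, hb] at this
    omega
  have hbasis : ∀ {a₁ a₂}, a₁ ∈ A → a₁ ∉ B → a₂ ∈ A → a₂ ∉ B → a₁ * a₂ ∉ B → Basis A c a₁ a₂ :=
    fun {a₁ a₂} h1 h1B h2 h2B h12 => ⟨hA.elem, hA.card, hc.2, h1, h2, hc1,
      fun e => h1B (e ▸ one_mem B), fun e => h1B (e ▸ hc), fun e => h2B (e ▸ one_mem B),
      fun e => h2B (e ▸ hc), fun e => h12 (by rw [e, hinvA h1]; exact one_mem B), fun e => h12 (by
        rw [e, ← mul_assoc, hA.elem.comm a₁ h1 c hc.2, mul_assoc, hinvA h1, mul_one]; exact hc)⟩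
  have hsecond : ∀ {a₁}, a₁ ∈ A → ∃ a₂ ∈ A, a₂ ∉ B ∧ a₁ * a₂ ∉ B := by
    intro a₁ h1
    by_contra h
    push Not at h
    let f : A → B × Fin 2 := fun x => by
      classical exact if hx : (x : S) ∈ B then (⟨x, hx⟩, 0) else (⟨a₁ * x, h x x.2 hx⟩, 1)
    have hf : Function.Injective f := by
      intro x y e
      simp only [f] at e
      by_cases hx : (x : S) ∈ B <;> by_cases hy : (y : S) ∈ B <;> simp [hx, hy] at e
      · exact e
      · exact e
    have := Nat.card_le_card_of_injective f hf
    rw [Nat.card_prod, Nat.card_fin, hb, hA.card] at this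
    omega
  have hinter : ∀ {a₁ a₂}, a₁ ∈ A → a₁ ∉ B → a₂ ∈ A → a₂ ∉ B → a₁ * a₂ ∉ B →
      ∀ m ∈ W, m * a₁ = a₁ * m → m * a₂ = a₂ * m → m ∈ B := fun h1 h1B h2 h2B h12 m hm e1 e2 =>
    ⟨hm, hA.mem_of_basis (hbasis h1 h1B h2 h2B h12) (hW.comm c hc.1 m hm) e1.symm e2.symm⟩
  have hnX : ∀ {a₁ a₂}, a₁ ∈ A → a₂ ∈ A → ∀ m ∈ W ⊓ centralizer {a₁},
      a₂ * m * a₂ ∈ W ⊓ centralizer {a₁} := by
    intro a₁ a₂ h1 h2 m hm
    refine ⟨hconj h2 m hm.1, mem_centralizer_singleton_iff.2 ?_⟩
    have hma := mem_centralizer_singleton_iff.1 hm.2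
    calc a₂ * m * a₂ * a₁ = a₂ * (m * (a₂ * a₁)) := by group
      _ = a₂ * (m * a₁) * a₂ := by rw [hA.elem.comm a₂ h2 a₁ h1]; group
      _ = (a₂ * a₁) * m * a₂ := by rw [hma]; group
      _ = a₁ * (a₂ * m * a₂) := by rw [hA.elem.comm a₂ h2 a₁ h1]; group
  have h4all : ∀ {x}, x ∈ A → x ∉ B → Nat.card ↥(W ⊓ centralizer {x}) = 4 := by
    intro x hx hxB
    have h1 := card_le_sq (hinvA hx) hW (hconj hx)
    rw [h8] at h1
    obtain ⟨n, hn'⟩ := exists_two_pow hA.hS (W ⊓ centralizer {x})
    have hle : Nat.card ↥(W ⊓ centralizer {x}) ≤ 8 := h8 ▸ card_le_of_le inf_le_left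
    by_contra h4
    have hn3 : n = 3 := by
      by_contra hne'
      have : n ≤ 3 := by
        by_contra hh
        have : 2 ^ 4 ≤ 2 ^ n := Nat.pow_le_pow_right two_pos (by omega)
        omega
      rw [hn'] at h1 h4
      interval_cases n <;> omega
    have hWx : W ≤ centralizer {x} := by
      rw [← eq_of_le_of_card_ge (inf_le_left : W ⊓ centralizer {x} ≤ W)
        (by rw [hn', hn3, h8]; norm_num)]
      exact inf_le_right
    obtain ⟨y, hy, hyB, hxy⟩ := hsecond hx
    have h2 := card_le_sq (hinvA hy) hW (hconj hy)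
    rw [h8] at h2
    have hle2 : W ⊓ centralizer {y} ≤ B := fun m hm => hinter hx hxB hy hyB hxy m hm.1
      (mem_centralizer_singleton_iff.1 (hWx hm.1)) (mem_centralizer_singleton_iff.1 hm.2)
    have := card_le_of_le hle2
    rw [hb] at this
    have := Nat.mul_le_mul this this
    omega
  -- all centres are `c`
  have himgc : ∀ {x}, x ∈ A → x ∉ B → (∀ w ∈ W, x * w * x * w = 1 ∨ x * w * x * w = c) ∧
      ∃ w ∈ W, x * w * x * w = c := by
    intro x hx hxB
    obtain ⟨r, hr, hr1, hrx, himg, w, hw, hwr⟩ := hcentre hx (h4all hx hxB)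
    obtain ⟨y, hy, hyB, hxy⟩ := hsecond hx
    have hrc : r = c := by
      refine (hBc r ⟨hr, hA.self r fun z hz => ?_⟩).resolve_left hr1
      -- `z` fixes `r`
      have e : z * r * z ∈ W := hconj hz r hr
      have hzx := hA.elem.comm z hz x hx
      have h2 := hinvA hz
      have key : x * (z * w * z) * x * (z * w * z) = z * r * z := by
        calc x * (z * w * z) * x * (z * w * z) = (x * z) * w * (z * x) * z * w * z := by group
          _ = (z * x) * w * (x * z) * z * w * z := by rw [hzx]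
          _ = z * (x * w * x) * (z * z) * w * z := by group
          _ = z * r * z := by rw [h2, mul_one, ← hwr]; group
      rcases himg _ (hconj hz w hw) with e1 | e1 <;> rw [key] at e1
      · exfalso
        apply hr1
        calc r = (z * z) * r * (z * z) := by rw [h2, one_mul, mul_one]
          _ = z * (z * r * z) * z := by group
          _ = 1 := by rw [e1, mul_one, h2]
      · calc z * r = z * r * z * z := by rw [mul_assoc (z * r), h2, mul_one]
          _ = r * z := by rw [e1]
    subst hrc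
    exact ⟨himg, w, hw, hwr⟩
  -- a flag, and an involution whose fixed space is not its four-group
  obtain ⟨p, hp, hp1, hpc⟩ := exists_central hA.hS (W := W) fun e => by
    rw [e, card_bot] at h8; omega
  obtain ⟨q, r, fl⟩ := exists_flag hA.hS hW h8 hp hp1 hpc
  obtain ⟨a₀, ha₀, ha₀B⟩ : ∃ a ∈ A, a ∉ B := by
    by_contra h
    push Not at h
    have := card_le_of_le h
    rw [hA.card] at this
    omega
  obtain ⟨a, ha, haB, hqX⟩ : ∃ a ∈ A, a ∉ B ∧ ¬ (p * a = a * p ∧ q * a = a * q) := by
    by_contra h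
    push Not at h
    obtain ⟨y, hy, hyB, hxy⟩ := hsecond ha₀
    have hp' := hinter ha₀ ha₀B hy hyB hxy p hp (h a₀ ha₀ ha₀B).1 (h y hy hyB).1
    have hq' := hinter ha₀ ha₀B hy hyB hxy q fl.hq (h a₀ ha₀ ha₀B).2 (h y hy hyB).2
    rcases hBc p hp' with e | e
    · exact hp1 e
    rcases hBc q hq' with e' | e'
    · exact fl.hq1 e'
    · exact fl.hqp (e'.trans e.symm)
  obtain ⟨himg, w₁, hw₁, hw₁c⟩ := himgc ha haB
  have hai : a⁻¹ = a := hA.elem.inv ha
  have hpa : p * a = a * p := (mul_inv_eq_iff_eq_mul.1 (hpc a)).symm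
  have hqa : ¬ q * a = a * q := fun e => hqX ⟨hpa, e⟩
  have haq : a * q * a = p * q := by
    have := (fl.move_q a).resolve_left fun e => hqa (mul_inv_eq_iff_eq_mul.1 e).symm
    rwa [hai] at this
  have hcp : c = p := by
    rcases himg q fl.hq with e | e
    · exfalso
      rw [haq, mul_assoc, hW.sq q fl.hq, mul_one] at e
      exact hp1 e
    · rw [← e, haq, mul_assoc, hW.sq q fl.hq, mul_one]
  subst hcp
  suffices h2 : Two W a from ⟨a, c, ⟨hA.hS, hW, h8, hsmall, hinvA ha, hp, hp1, himg,
    ⟨w₁, hw₁, hw₁c⟩, hpa, ker_of_two hW (hinvA ha) hp1 ⟨w₁, hw₁, hw₁c⟩ h2⟩, h2⟩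
  intro y hya hyX
  set X := W ⊓ centralizer ({a} : Set S) with hX
  have hXe : Elem X := ⟨fun x hx y hy => hW.comm x hx.1 y hy.1, fun x hx => hW.sq x hx.1⟩
  set K := centralizer (W : Set S) with hK
  -- the centralizer of `a` in the centralizer of `W`
  have hKa : ∀ k ∈ K, k * a = a * k → k ∈ W := by
    intro k hkK hka
    by_contra hkW
    let U := K ⊓ centralizer ({a} : Set S)
    have hlt : X < U := lt_of_le_of_ne (inf_le_inf_right _ hW.le_centralizer) fun e => hkW (by
      have : k ∈ X := e ▸ ⟨hkK, mem_centralizer_singleton_iff.2 hka⟩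
      exact this.1)
    haveI hKn : K.Normal := inferInstance
    obtain ⟨a₂, h2, h2B, h12⟩ := hsecond ha
    obtain ⟨u, huU, huX, hu2⟩ := exists_fixed_coset hA.hS hlt
      (fun x hx n hn' => by
        rw [conj_eq_of_comm (mem_centralizer_iff.1 hx.1 n hn'.1)]; exact hn')
      {a₂}
      (by
        intro b hb' x hx
        rw [Set.mem_singleton_iff.1 hb', hA.elem.inv h2]
        refine ⟨by simpa [hA.elem.inv h2] using hKn.conj_mem x hx.1 a₂,
          mem_centralizer_singleton_iff.2 ?_⟩
        have e := mem_centralizer_singleton_iff.1 hx.2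
        have h12c : a₂ * a = a * a₂ := hA.elem.comm a₂ h2 a ha
        calc a₂ * x * a₂ * a = a₂ * x * (a₂ * a) := by group
          _ = a₂ * (x * a) * a₂ := by rw [h12c]; group
          _ = (a₂ * a) * x * a₂ := by rw [e]; group
          _ = a * (a₂ * x * a₂) := by rw [h12c]; group)
      (by
        intro b hb' x hx
        rw [Set.mem_singleton_iff.1 hb', hA.elem.inv h2]
        exact hnX ha h2 x hx)
    have hv := hu2 a₂ rfl
    rw [hA.elem.inv h2] at hv
    have hXB : X ⊓ centralizer ({a₂} : Set S) = B := le_antisymm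
      (fun m hm => hinter ha haB h2 h2B h12 m hm.1.1 (mem_centralizer_singleton_iff.1 hm.1.2)
        (mem_centralizer_singleton_iff.1 hm.2))
      fun m hm => ⟨⟨hm.1, mem_centralizer_singleton_iff.2 (hcomB hm ha)⟩,
        mem_centralizer_singleton_iff.2 (hcomB hm h2)⟩
    obtain ⟨n, hn', he⟩ := exists_comm_eq (hinvA h2) hXe (hnX ha h2)
      (by rw [hXB, hb, h4all ha haB]) hv
      (comm_of_inverted (hinvA h2) hW hv.1 (inverted (hinvA h2) u))
    have hy2 := adjust (hinvA h2) hXe hn' rfl hv he
    have hnuK : n * u ∈ K := mul_mem (hW.le_centralizer hn'.1) huU.1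
    have hnua : n * u * a = a * (n * u) := by
      rw [mul_assoc, mem_centralizer_singleton_iff.1 huU.2, ← mul_assoc,
        mem_centralizer_singleton_iff.1 hn'.2, mul_assoc]
    have hnuA : n * u ∈ A := hA.mem_of_basis (hbasis ha haB h2 h2B h12)
      (mem_centralizer_iff.1 hnuK c hp) hnua.symm hy2.symm
    have hnuB : n * u ∈ B := by
      by_contra hh
      obtain ⟨w, hw, hwc⟩ := (himgc hnuA hh).2
      refine hp1 ?_
      rw [← hwc, ← mem_centralizer_iff.1 hnuK w hw, mul_assoc w (n * u), hinvA hnuA, mul_one,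
        hW.sq w hw]
    refine huX ?_
    have : n * u ∈ X := ⟨hnuB.1, mem_centralizer_singleton_iff.2 (hcomB hnuB ha)⟩
    simpa using mul_mem (inv_mem hn') this
  have hai' : a * a = 1 := hinvA ha
  -- `W` is generated by `X` and `q`
  have hgen : ∀ g : S, g * q * g⁻¹ = q → (∀ m ∈ W, m * a = a * m → g * m * g⁻¹ = m) → g ∈ K := by
    intro g hgq hgX
    refine mem_centralizer_iff.2 fun m hm => ?_
    rcases himg m hm with e | e
    · have hma : m * a = a * m := comm_mem_ker hai' (by rw [hW.inv hm, e])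
      exact (mul_inv_eq_iff_eq_mul.1 (hgX m hm hma)).symm
    · have hmq : m * q * a = a * (m * q) := by
        refine comm_mem_ker hai' ?_
        rw [hW.inv (mul_mem hm fl.hq)]
        calc a * (m * q) * a * (m * q) = a * m * (a * a) * q * a * (m * q) := by
              rw [hai', mul_one]; group
          _ = a * m * a * (a * q * a * (m * q)) := by group
          _ = a * m * a * (c * q * (m * q)) := by rw [haq]
          _ = a * m * a * (c * (q * m) * q) := by group
          _ = a * m * a * (m * c) := by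
              rw [hW.comm q fl.hq m hm, ← mul_assoc c m q, mul_assoc _ q q, hW.sq q fl.hq,
                mul_one, hW.comm c hp m hm]
          _ = c * c := by rw [← mul_assoc, e]
          _ = 1 := hW.sq c hp
      have h1 := hgX _ (mul_mem hm fl.hq) hmq
      rw [← conj_mul, hgq, mul_left_inj] at h1
      exact (mul_inv_eq_iff_eq_mul.1 h1).symm
  have hXy : ∀ m ∈ W, m * a = a * m → y * m * y⁻¹ = m := fun m hm hma =>
    conj_eq_of_comm (hyX m hm hma)
  rcases fl.move_q y with hyq | hyq
  · exact Or.inl (hKa y (hgen y hyq hXy) hya)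
  · refine Or.inr (hKa (a * y) (hgen (a * y) ?_ fun m hm hma => ?_) ?_)
    · rw [show a * y * q * (a * y)⁻¹ = a * (y * q * y⁻¹) * a⁻¹ by group, hyq, hai,
        show a * (c * q) * a = a * c * q * a by group, ← hpa, mul_assoc c a q,
        mul_assoc c (a * q) a, haq, ← mul_assoc, hW.sq c hp, one_mul]
    · rw [show a * y * m * (a * y)⁻¹ = a * (y * m * y⁻¹) * a⁻¹ by group, hXy m hm hma, hai,
        ← hma, mul_assoc, hai', mul_one]
    · rw [mul_assoc, hya, ← mul_assoc]

end SelfCent

end CfsgLib.SelfCentEight
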