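import Cfsg.Agent.Solvable.PGroupBasic
import Mathlib.GroupTheory.IndexNormal

/-!
2-groups with an involutory automorphism fixing at most two points: a cyclic subgroup of index at
most two containing all twisted commutators, and consequences for subgroups.
-/

set_option autoImplicit false
set_option linter.style.haveILetI false
set_option linter.unusedSectionVars false

namespace CfsgLib.SelfCentEight

open Subgroup
open scoped commutatorElement

universe u

variable {K : Type u} [Group K] [Finite K]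

/-- An involutory automorphism of a 2-group with fixed points `1, k₀`. -/
structure FixTwo (K : Type u) [Group K] [Finite K] where
  hK : IsPGroup 2 K
  σ : MulAut K
  invol : ∀ k, σ (σ k) = k
  k₀ : K
  fix₀ : σ k₀ = k₀
  fixed : ∀ k, σ k = k → k = 1 ∨ k = k₀
  ne : Nontrivial K → k₀ ≠ 1

namespace FixTwo

variable (T : FixTwo K)

/-- The twisted commutator. -/
def tw (k : K) : K := T.σ k * k⁻¹

theorem σ_tw (k : K) : T.σ (T.tw k) = (T.tw k)⁻¹ := by
  simp only [tw, map_mul, map_inv, T.invol, mul_inv_rev, inv_inv]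

theorem tw_eq_iff {k l : K} : T.tw k = T.tw l ↔ T.σ (l⁻¹ * k) = l⁻¹ * k := by
  simp only [tw, map_mul, map_inv]
  constructor
  · intro h
    rw [mul_inv_eq_iff_eq_mul] at h
    rw [h]; group
  · intro h
    rw [mul_inv_eq_iff_eq_mul]
    rw [inv_mul_eq_iff_eq_mul] at h
    rw [h]; group

theorem k₀_sq : T.k₀ ^ 2 = 1 := by
  rcases T.fixed (T.k₀ ^ 2) (by rw [map_pow, T.fix₀]) with h | h
  · exact h
  · rw [pow_two, mul_eq_left] at h
    rw [h, one_pow]

theorem k₀_comm (k : K) : Commute T.k₀ k := by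
  rcases subsingleton_or_nontrivial K with hs | hs
  · rw [Subsingleton.elim T.k₀ 1]; exact Commute.one_left k
  haveI := T.hK.center_nontrivial
  obtain ⟨z, hz⟩ := exists_ne (1 : center K)
  obtain ⟨w, hwc, hw1, hwf⟩ : ∃ w : K, w ∈ center K ∧ w ≠ 1 ∧ T.σ w = w := by
    have hσz : T.σ (z : K) ∈ center K := mem_center_iff.2 fun g => by
      have := congrArg T.σ (mem_center_iff.1 z.2 (T.σ g))
      rwa [map_mul, map_mul, T.invol] at this
    by_cases h : (z : K) * T.σ (z : K) = 1
    · obtain ⟨n, hn⟩ := T.hK (z : K)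
      have hσ : T.σ (z : K) = (z : K)⁻¹ := eq_inv_of_mul_eq_one_right h
      have key : ∀ n, ∀ w : K, w ∈ center K → w ≠ 1 → T.σ w = w⁻¹ → w ^ 2 ^ n = 1 →
          ∃ w' : K, w' ∈ center K ∧ w' ≠ 1 ∧ T.σ w' = w' := by
        intro n
        induction n with
        | zero => intro w _ hw1 _ hw; exact absurd (by simpa using hw) hw1
        | succ n ih =>
          intro w hwc hw1 hwσ hw
          by_cases h2 : w ^ 2 = 1
          · refine ⟨w, hwc, hw1, ?_⟩
            rw [hwσ]
            exact inv_eq_of_mul_eq_one_right (by rw [← pow_two, h2])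
          · exact ih (w ^ 2) (pow_mem hwc 2) h2 (by rw [map_pow, hwσ, inv_pow])
              (by rw [← pow_mul, ← pow_succ', hw])
      exact key n (z : K) z.2 (fun e => hz (Subtype.ext e)) hσ hn
    · refine ⟨(z : K) * T.σ (z : K), mul_mem z.2 hσz, h, ?_⟩
      rw [map_mul, T.invol]
      exact (mem_center_iff.1 z.2 _)
  rcases T.fixed w hwf with h | h
  · exact absurd h hw1
  · rw [← h]; exact (mem_center_iff.1 hwc k).symm

/-- A cyclic subgroup of index at most two containing `k₀` and all twisted commutators. -/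
structure Good (C : Subgroup K) : Prop where
  cyclic : IsCyclic C
  index : C.index ≤ 2
  mem₀ : T.k₀ ∈ C
  tw_mem : ∀ k, T.tw k ∈ C

theorem exists_good : ∃ C : Subgroup K, T.Good C := by
  suffices H : ∀ (n : ℕ) (K : Type u) [Group K] [Finite K] (T : FixTwo K), Nat.card K ≤ n →
      ∃ C : Subgroup K, T.Good C from H _ K T le_rfl
  intro n
  induction n with
  | zero => intro K _ _ _ h; exact absurd h (Nat.not_le.2 Nat.card_pos)
  | succ n ih =>
    intro K _ _ T hn
    haveI : Fact (Nat.Prime 2) := ⟨Nat.prime_two⟩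
    rcases subsingleton_or_nontrivial K with hs | hs
    · exact ⟨⊤, isCyclic_of_subsingleton, by simp, mem_top _, fun k => mem_top _⟩
    have hne := T.ne hs
    set Z := zpowers T.k₀ with hZ
    have hZmem : ∀ x ∈ Z, x = 1 ∨ x = T.k₀ := by
      intro x hx
      refine T.fixed x ?_
      obtain ⟨i, rfl⟩ := mem_zpowers_iff.1 hx
      rw [map_zpow, T.fix₀]
    haveI hZn : Z.Normal := ⟨fun x hx g => by
      have : Commute g x := by
        rcases hZmem x hx with rfl | rfl
        · exact Commute.one_right g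
        · exact (T.k₀_comm g).symm
      rw [this.eq, mul_inv_cancel_right]; exact hx⟩
    have hmap : Z.map (T.σ : K ≃* K).toMonoidHom = Z := by
      rw [hZ, MonoidHom.map_zpowers]
      congr 1
      exact T.fix₀
    let σ' : MulAut (K ⧸ Z) := QuotientGroup.congr Z Z T.σ hmap
    have hσ' : ∀ g : K, σ' (g : K ⧸ Z) = ((T.σ g : K) : K ⧸ Z) := fun g => rfl
    have hlift : ∀ g : K, σ' (g : K ⧸ Z) = (g : K ⧸ Z) →
        T.σ g = g ∨ T.σ g = g * T.k₀ := by
      intro g hg
      rw [hσ', eq_comm, QuotientGroup.eq] at hg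
      rcases hZmem _ hg with h | h
      · exact Or.inl (inv_mul_eq_one.1 h).symm
      · exact Or.inr (inv_mul_eq_iff_eq_mul.1 h)
    classical
    obtain ⟨T', hT'⟩ : ∃ T' : FixTwo (K ⧸ Z), T'.σ = σ' := by
      by_cases hex : ∃ g : K, σ' (g : K ⧸ Z) = (g : K ⧸ Z) ∧ g ∉ Z
      · obtain ⟨g, hg, hgZ⟩ := hex
        have hg' : T.σ g = g * T.k₀ := (hlift g hg).resolve_left fun h => hgZ (by
          rcases T.fixed g h with rfl | rfl
          · exact one_mem _
          · exact mem_zpowers _)
        refine ⟨⟨T.hK.to_quotient Z, σ', fun k => ?_, (g : K ⧸ Z), hg, fun k hk => ?_,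
          fun _ h => hgZ ((QuotientGroup.eq_one_iff g).1 h)⟩, rfl⟩
        · obtain ⟨k, rfl⟩ := QuotientGroup.mk_surjective k
          rw [hσ', hσ', T.invol]
        · obtain ⟨k, rfl⟩ := QuotientGroup.mk_surjective k
          by_cases hkZ : k ∈ Z
          · exact Or.inl ((QuotientGroup.eq_one_iff k).2 hkZ)
          refine Or.inr ?_
          have hk' : T.σ k = k * T.k₀ := (hlift k hk).resolve_left fun h => hkZ (by
            rcases T.fixed k h with rfl | rfl
            · exact one_mem _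
            · exact mem_zpowers _)
          rw [QuotientGroup.eq]
          have : T.σ (k⁻¹ * g) = k⁻¹ * g := by
            rw [map_mul, map_inv, hk', hg', mul_inv_rev, mul_assoc, ← mul_assoc k⁻¹ g,
              ((T.k₀_comm (k⁻¹ * g)).inv_left).left_comm, inv_mul_cancel, mul_one]
          rcases T.fixed _ this with h | h <;> rw [h]
          · exact one_mem _
          · exact mem_zpowers _
      · push Not at hex
        refine ⟨⟨T.hK.to_quotient Z, σ', fun k => ?_, 1, map_one _, fun k hk => ?_,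
          fun hnt => ?_⟩, rfl⟩
        · obtain ⟨k, rfl⟩ := QuotientGroup.mk_surjective k
          rw [hσ', hσ', T.invol]
        · obtain ⟨k, rfl⟩ := QuotientGroup.mk_surjective k
          exact Or.inl ((QuotientGroup.eq_one_iff k).2 (hex k hk))
        · -- a non-trivial 2-group with an involutory automorphism has a non-trivial fixed point
          intro _
          have hall : ∀ k : K ⧸ Z, σ' k = k → k = 1 := fun k hk => by
            obtain ⟨k, rfl⟩ := QuotientGroup.mk_surjective k
            exact (QuotientGroup.eq_one_iff k).2 (hex k hk)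
          have hII : ∀ k : K ⧸ Z, σ' (σ' k) = k := fun k => by
            obtain ⟨k, rfl⟩ := QuotientGroup.mk_surjective k
            rw [hσ', hσ', T.invol]
          have hinj : Function.Injective fun k : K ⧸ Z => σ' k * k⁻¹ := by
            intro k l h
            have : σ' (l⁻¹ * k) = l⁻¹ * k := by
              simp only at h
              rw [mul_inv_eq_iff_eq_mul] at h
              rw [map_mul, map_inv, h]; group
            exact (inv_mul_eq_one.1 (hall _ this)).symm
          obtain ⟨w, hw⟩ := exists_prime_orderOf_dvd_card' (G := K ⧸ Z) 2 (by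
            obtain ⟨k, hk⟩ := IsPGroup.iff_card.1 (T.hK.to_quotient Z)
            have := Finite.one_lt_card (α := K ⧸ Z)
            rw [hk]
            exact dvd_pow_self 2 fun e => by rw [hk, e] at this; norm_num at this)
          obtain ⟨k, rfl⟩ := Finite.surjective_of_injective hinj w
          have h1 : σ' (σ' k * k⁻¹) = σ' k * k⁻¹ := by
            rw [map_mul, map_inv, hII]
            calc k * (σ' k)⁻¹ = (σ' k * k⁻¹)⁻¹ := by group
              _ = σ' k * k⁻¹ := inv_eq_of_mul_eq_one_right (by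
                rw [← pow_two]; exact orderOf_dvd_iff_pow_eq_one.1 (dvd_of_eq hw))
          rw [show (fun k : K ⧸ Z => σ' k * k⁻¹) k = σ' k * k⁻¹ from rfl, hall _ h1,
            orderOf_one] at hw
          norm_num at hw
    have hlt : Nat.card (K ⧸ Z) < Nat.card K := by
      rw [← Z.card_mul_index, ← index_eq_card]
      have h1 : 2 ≤ Nat.card Z := by
        haveI : Nontrivial Z := (nontrivial_iff_ne_bot _).2 fun e =>
          hne (by rw [← mem_bot, ← e]; exact mem_zpowers _)
        exact Finite.one_lt_card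
      have := Nat.pos_of_ne_zero (Z.index_ne_zero_of_finite)
      nlinarith
    obtain ⟨C', hC'⟩ := ih (K ⧸ Z) T' (by omega)
    set D := C'.comap (QuotientGroup.mk' Z) with hD
    have hZD : ∀ x ∈ Z, x ∈ D := fun x hx => by
      rw [hD, mem_comap]
      show (x : K ⧸ Z) ∈ C'
      rw [(QuotientGroup.eq_one_iff x).2 hx]; exact one_mem _
    have hDi : D.index ≤ 2 := by
      rw [hD, index_comap_of_surjective _ (QuotientGroup.mk'_surjective Z)]
      exact hC'.index
    have hDt : ∀ k, T.tw k ∈ D := fun k => by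
      rw [hD, mem_comap]
      have := hC'.tw_mem (k : K ⧸ Z)
      simp only [FixTwo.tw, hT', hσ'] at this
      simpa [FixTwo.tw] using this
    obtain ⟨g, hgD, hgen⟩ : ∃ g ∈ D, ∀ x ∈ D, ∃ i : ℤ, g ^ i * T.k₀ = x ∨ g ^ i = x := by
      haveI := hC'.cyclic
      obtain ⟨⟨g, hgC⟩, hg⟩ := IsCyclic.exists_generator (α := C')
      obtain ⟨g, rfl⟩ := QuotientGroup.mk_surjective g
      refine ⟨g, hgC, fun x hx => ?_⟩
      obtain ⟨i, hi⟩ := mem_zpowers_iff.1 (hg ⟨(x : K ⧸ Z), hx⟩)
      have hi' : ((g ^ i : K) : K ⧸ Z) = (x : K ⧸ Z) := by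
        rw [QuotientGroup.mk_zpow]; exact congrArg Subtype.val hi
      rw [QuotientGroup.eq] at hi'
      refine ⟨i, ?_⟩
      rcases hZmem _ hi' with h | h
      · exact Or.inr (inv_mul_eq_one.1 h)
      · exact Or.inl (inv_mul_eq_iff_eq_mul.1 h).symm
    by_cases h0 : T.k₀ ∈ zpowers g
    · refine ⟨D, isCyclic_iff_exists_zpowers_eq_top.2 ⟨⟨g, hgD⟩, eq_top_iff.2 fun x _ => ?_⟩, hDi,
        hZD _ (mem_zpowers _), hDt⟩
      obtain ⟨i, hi⟩ := hgen x x.2
      obtain ⟨j, hj⟩ := mem_zpowers_iff.1 h0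
      rcases hi with hi | hi
      · exact mem_zpowers_iff.2 ⟨i + j, Subtype.ext (by rw [← hi, ← hj, ← zpow_add]; rfl)⟩
      · exact mem_zpowers_iff.2 ⟨i, Subtype.ext (by rw [← hi]; rfl)⟩
    -- otherwise `D` is elementary of order at most 4
    have hDcomm : ∀ x ∈ D, ∀ y ∈ D, Commute x y := by
      intro x hx y hy
      obtain ⟨i, hi⟩ := hgen x hx
      obtain ⟨j, hj⟩ := hgen y hy
      have hgg : Commute (g ^ i) (g ^ j) := (Commute.refl g).zpow_zpow i j
      rcases hi with rfl | rfl <;> rcases hj with rfl | rfl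
      · exact ((hgg.mul_right (T.k₀_comm _).symm).mul_left (T.k₀_comm _))
      · exact hgg.mul_left (T.k₀_comm _)
      · exact hgg.mul_right (T.k₀_comm _).symm
      · exact hgg
    have hσD : ∀ x ∈ D, T.σ x ∈ D := fun x hx => by
      rw [show T.σ x = T.tw x * x by simp [FixTwo.tw]]
      exact mul_mem (hDt x) hx
    have hg2 : g ^ 2 = 1 := by
      by_contra hg2
      obtain ⟨h, hh, hj, hj'⟩ : ∃ h ∈ zpowers (g ^ 2), h ≠ 1 ∧ h ^ 2 = 1 := by
        obtain ⟨r, hr⟩ := IsPGroup.iff_card.1 (T.hK.to_subgroup (zpowers (g ^ 2)))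
        haveI : Nontrivial (zpowers (g ^ 2)) := (nontrivial_iff_ne_bot _).2 fun e =>
          hg2 (by rw [← mem_bot, ← e]; exact mem_zpowers _)
        have := Finite.one_lt_card (α := zpowers (g ^ 2))
        obtain ⟨⟨h, hh⟩, ho⟩ := exists_prime_orderOf_dvd_card' (G := zpowers (g ^ 2)) 2 (by
          rw [hr]; exact dvd_pow_self 2 fun e => by rw [hr, e] at this; norm_num at this)
        refine ⟨h, hh, fun e => ?_, ?_⟩
        · subst e
          rw [show (⟨1, hh⟩ : zpowers (g ^ 2)) = 1 from rfl, orderOf_one] at ho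
          norm_num at ho
        · exact congrArg Subtype.val ((orderOf_dvd_iff_pow_eq_one).1 (dvd_of_eq ho))
      have hhg : h ∈ zpowers g := (zpowers_le.2 (npow_mem_zpowers g 2)) hh
      obtain ⟨i, hi⟩ := hgen _ (hσD g hgD)
      have hσg2 : T.σ (g ^ 2) = (g ^ 2) ^ i := by
        rw [map_pow]
        rcases hi with hi | hi <;> rw [← hi]
        · rw [((T.k₀_comm (g ^ i)).symm).mul_pow, T.k₀_sq, mul_one, ← zpow_natCast, ← zpow_mul,
            ← zpow_natCast g 2, ← zpow_mul, mul_comm]
        · rw [← zpow_natCast, ← zpow_mul, ← zpow_natCast g 2, ← zpow_mul, mul_comm]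
      have hσh : T.σ h = h := by
        have e : T.σ h = h ^ i := by
          obtain ⟨r, rfl⟩ := mem_zpowers_iff.1 hh
          rw [map_zpow, hσg2, ← zpow_mul, ← zpow_mul, mul_comm]
        rcases Int.even_or_odd' i with ⟨k, rfl | rfl⟩
        · rw [zpow_mul, show h ^ (2 : ℤ) = h ^ 2 from zpow_natCast h 2, hj', one_zpow] at e
          exact absurd ((map_eq_one_iff _ T.σ.injective).1 e) hj
        · rw [e, zpow_add, zpow_mul, show h ^ (2 : ℤ) = h ^ 2 from zpow_natCast h 2, hj', one_zpow,
            one_mul, zpow_one]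
      rcases T.fixed h hσh with e | e
      · exact hj e
      · exact h0 (e ▸ hhg)
    have hD2 : ∀ x ∈ D, x ^ 2 = 1 := by
      intro x hx
      obtain ⟨i, hi | hi⟩ := hgen x hx <;> rw [← hi]
      · rw [((T.k₀_comm (g ^ i)).symm).mul_pow, T.k₀_sq, mul_one, ← zpow_natCast, ← zpow_mul,
          mul_comm, zpow_mul, zpow_natCast, hg2, one_zpow]
      · rw [← zpow_natCast, ← zpow_mul, mul_comm, zpow_mul, zpow_natCast, hg2, one_zpow]
    have hfix : ∀ k, T.tw k = 1 ∨ T.tw k = T.k₀ := fun k =>
      T.fixed _ (by rw [T.σ_tw]; exact inv_eq_of_mul_eq_one_right (by rw [← pow_two, hD2 _ (hDt k)]))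
    refine ⟨Z, inferInstance, ?_, mem_zpowers _, fun k => ?_⟩
    · -- twisted commutators separate the cosets of `Z`
      rw [index_eq_card]
      have hinj : Function.Injective fun q : K ⧸ Z =>
          (if T.tw q.out = 1 then 0 else 1 : Fin 2) := by
        intro q r h
        simp only at h
        have e : T.tw q.out = T.tw r.out := by
          rcases hfix q.out with e | e <;> rcases hfix r.out with e' | e' <;>
            simp [e, e', hne] at h ⊢
        have hmem : r.out⁻¹ * q.out ∈ Z := by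
          rcases T.fixed _ (T.tw_eq_iff.1 e) with e | e <;> rw [e]
          · exact one_mem _
          · exact mem_zpowers _
        rw [← QuotientGroup.eq, QuotientGroup.out_eq', QuotientGroup.out_eq'] at hmem
        exact hmem.symm
      exact (Nat.card_le_card_of_injective _ hinj).trans (by simp)
    · rcases hfix k with e | e <;> rw [e]
      · exact one_mem _
      · exact mem_zpowers _

theorem tw_one : T.tw 1 = 1 := by simp [tw]

theorem tw_mul (k l : K) : T.tw (k * l) = T.σ k * T.tw l * k⁻¹ := by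
  simp only [tw, map_mul, mul_inv_rev, mul_assoc]

namespace Good

variable {T} {C : Subgroup K} (hC : T.Good C)
include hC

theorem comm {x y : K} (hx : x ∈ C) (hy : y ∈ C) : x * y = y * x := by
  haveI := hC.cyclic
  exact congrArg Subtype.val ((IsCyclic.commGroup (α := C)).mul_comm ⟨x, hx⟩ ⟨y, hy⟩)

theorem normal : C.Normal := by
  have := hC.index
  have h0 := C.index_ne_zero_of_finite
  rcases (show C.index = 1 ∨ C.index = 2 by omega) with h | h
  · rw [index_eq_one.1 h]; infer_instance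
  · exact Subgroup.normal_of_index_eq_two h

theorem σ_mem {c : K} (hc : c ∈ C) : T.σ c ∈ C := by
  rw [show T.σ c = T.tw c * c by simp [FixTwo.tw]]
  exact mul_mem (hC.tw_mem c) hc

/-- In a cyclic 2-group the product of two non-squares is a square. -/
theorem sq_of_not {u v : K} (hu : u ∈ C) (hv : v ∈ C) (hu' : ¬ ∃ c ∈ C, c * c = u)
    (hv' : ¬ ∃ c ∈ C, c * c = v) : ∃ c ∈ C, c * c = u * v := by
  haveI := hC.cyclic
  obtain ⟨⟨g, hg⟩, hgen⟩ := IsCyclic.exists_generator (α := C)
  have key : ∀ x ∈ C, (¬ ∃ c ∈ C, c * c = x) → ∃ i : ℤ, x = g ^ i * g ^ i * g := by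
    intro x hx hx'
    obtain ⟨j, hj⟩ := mem_zpowers_iff.1 (hgen ⟨x, hx⟩)
    have hj' : g ^ j = x := congrArg Subtype.val hj
    rcases Int.even_or_odd' j with ⟨i, rfl | rfl⟩
    · exact absurd ⟨g ^ i, zpow_mem hg i, by rw [← zpow_add, ← two_mul, hj']⟩ hx'
    · exact ⟨i, by rw [← hj', ← zpow_add, ← zpow_add_one, ← two_mul]⟩
  obtain ⟨i, rfl⟩ := key u hu hu'
  obtain ⟨j, rfl⟩ := key v hv hv'
  refine ⟨g ^ (i + j + 1), zpow_mem hg _, ?_⟩
  simp only [← zpow_add, ← zpow_add_one]
  congr 1; ring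

/-- A non-square generates a cyclic 2-group. -/
theorem gen_of_not_sq {u : K} (hu : u ∈ C) (hu' : ¬ ∃ c ∈ C, c * c = u) : C ≤ zpowers u := by
  haveI := hC.cyclic
  obtain ⟨⟨g, hg⟩, hgen⟩ := IsCyclic.exists_generator (α := C)
  obtain ⟨j, hj⟩ := mem_zpowers_iff.1 (hgen ⟨u, hu⟩)
  have hj' : g ^ j = u := congrArg Subtype.val hj
  obtain ⟨n, hn⟩ := T.hK g
  have hcop : IsCoprime j ((2 : ℤ) ^ n) := by
    refine IsCoprime.pow_right ?_
    rcases Int.even_or_odd' j with ⟨i, rfl | rfl⟩
    · exact absurd ⟨g ^ i, zpow_mem hg i, by rw [← zpow_add, ← two_mul, hj']⟩ hu'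
    · exact ⟨1, -i, by ring⟩
  obtain ⟨s, t, hst⟩ := hcop
  intro x hx
  obtain ⟨i, hi⟩ := mem_zpowers_iff.1 (hgen ⟨x, hx⟩)
  refine (show zpowers g ≤ zpowers u from zpowers_le.2 (mem_zpowers_iff.2 ⟨s, ?_⟩))
    (mem_zpowers_iff.2 ⟨i, congrArg Subtype.val hi⟩)
  have hgn : g ^ ((2 : ℤ) ^ n) = 1 := by
    rw [show ((2 : ℤ) ^ n) = ((2 ^ n : ℕ) : ℤ) by push_cast; rfl, zpow_natCast, hn]
  conv_rhs => rw [← zpow_one g, ← hst, zpow_add, mul_comm t, zpow_mul g ((2 : ℤ) ^ n) t, hgn,
    one_zpow, mul_one, mul_comm s, zpow_mul, hj']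

/-- Squares are twisted commutators. -/
theorem tw_sq {c : K} (hc : c ∈ C) : ∃ d ∈ C, T.tw d = c * c := by
  haveI := hC.cyclic
  let f : C →* C :=
    { toFun := fun d => ⟨T.tw d, hC.tw_mem d⟩
      map_one' := Subtype.ext T.tw_one
      map_mul' := fun d e => Subtype.ext (by
        show T.tw ((d : K) * e) = T.tw d * T.tw e
        rw [T.tw_mul, hC.comm (hC.σ_mem d.2) (hC.tw_mem e), mul_assoc, hC.comm (hC.tw_mem (d : K))
          (hC.tw_mem e)]
        rfl) }
  have hker : Nat.card f.ker ≤ 2 := by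
    classical
    have hinj : Function.Injective fun x : f.ker => (if ((x : C) : K) = 1 then 0 else 1 : Fin 2) := by
      intro x y h
      have hv : ∀ z : f.ker, ((z : C) : K) = 1 ∨ ((z : C) : K) = T.k₀ := fun z =>
        T.fixed _ (mul_inv_eq_one.1 (congrArg Subtype.val z.2))
      simp only at h
      refine Subtype.ext (Subtype.ext ?_)
      rcases hv x with e | e <;> rcases hv y with e' | e' <;> simp [e, e'] at h ⊢ <;> simp [h]
    exact (Nat.card_le_card_of_injective _ hinj).trans (by simp)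
  have hi : f.range.index ≤ 2 := by
    have h1 := f.ker.card_mul_index
    rw [index_ker] at h1
    have h2 := f.range.card_mul_index
    have h3 : 0 < Nat.card f.range := Nat.card_pos
    rw [← h1, mul_comm _ (Nat.card f.range)] at h2
    rw [Nat.eq_of_mul_eq_mul_left h3 h2]; exact hker
  have hmem : (⟨c, hc⟩ : C) * ⟨c, hc⟩ ∈ f.range := by
    have h0 := f.range.index_ne_zero_of_finite
    rcases (show f.range.index = 1 ∨ f.range.index = 2 by omega) with h | h
    · rw [index_eq_one.1 h]; exact mem_top _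
    · exact mul_self_mem_of_index_two h _
  obtain ⟨d, hd⟩ := hmem
  exact ⟨d, d.2, congrArg Subtype.val hd⟩

/-- Twisted commutators outside `C` generate `C`. -/
theorem tw_not_sq {l : K} (hl : l ∉ C) : ¬ ∃ c ∈ C, c * c = T.tw l := by
  rintro ⟨c, hc, e⟩
  obtain ⟨d, hd, hd'⟩ := hC.tw_sq hc
  rw [e] at hd'
  refine hl ?_
  have hfix := T.fixed _ (T.tw_eq_iff.1 hd'.symm)
  have hm : d⁻¹ * l ∈ C := by
    rcases hfix with e | e <;> rw [e]
    · exact one_mem _
    · exact hC.mem₀
  simpa using mul_mem hd hm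

/-- If `C` is proper, every element of `C` is a twisted commutator. -/
theorem tw_surj (hne : C ≠ ⊤) {c : K} (hc : c ∈ C) : ∃ k, T.tw k = c := by
  by_cases hsq : ∃ e ∈ C, e * e = c
  · obtain ⟨e, he, rfl⟩ := hsq
    obtain ⟨d, -, hd⟩ := hC.tw_sq he
    exact ⟨d, hd⟩
  obtain ⟨l, hl⟩ : ∃ l, l ∉ C := by
    by_contra h
    push Not at h
    exact hne (eq_top_iff.2 fun x _ => h x)
  obtain ⟨e, he, he'⟩ := hC.sq_of_not hc (inv_mem (hC.tw_mem l)) hsq (by
    rintro ⟨e, he, he'⟩
    exact hC.tw_not_sq hl ⟨e⁻¹, inv_mem he, by rw [← mul_inv_rev, he', inv_inv]⟩)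
  obtain ⟨d, hd, hd'⟩ := hC.tw_sq he
  refine ⟨d * l, ?_⟩
  rw [T.tw_mul, hC.comm (hC.σ_mem hd) (hC.tw_mem l), mul_assoc,
    show T.σ d * d⁻¹ = T.tw d from rfl, hd', he', hC.comm hc (inv_mem (hC.tw_mem l)),
    mul_inv_cancel_left]

/-- An inverted element lies in `C`, unless the group is cyclic. -/
theorem inverted_mem (hcyc : ¬ IsCyclic K) {q : K} (hq : T.σ q = q⁻¹) : q ∈ C := by
  by_contra hqC
  refine hcyc (isCyclic_iff_exists_zpowers_eq_top.2 ⟨q, eq_top_iff.2 fun x _ => ?_⟩)
  have hle : C ≤ zpowers q := (hC.gen_of_not_sq (hC.tw_mem q) (hC.tw_not_sq hqC)).trans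
    (zpowers_le.2 (by
      rw [show T.tw q = q⁻¹ * q⁻¹ by rw [FixTwo.tw, hq]]
      exact mul_mem (inv_mem (mem_zpowers q)) (inv_mem (mem_zpowers q))))
  by_cases hx : x ∈ C
  · exact hle hx
  have h2 : C.index = 2 := by
    have := hC.index
    have h0 := C.index_ne_zero_of_finite
    have h1 : C.index ≠ 1 := fun h => hqC (index_eq_one.1 h ▸ mem_top q)
    omega
  have hqx : q * x ∈ C := (mul_mem_iff_of_index_two h2).2 (iff_of_false hqC hx)
  simpa using mul_mem (inv_mem (mem_zpowers q)) (hle hqx)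

/-- An involution of `C` is `k₀`. -/
theorem eq_k₀ {x : K} (hx : x ∈ C) (hx1 : x ≠ 1) (hx2 : x * x = 1) : x = T.k₀ := by
  haveI := hC.cyclic
  classical
  haveI := Fintype.ofFinite C
  haveI : Nontrivial K := ⟨⟨x, 1, hx1⟩⟩
  have hk : T.k₀ ≠ 1 := T.ne inferInstance
  by_contra hne
  have hle := IsCyclic.card_pow_eq_one_le (α := C) (n := 2) two_pos
  have hsub : ({1, ⟨x, hx⟩, ⟨T.k₀, hC.mem₀⟩} : Finset C) ⊆
      Finset.univ.filter fun a : C => a ^ 2 = 1 := by
    intro a ha
    simp only [Finset.mem_insert, Finset.mem_singleton] at ha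
    simp only [Finset.mem_filter, Finset.mem_univ, true_and]
    rcases ha with rfl | rfl | rfl
    · exact one_pow 2
    · exact Subtype.ext (by simpa [pow_two] using hx2)
    · exact Subtype.ext (by simpa using T.k₀_sq)
  have h3 : ({1, ⟨x, hx⟩, ⟨T.k₀, hC.mem₀⟩} : Finset C).card = 3 := by
    rw [Finset.card_insert_of_notMem, Finset.card_insert_of_notMem, Finset.card_singleton]
    · simpa using hne
    · simpa [Subtype.ext_iff] using And.intro (Ne.symm hx1) (Ne.symm hk)
  have := (Finset.card_le_card hsub).trans hle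
  omega

/-- A subgroup with nontrivial intersection with `C` contains `k₀`. -/
theorem k₀_mem {J : Subgroup K} {x : K} (hx : x ∈ C) (hxJ : x ∈ J) (hx1 : x ≠ 1) : T.k₀ ∈ J := by
  obtain ⟨n, hn⟩ := T.hK x
  induction n generalizing x with
  | zero => exact absurd (by simpa using hn) hx1
  | succ n ih =>
    by_cases h2 : x * x = 1
    · rwa [← hC.eq_k₀ hx hx1 h2]
    · exact ih (mul_mem hx hx) (mul_mem hxJ hxJ) h2 (by
        rw [← pow_two, ← pow_mul, ← pow_succ', hn])

end Good


end FixTwo

end CfsgLib.SelfCentEight
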