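import Cfsg.Agent.SelfCentEight.Basic

/-!
The action on a normal elementary abelian subgroup of order 8.
-/

set_option autoImplicit false
set_option linter.style.haveILetI false
set_option linter.unusedSectionVars false
set_option linter.unusedTactic false
set_option linter.unreachableTactic false

namespace CfsgLib.SelfCentEight

open Subgroup

universe u

variable {S : Type u} [Group S] [Finite S]

theorem exists_two_pow (hS : IsPGroup 2 S) (X : Subgroup S) : ∃ n, Nat.card X = 2 ^ n := by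
  haveI : Fact (Nat.Prime 2) := ⟨Nat.prime_two⟩
  exact IsPGroup.iff_card.1 (hS.to_subgroup X)

theorem eq_eight_of_two_pow {k : ℕ} (h : ∃ n, k = 2 ^ n) (h5 : 5 ≤ k) (h8 : k ≤ 8) : k = 8 := by
  obtain ⟨n, rfl⟩ := h
  have : 3 ≤ n := by
    by_contra hn
    have : 2 ^ n ≤ 2 ^ 2 := Nat.pow_le_pow_right two_pos (by omega)
    omega
  have : n ≤ 3 := by
    by_contra hn
    have : 2 ^ 4 ≤ 2 ^ n := Nat.pow_le_pow_right two_pos (by omega)
    omega
  rw [show n = 3 by omega]; norm_num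

/-- The four-subgroup generated by two commuting involutions of an elementary abelian group. -/
def four {W : Subgroup S} (hW : Elem W) {p q : S} (hp : p ∈ W) (hq : q ∈ W) : Subgroup S where
  carrier := {x | x = 1 ∨ x = p ∨ x = q ∨ x = p * q}
  one_mem' := Or.inl rfl
  mul_mem' := by
    have hpp := hW.sq p hp
    have hqq := hW.sq q hq
    have hpq := hW.comm p hp q hq
    have h1 : p * (p * q) = q := by rw [← mul_assoc, hpp, one_mul]
    have h2 : q * (p * q) = p := by rw [hpq, ← mul_assoc, hqq, one_mul]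
    have h3 : p * q * p = q := by rw [hpq, mul_assoc, hpp, mul_one]
    have h4 : p * q * q = p := by rw [mul_assoc, hqq, mul_one]
    have h5 : p * q * (p * q) = 1 := hW.sq _ (mul_mem hp hq)
    rintro x y (rfl | rfl | rfl | rfl) (rfl | rfl | rfl | rfl) <;>
      simp only [Set.mem_ofPred_eq, one_mul, mul_one, hpp, hqq, h1, h2, h3, h4, h5, hpq.symm,
        true_or, or_true]
  inv_mem' := by
    rintro x (rfl | rfl | rfl | rfl)
    · exact Or.inl inv_one
    · exact Or.inr (Or.inl (hW.inv hp))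
    · exact Or.inr (Or.inr (Or.inl (hW.inv hq)))
    · exact Or.inr (Or.inr (Or.inr (hW.inv (mul_mem hp hq))))

theorem four_le {W : Subgroup S} (hW : Elem W) {p q : S} (hp : p ∈ W) (hq : q ∈ W) :
    four hW hp hq ≤ W := by
  rintro x (rfl | rfl | rfl | rfl)
  exacts [one_mem _, hp, hq, mul_mem hp hq]

theorem card_four_le {W : Subgroup S} (hW : Elem W) {p q : S} (hp : p ∈ W) (hq : q ∈ W) :
    Nat.card (four hW hp hq) ≤ 4 := by
  let f : Fin 4 → four hW hp hq := ![⟨1, Or.inl rfl⟩, ⟨p, Or.inr (Or.inl rfl)⟩,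
    ⟨q, Or.inr (Or.inr (Or.inl rfl))⟩, ⟨p * q, Or.inr (Or.inr (Or.inr rfl))⟩]
  have hf : Function.Surjective f := by
    rintro ⟨x, rfl | rfl | rfl | rfl⟩
    exacts [⟨0, rfl⟩, ⟨1, rfl⟩, ⟨2, rfl⟩, ⟨3, rfl⟩]
  simpa using Nat.card_le_card_of_surjective f hf

/-- Three elements that generate an elementary abelian group of order 8. -/
structure Basis (W : Subgroup S) (p q r : S) : Prop where
  hW : Elem W
  card : Nat.card W = 8
  hp : p ∈ W
  hq : q ∈ W
  hr : r ∈ W
  hp1 : p ≠ 1
  hq1 : q ≠ 1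
  hqp : q ≠ p
  hr_ne : r ≠ 1 ∧ r ≠ p ∧ r ≠ q ∧ r ≠ p * q

namespace Basis

variable {W : Subgroup S} {p q r : S}

theorem pq_ne (b : Basis W p q r) : p * q ≠ 1 ∧ p * q ≠ p ∧ p * q ≠ q :=
  ⟨fun e => b.hqp (((eq_inv_of_mul_eq_one_right e)).trans (b.hW.inv b.hp)),
    fun e => b.hq1 (mul_eq_left.1 e), fun e => b.hp1 (mul_eq_right.1 e)⟩

/-- A subgroup containing the three elements contains `W`. -/
theorem le_of_mem (hS : IsPGroup 2 S) (b : Basis W p q r) {D : Subgroup S} (hp : p ∈ D)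
    (hq : q ∈ D) (hr : r ∈ D) : W ≤ D := by
  let f : Fin 5 → ↥(D ⊓ W) := ![1, ⟨p, hp, b.hp⟩, ⟨q, hq, b.hq⟩,
    ⟨p * q, mul_mem hp hq, mul_mem b.hp b.hq⟩, ⟨r, hr, b.hr⟩]
  have hf : Function.Injective f := by
    obtain ⟨h1, h2, h3, h4⟩ := b.hr_ne
    obtain ⟨h5, h6, h7⟩ := b.pq_ne
    intro i j hij
    have e := congrArg Subtype.val hij
    fin_cases i <;> fin_cases j <;> simp [f, b.hp1, b.hq1] at e ⊢ <;>
      first
        | exact h1 e | exact h1 e.symm | exact h2 e | exact h2 e.symm | exact h3 e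
        | exact h3 e.symm | exact h4 e | exact h4 e.symm | exact h5 e | exact h5 e.symm
        | exact b.hp1 e | exact b.hp1 e.symm | exact b.hq1 e | exact b.hq1 e.symm
        | exact b.hqp e | exact b.hqp e.symm | exact h6 e | exact h6 e.symm | exact h7 e
        | exact h7 e.symm
  have h5 := Nat.card_le_card_of_injective f hf
  rw [Nat.card_fin] at h5
  have hle : Nat.card ↥(D ⊓ W) ≤ 8 := b.card ▸ card_le_of_le inf_le_right
  have h8 := eq_eight_of_two_pow (exists_two_pow hS _) h5 hle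
  have := eq_of_le_of_card_ge (inf_le_right : D ⊓ W ≤ W) (by rw [h8, b.card])
  exact this ▸ inf_le_left

/-- An element fixing the three elements centralizes `W`. -/
theorem centralizer_of_fixed (hS : IsPGroup 2 S) (b : Basis W p q r) {g : S}
    (h1 : g * p * g⁻¹ = p) (h2 : g * q * g⁻¹ = q) (h3 : g * r * g⁻¹ = r) :
    g ∈ centralizer (W : Set S) := by
  have h : W ≤ centralizer {g} := b.le_of_mem hS
    (mem_centralizer_singleton_iff.2 (mul_inv_eq_iff_eq_mul.1 h1).symm)
    (mem_centralizer_singleton_iff.2 (mul_inv_eq_iff_eq_mul.1 h2).symm)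
    (mem_centralizer_singleton_iff.2 (mul_inv_eq_iff_eq_mul.1 h3).symm)
  exact mem_centralizer_iff.2 fun w hw => mem_centralizer_singleton_iff.1 (h hw)

/-- Elements acting equally on the three elements agree modulo the centralizer of `W`. -/
theorem centralizer_of_eq (hS : IsPGroup 2 S) (b : Basis W p q r) {g h : S}
    (h1 : g * p * g⁻¹ = h * p * h⁻¹) (h2 : g * q * g⁻¹ = h * q * h⁻¹)
    (h3 : g * r * g⁻¹ = h * r * h⁻¹) : h⁻¹ * g ∈ centralizer (W : Set S) := by
  have key : ∀ w : S, g * w * g⁻¹ = h * w * h⁻¹ → h⁻¹ * g * w * (h⁻¹ * g)⁻¹ = w := fun w e => by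
    rw [show h⁻¹ * g * w * (h⁻¹ * g)⁻¹ = h⁻¹ * (g * w * g⁻¹) * h by group, e]; group
  exact b.centralizer_of_fixed hS (key p h1) (key q h2) (key r h3)

end Basis

/-- A flag of an elementary abelian normal subgroup of order 8. -/
structure Flag (W : Subgroup S) (p q r : S) : Prop extends Basis W p q r where
  fix_p : ∀ g : S, g * p * g⁻¹ = p
  move_q : ∀ g : S, g * q * g⁻¹ = q ∨ g * q * g⁻¹ = p * q
  move_r : ∀ g : S, g * r * g⁻¹ ∈ ({r, p * r, q * r, p * q * r} : Set S)

/-- Flags exist, starting at any central involution of `W`. -/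
theorem exists_flag (hS : IsPGroup 2 S) {W : Subgroup S} [hn : W.Normal] (hW : Elem W)
    (h8 : Nat.card W = 8) {p : S} (hp : p ∈ W) (hp1 : p ≠ 1) (hpc : ∀ g : S, g * p * g⁻¹ = p) :
    ∃ q r : S, Flag W p q r := by
  haveI : Fact (Nat.Prime 2) := ⟨Nat.prime_two⟩
  haveI := hS.isNilpotent
  have h1W : (1 : S) ∈ W := one_mem W
  set Z := four hW hp h1W with hZ
  haveI hZn : Z.Normal := ⟨fun x hx g => by
    rcases hx with rfl | rfl | rfl | rfl
    · exact Or.inl (by group)
    · exact Or.inr (Or.inl (hpc g))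
    · exact Or.inl (by group)
    · exact Or.inr (Or.inl (by rw [mul_one]; exact hpc g))⟩
  have hlt : ∀ (q : S) (hq : q ∈ W), four hW hp hq < W := fun q hq =>
    lt_of_le_of_ne (four_le hW hp hq) fun e => by
      have := card_four_le hW hp hq
      rw [e, h8] at this
      omega
  obtain ⟨q, hq, hqZ, hqc⟩ := CfsgLib.PGroupBasic.exists_central_mod Z W (hlt 1 h1W)
  have hq1 : q ≠ 1 := fun e => hqZ (Or.inl e)
  have hqp : q ≠ p := fun e => hqZ (Or.inr (Or.inl e))
  have hmq : ∀ g : S, g * q * g⁻¹ = q ∨ g * q * g⁻¹ = p * q := by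
    intro g
    have h := inv_mem (hqc g)
    rw [show (q * g * q⁻¹ * g⁻¹)⁻¹ = g * q * g⁻¹ * q⁻¹ by group] at h
    rcases h with e | e | e | e
    · exact Or.inl (mul_inv_eq_one.1 e)
    · exact Or.inr (mul_inv_eq_iff_eq_mul.1 e)
    · exact Or.inl (mul_inv_eq_one.1 e)
    · exact Or.inr (mul_inv_eq_iff_eq_mul.1 (e.trans (mul_one p)))
  set F := four hW hp hq with hF
  haveI hFn : F.Normal := ⟨fun x hx g => by
    have e2 : g * q * g⁻¹ ∈ F := by
      rcases hmq g with e | e <;> rw [e]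
      · exact Or.inr (Or.inr (Or.inl rfl))
      · exact Or.inr (Or.inr (Or.inr rfl))
    have e1 : g * p * g⁻¹ ∈ F := by rw [hpc g]; exact Or.inr (Or.inl rfl)
    rcases hx with rfl | rfl | rfl | rfl
    · rw [mul_one, mul_inv_cancel]; exact one_mem _
    · exact e1
    · exact e2
    · rw [← conj_mul]; exact mul_mem e1 e2⟩
  obtain ⟨r, hr, hrF, hrc⟩ := CfsgLib.PGroupBasic.exists_central_mod F W (hlt q hq)
  refine ⟨q, r, ⟨⟨hW, h8, hp, hq, hr, hp1, hq1, hqp,
    fun e => hrF (Or.inl e), fun e => hrF (Or.inr (Or.inl e)),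
    fun e => hrF (Or.inr (Or.inr (Or.inl e))), fun e => hrF (Or.inr (Or.inr (Or.inr e)))⟩,
    hpc, hmq, fun g => ?_⟩⟩
  have h := inv_mem (hrc g)
  rw [show (r * g * r⁻¹ * g⁻¹)⁻¹ = g * r * g⁻¹ * r⁻¹ by group] at h
  simp only [Set.mem_insert_iff, Set.mem_singleton_iff]
  rcases h with e | e | e | e
  · exact Or.inl (mul_inv_eq_one.1 e)
  · exact Or.inr (Or.inl (mul_inv_eq_iff_eq_mul.1 e))
  · exact Or.inr (Or.inr (Or.inl (mul_inv_eq_iff_eq_mul.1 e)))
  · exact Or.inr (Or.inr (Or.inr (mul_inv_eq_iff_eq_mul.1 e)))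

/-- A nontrivial normal elementary abelian subgroup contains a central involution. -/
theorem exists_central (hS : IsPGroup 2 S) {W : Subgroup S} [W.Normal] (hne : W ≠ ⊥) :
    ∃ p ∈ W, p ≠ 1 ∧ ∀ g : S, g * p * g⁻¹ = p := by
  haveI : Fact (Nat.Prime 2) := ⟨Nat.prime_two⟩
  haveI := hS.isNilpotent
  obtain ⟨p, hp, hp1⟩ := (bot_or_exists_ne_one _).resolve_left
    (CfsgLib.PGroupBasic.inf_center_ne_bot W hne)
  exact ⟨p, hp.1, hp1, fun g => by rw [mem_center_iff.1 hp.2 g, mul_inv_cancel_right]⟩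

/-- The top factor is at most 4. -/
theorem top_le_four (hS : IsPGroup 2 S) (H : Subgroup S) {W : Subgroup S} [hn : W.Normal]
    (hW : Elem W) (h8 : Nat.card W = 8) :
    (frattini H ⊔ (centralizer (W : Set S)).subgroupOf H).index ≤ 4 := by
  classical
  haveI : Fact (Nat.Prime 2) := ⟨Nat.prime_two⟩
  obtain ⟨p, hp, hp1, hpc⟩ := exists_central hS (W := W) fun e => by
    rw [e, card_bot] at h8; omega
  obtain ⟨q, r, fl⟩ := exists_flag hS hW h8 hp hp1 hpc
  set Kh := (centralizer (W : Set S)).subgroupOf H with hKh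
  set X := frattini H ⊔ Kh with hX
  by_contra hbig
  let T : Type u := ↥({q, p * q} : Finset S) × ↥({r, p * r, q * r, p * q * r} : Finset S)
  let f : H ⧸ Kh → T := fun x =>
    (⟨(x.out : S) * q * (x.out : S)⁻¹, by
      rcases fl.move_q (x.out : S) with e | e <;> simp [e]⟩,
     ⟨(x.out : S) * r * (x.out : S)⁻¹, by
      have := fl.move_r (x.out : S)
      simpa using this⟩)
  have hf : Function.Injective f := by
    intro x y h
    have h1 : (x.out : S) * q * (x.out : S)⁻¹ = (y.out : S) * q * (y.out : S)⁻¹ :=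
      congrArg (fun t : T => (t.1 : S)) h
    have h2 : (x.out : S) * r * (x.out : S)⁻¹ = (y.out : S) * r * (y.out : S)⁻¹ :=
      congrArg (fun t : T => (t.2 : S)) h
    have hm : (y.out⁻¹ * x.out : H) ∈ Kh :=
      fl.toBasis.centralizer_of_eq hS (by rw [fl.fix_p, fl.fix_p]) h1 h2
    rw [← QuotientGroup.eq, QuotientGroup.out_eq', QuotientGroup.out_eq'] at hm
    exact hm.symm
  have hT : Nat.card T ≤ 8 := by
    show Nat.card (_ × _) ≤ _
    rw [Nat.card_prod, Nat.card_eq_fintype_card, Nat.card_eq_fintype_card, Fintype.card_coe,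
      Fintype.card_coe]
    exact Nat.mul_le_mul Finset.card_le_two Finset.card_le_four
  have hK8 : Kh.index ≤ 8 := by
    rw [index_eq_card]
    exact (Nat.card_le_card_of_injective f hf).trans hT
  have hdvd : X.index ∣ Kh.index := index_dvd_of_le le_sup_right
  have hpos : 0 < Kh.index := Nat.pos_of_ne_zero index_ne_zero_of_finite
  have hle : X.index ≤ Kh.index := Nat.le_of_dvd hpos hdvd
  obtain ⟨n, hn'⟩ := (hS.to_subgroup H).index X
  have hX8 : X.index = 8 := eq_eight_of_two_pow ⟨n, hn'⟩ (by omega) (by omega)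
  have hXK : X = Kh := by
    refine (eq_of_le_of_card_ge (le_sup_right : Kh ≤ X) ?_).symm
    have e1 := X.card_mul_index
    have e2 := Kh.card_mul_index
    rw [← e1, hX8, show Kh.index = 8 by omega] at e2
    change Nat.card X ≤ Nat.card Kh
    omega
  have hsurj : Function.Surjective f := by
    have hb := (Nat.bijective_iff_injective_and_card f).2 ⟨hf, le_antisymm
      (Nat.card_le_card_of_injective f hf) (hT.trans (by rw [← index_eq_card, ← hXK, hX8]))⟩
    exact hb.2
  obtain ⟨x, hx⟩ := hsurj (⟨q, by simp⟩, ⟨q * r, by simp⟩)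
  obtain ⟨y, hy⟩ := hsurj (⟨p * q, by simp⟩, ⟨r, by simp⟩)
  have hgr : (x.out : S) * r * (x.out : S)⁻¹ = q * r := congrArg (fun t : T => (t.2 : S)) hx
  have hhq : (y.out : S) * q * (y.out : S)⁻¹ = p * q := congrArg (fun t : T => (t.1 : S)) hy
  have hhr : (y.out : S) * r * (y.out : S)⁻¹ = r := congrArg (fun t : T => (t.2 : S)) hy
  set g := (x.out : S) with hg
  set h := (y.out : S) with hh
  have hc : g * h * g⁻¹ * h⁻¹ ∈ centralizer (W : Set S) := by
    have hcom : x.out * y.out * x.out⁻¹ * y.out⁻¹ ∈ X :=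
      mem_sup_left (comm_mem_frattini hS H x.out y.out)
    rw [hXK] at hcom
    exact hcom
  have hm := mem_centralizer_iff.1 hc r fl.hr
  -- compare the two products on `r`
  have e1 : g * h * r * (g * h)⁻¹ = q * r := by
    rw [show g * h * r * (g * h)⁻¹ = g * (h * r * h⁻¹) * g⁻¹ by group, hhr, hgr]
  have e2 : h * g * r * (h * g)⁻¹ = p * q * r := by
    rw [show h * g * r * (h * g)⁻¹ = h * (g * r * g⁻¹) * h⁻¹ by group, hgr, ← conj_mul, hhq, hhr]
  have hmem : h * g * r * (h * g)⁻¹ ∈ W := hn.conj_mem r fl.hr (h * g)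
  have e3 : g * h * r * (g * h)⁻¹ = h * g * r * (h * g)⁻¹ := by
    rw [show g * h * r * (g * h)⁻¹ =
      g * h * g⁻¹ * h⁻¹ * (h * g * r * (h * g)⁻¹) * (g * h * g⁻¹ * h⁻¹)⁻¹ by group,
      ← mem_centralizer_iff.1 hc _ hmem, mul_inv_cancel_right]
  rw [e1, e2, mul_assoc, eq_comm, mul_eq_right] at e3
  exact fl.hp1 e3

/-- All transvections with a given central centre are induced when the top factor is at least 3. -/
theorem exists_elation (hS : IsPGroup 2 S) (H : Subgroup S) {W : Subgroup S} {u p q : S}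
    (b : Basis W u p q) (hu : ∀ g : S, g * u * g⁻¹ = u)
    (hV : ∀ x ∈ H, (x * p * x⁻¹ = p ∨ x * p * x⁻¹ = u * p) ∧
      (x * q * x⁻¹ = q ∨ x * q * x⁻¹ = u * q))
    (h3 : 3 ≤ (frattini H ⊔ (centralizer (W : Set S)).subgroupOf H).index)
    {i j : S} (hi : i = p ∨ i = u * p) (hj : j = q ∨ j = u * q) :
    ∃ x ∈ H, x * p * x⁻¹ = i ∧ x * q * x⁻¹ = j := by
  classical
  haveI : Fact (Nat.Prime 2) := ⟨Nat.prime_two⟩
  set Kh := (centralizer (W : Set S)).subgroupOf H with hKh
  let T : Type u := ↥({p, u * p} : Finset S) × ↥({q, u * q} : Finset S)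
  let f : H ⧸ Kh → T := fun x =>
    (⟨(x.out : S) * p * (x.out : S)⁻¹, by
      rcases (hV _ x.out.2).1 with e | e <;> simp [e]⟩,
     ⟨(x.out : S) * q * (x.out : S)⁻¹, by
      rcases (hV _ x.out.2).2 with e | e <;> simp [e]⟩)
  have hf : Function.Injective f := by
    intro x y h
    have h1 : (x.out : S) * p * (x.out : S)⁻¹ = (y.out : S) * p * (y.out : S)⁻¹ :=
      congrArg (fun t : T => (t.1 : S)) h
    have h2 : (x.out : S) * q * (x.out : S)⁻¹ = (y.out : S) * q * (y.out : S)⁻¹ :=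
      congrArg (fun t : T => (t.2 : S)) h
    have hm : (y.out⁻¹ * x.out : H) ∈ Kh :=
      b.centralizer_of_eq hS (by rw [hu, hu]) h1 h2
    rw [← QuotientGroup.eq, QuotientGroup.out_eq', QuotientGroup.out_eq'] at hm
    exact hm.symm
  have hT : Nat.card T ≤ 4 := by
    show Nat.card (_ × _) ≤ _
    rw [Nat.card_prod, Nat.card_eq_fintype_card, Nat.card_eq_fintype_card, Fintype.card_coe,
      Fintype.card_coe]
    exact Nat.mul_le_mul Finset.card_le_two Finset.card_le_two
  have hK4 : 4 ≤ Kh.index := by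
    have hle : (frattini H ⊔ Kh).index ≤ Kh.index :=
      Nat.le_of_dvd (Nat.pos_of_ne_zero index_ne_zero_of_finite) (index_dvd_of_le le_sup_right)
    obtain ⟨n, hn⟩ := (hS.to_subgroup H).index Kh
    rw [hn]
    have : 2 ≤ n := by
      by_contra h
      have : 2 ^ n ≤ 2 ^ 1 := Nat.pow_le_pow_right two_pos (by omega)
      omega
    exact Nat.pow_le_pow_right two_pos this
  have hb := (Nat.bijective_iff_injective_and_card f).2 ⟨hf, le_antisymm
    (Nat.card_le_card_of_injective f hf) (hT.trans (by rw [← index_eq_card]; exact hK4))⟩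
  obtain ⟨x, hx⟩ := hb.2 (⟨i, by rcases hi with rfl | rfl <;> simp⟩,
    ⟨j, by rcases hj with rfl | rfl <;> simp⟩)
  exact ⟨_, x.out.2, congrArg (fun t : T => (t.1 : S)) hx, congrArg (fun t : T => (t.2 : S)) hx⟩

end CfsgLib.SelfCentEight
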