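import Cfsg.Agent.SelfCentEight.FixTwo

/-!
Bounds for the index of a subgroup containing all squares.
-/

set_option autoImplicit false
set_option linter.style.haveILetI false
set_option linter.unusedSectionVars false

namespace CfsgLib.SelfCentEight

open Subgroup

universe u

variable {J : Type u} [Group J] [Finite J]

/-- In a group, a subgroup containing all squares of a cyclic subgroup has relative index at most
two there. -/
theorem relIndex_cyclic_le {N D : Subgroup J} [IsCyclic D] (hN : ∀ x ∈ D, x * x ∈ N) :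
    N.relIndex D ≤ 2 := by
  obtain ⟨g, hg⟩ := IsCyclic.exists_generator (α := D)
  have hgg : g * g ∈ N.subgroupOf D := hN g g.2
  by_cases hgN : g ∈ N.subgroupOf D
  · rw [relIndex, show N.subgroupOf D = ⊤ from eq_top_iff.2 fun x _ => by
      obtain ⟨i, rfl⟩ := mem_zpowers_iff.1 (hg x)
      exact zpow_mem hgN i, index_top]
    omega
  refine (index_eq_two_iff.2 ⟨g, fun b => ?_⟩).le
  obtain ⟨i, rfl⟩ := mem_zpowers_iff.1 (hg b)
  have h2 : ∀ m : ℤ, g ^ (2 * m) ∈ N.subgroupOf D := fun m => by
    rw [zpow_mul, zpow_two]; exact zpow_mem hgg m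
  rcases Int.even_or_odd' i with ⟨m, rfl | rfl⟩
  · refine Or.inr ⟨h2 m, fun h => hgN ?_⟩
    simpa using mul_mem (inv_mem (h2 m)) h
  · refine Or.inl ⟨?_, fun h => hgN ?_⟩
    · rw [← zpow_add_one, show 2 * m + 1 + 1 = 2 * (m + 1) by ring]; exact h2 _
    · rw [zpow_add_one] at h
      simpa using mul_mem (inv_mem (h2 m)) h

/-- A subgroup containing all squares is bounded through a cyclic subgroup. -/
theorem index_le_of_cyclic {N D : Subgroup J} [IsCyclic D] (hN : ∀ x ∈ D, x * x ∈ N) :
    N.index ≤ 2 * D.index := by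
  have h : (N ⊓ D).index = N.relIndex D * D.index := by
    rw [← relIndex_mul_index (inf_le_right : N ⊓ D ≤ D), inf_relIndex_right]
  calc N.index ≤ (N ⊓ D).index :=
        Nat.le_of_dvd (Nat.pos_of_ne_zero index_ne_zero_of_finite) (index_dvd_of_le inf_le_left)
    _ ≤ 2 * D.index := by rw [h]; exact Nat.mul_le_mul_right _ (relIndex_cyclic_le hN)

/-- Subgroups containing all squares are normal and contain all commutators. -/
theorem comm_mem_of_sq {N : Subgroup J} (hN : ∀ x : J, x * x ∈ N) (x y : J) :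
    x * y * x⁻¹ * y⁻¹ ∈ N := by
  rw [show x * y * x⁻¹ * y⁻¹ = x * x * (x⁻¹ * y * (x⁻¹ * y)) * (y⁻¹ * y⁻¹) by group]
  exact mul_mem (mul_mem (hN x) (hN _)) (hN y⁻¹)

/-- A subgroup with at most one nontrivial coset has index at most two. -/
theorem index_le_two_of {N : Subgroup J} (h : ∀ x y : J, x ∉ N → y ∉ N → x⁻¹ * y ∈ N) :
    N.index ≤ 2 := by
  by_cases ht : N = ⊤
  · rw [ht, index_top]; omega
  obtain ⟨s, hs⟩ : ∃ s : J, s ∉ N := by
    by_contra hh
    push Not at hh
    exact ht (eq_top_iff.2 fun x _ => hh x)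
  refine (index_eq_two_iff.2 ⟨s, fun b => ?_⟩).le
  by_cases hb : b ∈ N
  · exact Or.inr ⟨hb, fun h' => hs (by simpa using mul_mem (inv_mem hb) h')⟩
  · refine Or.inl ⟨?_, hb⟩
    simpa using h b⁻¹ s (fun h' => hb (by simpa using inv_mem h')) hs

end CfsgLib.SelfCentEight
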