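import Cfsg.Agent.SelfCentEight.Main

/-!
2-groups with a subgroup `T = D × B`, `B` a four-group, which is the centralizer of each involution
of `B`.
-/

set_option autoImplicit false
set_option linter.style.haveILetI false
set_option linter.unusedSectionVars false
set_option linter.unusedTactic false
set_option linter.unreachableTactic false

namespace CfsgLib.SelfCentEight

open Subgroup
open scoped commutatorElement

universe u

variable {P : Type u} [Group P] [Finite P]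

/-- `T = D × B` with `B` a four-group and `C(b) ≤ T` for the involutions of `B`. -/
structure ProductFour (T D B : Subgroup P) : Prop where
  hP : IsPGroup 2 P
  hB : Elem B
  cardB : Nat.card B = 4
  hDT : D ≤ T
  hBT : B ≤ T
  comm : ∀ d ∈ D, ∀ b ∈ B, d * b = b * d
  disj : ∀ x ∈ D, x ∈ B → x = 1
  split : ∀ t ∈ T, ∃ d ∈ D, ∃ b ∈ B, t = d * b
  cent : ∀ b ∈ B, b ≠ 1 → ∀ y : P, y * b = b * y → y ∈ T

namespace ProductFour

variable {T D B : Subgroup P}

theorem comm_T (h : ProductFour T D B) {t b : P} (ht : t ∈ T) (hb : b ∈ B) : t * b = b * t := by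
  obtain ⟨d, hd, b', hb', rfl⟩ := h.split t ht
  rw [mul_assoc, h.hB.comm b' hb' b hb, ← mul_assoc, h.comm d hd b hb, mul_assoc]

theorem exists_pair (h : ProductFour T D B) :
    ∃ b₁ b₂ : P, b₁ ∈ B ∧ b₂ ∈ B ∧ b₁ ≠ 1 ∧ b₂ ≠ 1 ∧ b₁ ≠ b₂ ∧ b₁ * b₂ ≠ 1 := by
  obtain ⟨b₁, hb₁, h1⟩ := B.bot_or_exists_ne_one.resolve_left fun e => by
    have := h.cardB; rw [e, card_bot] at this; omega
  obtain ⟨b₂, hb₂, h2⟩ : ∃ b₂ ∈ B, b₂ ≠ 1 ∧ b₂ ≠ b₁ := by
    by_contra hh
    push Not at hh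
    let f : B → Fin 2 := fun x => by classical exact if (x : P) = 1 then 0 else 1
    have hf : Function.Injective f := by
      intro x y hxy
      refine Subtype.ext ?_
      by_cases hx : (x : P) = 1 <;> by_cases hy : (y : P) = 1 <;> simp [f, hx, hy] at hxy ⊢
      exact Subtype.ext ((hh x x.2 hx).trans (hh y y.2 hy).symm)
    have := Nat.card_le_card_of_injective f hf
    rw [Nat.card_fin, h.cardB] at this
    omega
  refine ⟨b₁, b₂, hb₁, hb₂, h1, h2.1, h2.2.symm, fun e => h2.2 ?_⟩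
  exact (eq_inv_of_mul_eq_one_right e).trans (h.hB.inv hb₁)

theorem top_of_small_centre (h : ProductFour T D B) {z : P}
    (hz : ∀ d ∈ D, d * d = 1 → (∀ e ∈ D, d * e = e * d) → d = 1 ∨ d = z) : T = ⊤ := by
  haveI : Fact (Nat.Prime 2) := ⟨Nat.prime_two⟩
  haveI := h.hP.isNilpotent
  by_contra hne
  have hlt : T < normalizer (T : Set P) :=
    (Group.normalizerCondition_of_isNilpotent) T (lt_top_iff_ne_top.2 hne)
  -- an element of the normalizer with square in `T`
  obtain ⟨q, hqN, hqT, hq2⟩ : ∃ q ∈ normalizer (T : Set P), q ∉ T ∧ q * q ∈ T := by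
    obtain ⟨y, hy, hyT⟩ := SetLike.exists_of_lt hlt
    obtain ⟨n, hn⟩ := h.hP y
    induction n generalizing y with
    | zero => exact absurd (by rw [pow_zero, pow_one] at hn; rw [hn]; exact one_mem T) hyT
    | succ n ih =>
      by_cases h2 : y * y ∈ T
      · exact ⟨y, hy, hyT, h2⟩
      · exact ih (y * y) (mul_mem hy hy) h2 (by rw [← pow_two, ← pow_mul, ← pow_succ', hn])
  -- products `b * qbq⁻¹` are fixed by `q`
  have key : ∀ b ∈ B, b ≠ 1 → ∃ d ∈ D, ∃ b' ∈ B, b * (q * b * q⁻¹) = d * b' ∧ d = z ∧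
      q * (b * (q * b * q⁻¹)) * q⁻¹ = b * (q * b * q⁻¹) := by
    intro b hb hb1
    have hc : q * b * q⁻¹ ∈ T := (hqN b).1 (h.hBT hb)
    have hcc : b * (q * b * q⁻¹) = (q * b * q⁻¹) * b := (h.comm_T hc hb).symm
    have hfix : q * (b * (q * b * q⁻¹)) * q⁻¹ = b * (q * b * q⁻¹) := by
      rw [← conj_mul, show q * (q * b * q⁻¹) * q⁻¹ = (q * q) * b * (q * q)⁻¹ by group,
        h.comm_T hq2 hb, mul_inv_cancel_right, hcc]
    have hne1 : b * (q * b * q⁻¹) ≠ 1 := fun e => hqT (h.cent b hb hb1 q (by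
      have e' : q * b * q⁻¹ = b := (eq_inv_of_mul_eq_one_right e).trans (h.hB.inv hb)
      exact mul_inv_eq_iff_eq_mul.1 e'))
    have hmem : b * (q * b * q⁻¹) ∈ T := mul_mem (h.hBT hb) hc
    obtain ⟨d, hd, b', hb', e⟩ := h.split _ hmem
    have hd2 : d * d = 1 := by
      have h1 : (b * (q * b * q⁻¹)) * (b * (q * b * q⁻¹)) = 1 := by
        calc (b * (q * b * q⁻¹)) * (b * (q * b * q⁻¹))
            = b * ((q * b * q⁻¹) * b) * (q * b * q⁻¹) := by group
          _ = (b * b) * (q * (b * b) * q⁻¹) := by rw [← hcc]; group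
          _ = 1 := by rw [h.hB.sq b hb, mul_one, mul_inv_cancel, one_mul]
      rw [e] at h1
      calc d * d = d * d * (b' * b') := by rw [h.hB.sq b' hb', mul_one]
        _ = d * (d * b') * b' := by group
        _ = 1 := by rw [h.comm d hd b' hb', ← mul_assoc d b' d, mul_assoc (d * b') d b']; exact h1
    have hdc : ∀ e' ∈ D, d * e' = e' * d := by
      intro e' he'
      -- both factors are central in `T`
      have hqe : q⁻¹ * e' * q ∈ T := by
        have := (normalizer (T : Set P)).inv_mem hqN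
        simpa using (this e').1 (h.hDT he')
      have hce : (q * b * q⁻¹) * e' = e' * (q * b * q⁻¹) := by
        calc (q * b * q⁻¹) * e' = q * (b * (q⁻¹ * e' * q)) * q⁻¹ := by group
          _ = e' * (q * b * q⁻¹) := by rw [← h.comm_T hqe hb]; group
      have h1 : (d * b') * e' = e' * (d * b') := by
        rw [← e, mul_assoc, hce, ← mul_assoc, ← h.comm e' he' b hb, mul_assoc]
      rw [mul_assoc, ← h.comm e' he' b' hb', ← mul_assoc, ← mul_assoc] at h1
      exact mul_right_cancel h1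
    rcases hz d hd hd2 hdc with rfl | rfl
    · exfalso
      -- a fixed element of `B`
      rw [e, one_mul] at hfix hne1
      exact hqT (h.cent b' hb' hne1 q (mul_inv_eq_iff_eq_mul.1 hfix))
    · exact ⟨d, hd, b', hb', e, rfl, hfix⟩
  obtain ⟨b₁, b₂, hb₁, hb₂, h1, h2, -, h12⟩ := h.exists_pair
  obtain ⟨d₁, hd₁, c₁, hc₁, e1, rfl, f1⟩ := key b₁ hb₁ h1
  obtain ⟨d₂, hd₂, c₂, hc₂, e2, ed, f2⟩ := key b₂ hb₂ h2
  obtain ⟨d₃, hd₃, c₃, hc₃, e3, ed3, -⟩ := key (b₁ * b₂) (mul_mem hb₁ hb₂) h12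
  subst ed ed3
  have hsum : b₁ * b₂ * (q * (b₁ * b₂) * q⁻¹) =
      b₁ * (q * b₁ * q⁻¹) * (b₂ * (q * b₂ * q⁻¹)) := by
    have hc : q * b₁ * q⁻¹ ∈ T := (hqN b₁).1 (h.hBT hb₁)
    calc b₁ * b₂ * (q * (b₁ * b₂) * q⁻¹) = b₁ * (b₂ * (q * b₁ * q⁻¹)) * (q * b₂ * q⁻¹) := by group
      _ = b₁ * (q * b₁ * q⁻¹) * (b₂ * (q * b₂ * q⁻¹)) := by rw [← h.comm_T hc hb₂]; group
  rw [e1, e2, e3] at hsum
  -- the left side lies outside `B`, the right side inside
  have hd2 : d₃ * d₃ = 1 := by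
    have h1 : (b₁ * (q * b₁ * q⁻¹)) * (b₁ * (q * b₁ * q⁻¹)) = 1 := by
      have hc : q * b₁ * q⁻¹ ∈ T := (hqN b₁).1 (h.hBT hb₁)
      calc (b₁ * (q * b₁ * q⁻¹)) * (b₁ * (q * b₁ * q⁻¹))
          = b₁ * ((q * b₁ * q⁻¹) * b₁) * (q * b₁ * q⁻¹) := by group
        _ = (b₁ * b₁) * (q * (b₁ * b₁) * q⁻¹) := by rw [h.comm_T hc hb₁]; group
        _ = 1 := by rw [h.hB.sq b₁ hb₁, mul_one, mul_inv_cancel, one_mul]
    rw [e1] at h1
    calc d₃ * d₃ = d₃ * d₃ * (c₁ * c₁) := by rw [h.hB.sq c₁ hc₁, mul_one]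
      _ = d₃ * (d₃ * c₁) * c₁ := by group
      _ = 1 := by rw [h.comm d₃ hd₃ c₁ hc₁, ← mul_assoc d₃ c₁ d₃, mul_assoc (d₃ * c₁) d₃ c₁]; exact h1
  have hd : d₃ = c₁ * c₂ * c₃⁻¹ := by
    calc d₃ = d₃ * c₃ * c₃⁻¹ := by group
      _ = d₃ * (c₁ * d₃) * c₂ * c₃⁻¹ := by rw [hsum]; group
      _ = (d₃ * d₃) * (c₁ * c₂ * c₃⁻¹) := by rw [← h.comm d₃ hd₃ c₁ hc₁]; group
      _ = c₁ * c₂ * c₃⁻¹ := by rw [hd2, one_mul]
  have : d₃ = 1 := h.disj d₃ hd₃ (hd ▸ mul_mem (mul_mem hc₁ hc₂) (inv_mem hc₃))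
  subst this
  rw [e1, one_mul] at f1
  have hc1 : c₁ ≠ 1 := fun ec => by
    rw [ec, mul_one] at e1
    have e' : q * b₁ * q⁻¹ = b₁ := (eq_inv_of_mul_eq_one_right e1).trans (h.hB.inv hb₁)
    exact hqT (h.cent b₁ hb₁ h1 q (mul_inv_eq_iff_eq_mul.1 e'))
  exact hqT (h.cent c₁ hc₁ hc1 q (mul_inv_eq_iff_eq_mul.1 f1))

/-- The bound when `T` is the whole group. -/
theorem frattini_index_top (h : ProductFour T D B) (hT : T = ⊤) {C : Subgroup P}
    [IsCyclic C] (hC : ∀ d ∈ D, ∀ e ∈ D, d ∉ C → e ∉ C → d⁻¹ * e ∈ C) (H : Subgroup P) :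
    (frattini H).index ≤ 16 := by
  haveI : Fact (Nat.Prime 2) := ⟨Nat.prime_two⟩
  haveI : B.Normal := ⟨fun b hb g => by
    rw [h.comm_T (hT ▸ mem_top g : g ∈ T) hb, mul_inv_cancel_right]; exact hb⟩
  have hsplit := index_split H (le_refl B)
  rw [relIndex_eq_one.2 le_sup_right, mul_one] at hsplit
  have h3 := relIndex_le_card H B (frattini H)
  rw [h.cardB] at h3
  set J := ((QuotientGroup.mk' B).comp H.subtype).range with hJdef
  obtain ⟨N, hN, hNi⟩ := top_le h.hP H (K := B)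
  let Cb := C.map (QuotientGroup.mk' B)
  haveI : IsCyclic Cb :=
    isCyclic_of_surjective ((QuotientGroup.mk' B).subgroupMap C)
      ((QuotientGroup.mk' B).subgroupMap_surjective C)
  haveI := isCyclic_subgroupOf (C := Cb) J
  have h2 : (Cb.subgroupOf J).index ≤ 2 := by
    refine index_le_two_of fun x y hx hy => ?_
    rw [mem_subgroupOf] at hx hy ⊢
    obtain ⟨g, hg⟩ := QuotientGroup.mk'_surjective B (x : P ⧸ B)
    obtain ⟨g', hg'⟩ := QuotientGroup.mk'_surjective B (y : P ⧸ B)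
    obtain ⟨d, hd, b, hb, rfl⟩ := h.split g (hT ▸ mem_top g)
    obtain ⟨d', hd', b', hb', rfl⟩ := h.split g' (hT ▸ mem_top g')
    have ex : (x : P ⧸ B) = QuotientGroup.mk' B d := by
      rw [← hg, map_mul, show QuotientGroup.mk' B b = 1 from (QuotientGroup.eq_one_iff b).2 hb,
        mul_one]
    have ey : (y : P ⧸ B) = QuotientGroup.mk' B d' := by
      rw [← hg', map_mul, show QuotientGroup.mk' B b' = 1 from (QuotientGroup.eq_one_iff b').2 hb',
        mul_one]
    rw [Subgroup.coe_mul, Subgroup.coe_inv, ex, ey, ← map_inv, ← map_mul]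
    exact mem_map_of_mem _ (hC d hd d' hd' (fun e => hx (ex ▸ mem_map_of_mem _ e))
      (fun e => hy (ey ▸ mem_map_of_mem _ e)))
  have hb := index_le_of_cyclic (N := N) (D := Cb.subgroupOf J) fun x _ => hN x
  rw [hNi] at hb
  rw [hsplit]
  calc (frattini H).relIndex (B.subgroupOf H) * (frattini H ⊔ B.subgroupOf H).index ≤ 4 * 4 :=
        Nat.mul_le_mul h3 (by omega)
    _ = 16 := rfl

section Elementary

variable (h : ProductFour T D B) (hTe : Elem T) (hT16 : Nat.card T = 16)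
include h hTe hT16

theorem centralizer_eq : centralizer (T : Set P) = T := by
  obtain ⟨b₁, -, hb₁, -, h1, -⟩ := h.exists_pair
  refine le_antisymm (fun y hy => h.cent b₁ hb₁ h1 y ?_) hTe.le_centralizer
  exact (mem_centralizer_iff.1 hy b₁ (h.hBT hb₁)).symm

theorem moves [T.Normal] {x : P} (hx : x ∉ T) : Sixteen.Moves T x := by
  obtain ⟨b₁, b₂, hb₁, hb₂, h1, h2, -, h12⟩ := h.exists_pair
  have hne : ∀ b ∈ B, b ≠ 1 → x * b * x⁻¹ * b⁻¹ ≠ 1 := fun b hb hb1 e =>
    hx (h.cent b hb hb1 x (mul_inv_eq_iff_eq_mul.1 (mul_inv_eq_one.1 e)))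
  refine ⟨b₁, h.hBT hb₁, b₂, h.hBT hb₂, hne b₁ hb₁ h1, hne b₂ hb₂ h2, fun e => ?_⟩
  refine hne _ (mul_mem hb₁ hb₂) h12 ?_
  have hm : x * b₂ * x⁻¹ * b₂⁻¹ ∈ T := mul_mem
    ((inferInstance : T.Normal).conj_mem _ (h.hBT hb₂) x) (inv_mem (h.hBT hb₂))
  calc x * (b₁ * b₂) * x⁻¹ * (b₁ * b₂)⁻¹
      = x * b₁ * x⁻¹ * (x * b₂ * x⁻¹ * b₂⁻¹) * b₁⁻¹ := by group
    _ = x * b₁ * x⁻¹ * (b₁⁻¹ * (x * b₂ * x⁻¹ * b₂⁻¹)) := by
      rw [mul_assoc (x * b₁ * x⁻¹), hTe.comm _ hm _ (inv_mem (h.hBT hb₁))]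
    _ = (x * b₁ * x⁻¹ * b₁⁻¹) * (x * b₂ * x⁻¹ * b₂⁻¹) := by group
    _ = 1 := by rw [e, hTe.sq _ hm]

theorem card_quotient_le [hn : T.Normal] : Nat.card (P ⧸ T) ≤ 4 := by
  haveI : Fact (Nat.Prime 2) := ⟨Nat.prime_two⟩
  haveI := h.hP.isNilpotent
  set L : Subgroup P := ⁅T, (⊤ : Subgroup P)⁆ with hL
  have hLT : L ≤ T := commutator_le.2 fun t ht g _ => by
    rw [commutatorElement_def, show t * g * t⁻¹ * g⁻¹ = t * (g * t⁻¹ * g⁻¹) by group]
    exact mul_mem ht (hn.conj_mem _ (inv_mem ht) g)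
  have hlt : L < T := lt_of_le_of_ne hLT fun e => by
    have key : ∀ n, T ≤ Subgroup.lowerCentralSeries (G := P) ⊤ n := by
      intro n
      induction n with
      | zero => simp
      | succ n ih =>
        rw [Subgroup.lowerCentralSeries_succ]
        calc T = ⁅T, (⊤ : Subgroup P)⁆ := e.symm
          _ ≤ _ := commutator_mono ih le_rfl
    obtain ⟨n, hn'⟩ := Subgroup.nilpotent_iff_lowerCentralSeries.1 (inferInstance : Group.IsNilpotent P)
    have hbot : T = ⊥ := le_bot_iff.1 ((key n).trans hn'.le)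
    rw [hbot, card_bot] at hT16
    omega
  -- the orbit of an involution of `B` lies in a coset of `L`
  have hcomm : ∀ (g : P) {t : P}, t ∈ T → t⁻¹ * (g * t * g⁻¹) ∈ L := fun g t ht => by
    rw [show t⁻¹ * (g * t * g⁻¹) = ⁅t⁻¹, g⁆ by rw [commutatorElement_def]; group]
    exact commutator_mem_commutator (inv_mem ht) (mem_top g)
  have hinj : ∀ b ∈ B, b ≠ 1 → ∃ f : P ⧸ T → L, Function.Injective f ∧
      ∀ q, (f q : P) ≠ b⁻¹ := by
    intro b hb hb1
    refine ⟨fun q => ⟨b⁻¹ * (q.out * b * q.out⁻¹), hcomm _ (h.hBT hb)⟩, fun q r e => ?_,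
      fun q e => hb1 ?_⟩
    · have e' : q.out * b * q.out⁻¹ = r.out * b * r.out⁻¹ :=
        mul_left_cancel (congrArg Subtype.val e)
      have hm : r.out⁻¹ * q.out ∈ T := h.cent b hb hb1 _ (by
        calc r.out⁻¹ * q.out * b = r.out⁻¹ * (q.out * b * q.out⁻¹) * q.out := by group
          _ = b * (r.out⁻¹ * q.out) := by rw [e']; group)
      rw [← QuotientGroup.eq, QuotientGroup.out_eq', QuotientGroup.out_eq'] at hm
      exact hm.symm
    · have e' : q.out * b * q.out⁻¹ = 1 := mul_left_cancel (e.trans (mul_one _).symm)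
      exact conj_eq_one_iff.1 e'
  obtain ⟨n, hn'⟩ := exists_two_pow h.hP L
  have hL8 : Nat.card L ≤ 8 := by
    by_contra hbig
    have h16 : Nat.card T ≤ Nat.card L := by
      rw [hT16, hn']
      rw [hn'] at hbig
      have : 4 ≤ n := by
        by_contra hh
        exact hbig (Nat.pow_le_pow_right two_pos (show n ≤ 3 by omega))
      exact Nat.pow_le_pow_right two_pos this
    exact hlt.ne (eq_of_le_of_card_ge hLT h16)
  obtain ⟨m, hm⟩ := h.hP.index T
  rw [← index_eq_card, hm]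
  by_contra hbig
  have hm3 : 8 ≤ Nat.card (P ⧸ T) := by
    rw [← index_eq_card, hm]
    have : 3 ≤ m := by
      by_contra hh
      exact hbig (Nat.pow_le_pow_right two_pos (show m ≤ 2 by omega))
    exact Nat.pow_le_pow_right two_pos this
  -- some involution of `B` lies in `L`
  have hi : (L.subgroupOf T).index = 2 := by
    have e := (L.subgroupOf T).card_mul_index
    rw [Nat.card_congr (subgroupOfEquivOfLe hLT).toEquiv, hT16] at e
    obtain ⟨b₁, -, hb₁, -, h1, -⟩ := h.exists_pair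
    obtain ⟨f, hf, -⟩ := hinj b₁ hb₁ h1
    have h8 : Nat.card L = 8 := le_antisymm hL8 (hm3.trans (Nat.card_le_card_of_injective f hf))
    rw [h8] at e
    omega
  obtain ⟨b₁, b₂, hb₁, hb₂, h1, h2, -, h12⟩ := h.exists_pair
  obtain ⟨b, hb, hb1, hbL⟩ : ∃ b ∈ B, b ≠ 1 ∧ b ∈ L := by
    by_cases hl1 : b₁ ∈ L
    · exact ⟨b₁, hb₁, h1, hl1⟩
    by_cases hl2 : b₂ ∈ L
    · exact ⟨b₂, hb₂, h2, hl2⟩
    exact ⟨b₁ * b₂, mul_mem hb₁ hb₂, h12,
      (mul_mem_iff_of_index_two hi (a := ⟨b₁, h.hBT hb₁⟩) (b := ⟨b₂, h.hBT hb₂⟩)).2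
        (iff_of_false hl1 hl2)⟩
  obtain ⟨f, hf, hne⟩ := hinj b hb hb1
  haveI := Fintype.ofFinite (P ⧸ T)
  haveI := Fintype.ofFinite L
  have hns : ¬ Function.Surjective f := fun hs => by
    obtain ⟨q, hq⟩ := hs ⟨b⁻¹, inv_mem hbL⟩
    exact hne q (congrArg Subtype.val hq)
  have := Fintype.card_lt_of_injective_not_surjective f hf hns
  rw [← Nat.card_eq_fintype_card, ← Nat.card_eq_fintype_card] at this
  omega

/-- The bound when `T` is normal. -/
theorem frattini_index_normal [T.Normal] (H : Subgroup P) : (frattini H).index ≤ 16 := by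
  refine frattini_index_of_moves h.hP hTe hT16 (h.centralizer_eq hTe hT16) (fun J N hN => ?_) H
  have hle : N.index ≤ Nat.card J := by
    rw [← N.card_mul_index]; exact Nat.le_mul_of_pos_left _ Nat.card_pos
  refine ⟨hle.trans ((Nat.card_le_card_of_injective _ J.subtype_injective).trans
    (h.card_quotient_le hTe hT16)), fun h3 => ?_⟩
  obtain ⟨q, hq, hq1⟩ := J.bot_or_exists_ne_one.resolve_left fun e => by
    subst e; rw [card_bot] at hle; omega
  obtain ⟨x, rfl⟩ := QuotientGroup.mk_surjective q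
  exact ⟨x, hq, h.moves hTe hT16 fun e => hq1 ((QuotientGroup.eq_one_iff x).2 e)⟩

/-- The bound in general. -/
theorem frattini_index_elementary (H : Subgroup P) : (frattini H).index ≤ 16 := by
  haveI : Fact (Nat.Prime 2) := ⟨Nat.prime_two⟩
  by_cases hTn : T.Normal
  · exact h.frattini_index_normal hTe hT16 H
  by_cases hex : ∀ V : Subgroup P, V.Normal → Elem V → Nat.card V ≤ 4
  · refine CfsgLib.NoNormalEight.frattini_index h.hP (fun V hV hVc hV2 => hex V hV
      ⟨fun x hx y hy => congrArg Subtype.val (hVc.1.1 ⟨x, hx⟩ ⟨y, hy⟩),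
        fun x hx => by rw [← pow_two]; exact hV2 x hx⟩) H
  -- properties of a normal elementary subgroup of order at least 8
  have facts : ∀ W : Subgroup P, W.Normal → Elem W → 8 ≤ Nat.card W →
      Nat.card ↥(W ⊓ T) = 4 ∧ Nat.card W ≤ 16 ∧ (∀ b ∈ B, b ∈ W → b = 1) ∧
      (∀ b ∈ B, b ≠ 1 → W ⊓ centralizer {b} = W ⊓ T) := by
    intro W hWn hW h8
    obtain ⟨j, hj⟩ := exists_two_pow h.hP W
    have hdisj : ∀ b ∈ B, b ∈ W → b = 1 := by
      intro b hb hbW
      by_contra hb1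
      have hWT : W ≤ T := fun w hw => h.cent b hb hb1 w (hW.comm w hw b hbW)
      by_cases h16 : 16 ≤ Nat.card W
      · exact hTn ((eq_of_le_of_card_ge hWT (hT16.trans_le h16)) ▸ hWn)
      · have hK : centralizer (W : Set P) = T := le_antisymm
          (fun y hy => h.cent b hb hb1 y (mem_centralizer_iff.1 hy b hbW).symm)
          fun t ht => mem_centralizer_iff.2 fun w hw => hTe.comm w (hWT hw) t ht
        haveI := hWn
        exact hTn (hK ▸ inferInstance)
    have hCb : ∀ b ∈ B, b ≠ 1 → W ⊓ centralizer {b} = W ⊓ T := fun b hb hb1 =>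
      le_antisymm (fun w hw => ⟨hw.1, h.cent b hb hb1 w (mem_centralizer_singleton_iff.1 hw.2)⟩)
        fun w hw => ⟨hw.1, mem_centralizer_singleton_iff.2 (hTe.comm w hw.2 b (h.hBT hb))⟩
    have hR4 : Nat.card ↥(W ⊓ T) ≤ 4 := by
      let f : ↥(W ⊓ T) × B → T := fun p => ⟨p.1 * p.2, mul_mem p.1.2.2 (h.hBT p.2.2)⟩
      have hf : Function.Injective f := by
        intro p p' e
        have e' : (p.1 : P) * p.2 = p'.1 * p'.2 := congrArg Subtype.val e
        have e2 : (p'.1 : P)⁻¹ * p.1 = p'.2 * (p.2 : P)⁻¹ := by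
          rw [inv_mul_eq_iff_eq_mul, ← mul_assoc, eq_mul_inv_iff_mul_eq, e']
        have h1 := hdisj _ (mul_mem p'.2.2 (inv_mem p.2.2))
          (e2 ▸ mul_mem (inv_mem p'.1.2.1) p.1.2.1)
        have hp : (p.2 : P) = p'.2 := (mul_inv_eq_one.1 h1).symm
        rw [hp, mul_left_inj] at e'
        exact Prod.ext (Subtype.ext e') (Subtype.ext hp)
      have := Nat.card_le_card_of_injective f hf
      rw [Nat.card_prod, h.cardB, hT16] at this
      omega
    obtain ⟨b₁, -, hb₁, -, h1, -⟩ := h.exists_pair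
    have hsq := card_le_sq (h.hB.sq b₁ hb₁) hW
      (fun w hw => by
        have := hWn.conj_mem w hw b₁
        rwa [h.hB.inv hb₁] at this)
    rw [hCb b₁ hb₁ h1] at hsq
    refine ⟨?_, hsq.trans (Nat.mul_le_mul hR4 hR4), hdisj, hCb⟩
    obtain ⟨i, hi⟩ := exists_two_pow h.hP (W ⊓ T)
    rw [hi] at hR4 hsq ⊢
    have : i ≤ 2 := by
      by_contra hh
      have : 2 ^ 3 ≤ 2 ^ i := Nat.pow_le_pow_right two_pos (by omega)
      omega
    interval_cases i <;> omega
  have hTsplit : ∀ W : Subgroup P, W.Normal → Elem W → 8 ≤ Nat.card W →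
      ∀ t ∈ T, ∃ b ∈ B, b⁻¹ * t ∈ W := by
    intro W hWn hW h8 t ht
    obtain ⟨hR, -, hdisj, -⟩ := facts W hWn hW h8
    let f : ↥(W ⊓ T) × B → T := fun p => ⟨p.2 * p.1, mul_mem (h.hBT p.2.2) p.1.2.2⟩
    have hf : Function.Injective f := by
      intro p p' e
      have e' : (p.2 : P) * p.1 = p'.2 * p'.1 := congrArg Subtype.val e
      have e2 : (p'.2 : P)⁻¹ * p.2 = p'.1 * (p.1 : P)⁻¹ := by
        rw [inv_mul_eq_iff_eq_mul, ← mul_assoc, eq_mul_inv_iff_mul_eq, e']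
      have h1 := hdisj _ (mul_mem (inv_mem p'.2.2) p.2.2)
        (e2 ▸ mul_mem p'.1.2.1 (inv_mem p.1.2.1))
      have hp : (p.2 : P) = p'.2 := (inv_mul_eq_one.1 h1).symm
      rw [hp, mul_right_inj] at e'
      exact Prod.ext (Subtype.ext e') (Subtype.ext hp)
    have hb := (Nat.bijective_iff_injective_and_card f).2 ⟨hf, by
      rw [Nat.card_prod, hR, h.cardB, hT16]⟩
    obtain ⟨⟨r, b⟩, hrb⟩ := hb.2 ⟨t, ht⟩
    refine ⟨b, b.2, ?_⟩
    have e : (b : P) * r = t := congrArg Subtype.val hrb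
    rw [← e, inv_mul_cancel_left]
    exact r.2.1
  by_cases h16 : ∃ W : Subgroup P, W.Normal ∧ Elem W ∧ 16 ≤ Nat.card W
  · obtain ⟨W, hWn, hW, h16⟩ := h16
    haveI := hWn
    obtain ⟨hR, hle, hdisj, hCb⟩ := facts W hWn hW (by omega)
    have hW16 : Nat.card W = 16 := by omega
    have hmoves : ∀ b ∈ B, b ≠ 1 → ∀ r ∈ W ⊓ T, ∃ m ∈ W, b * m * b * m = r := fun b hb hb1 r hr =>
      exists_comm_eq (h.hB.sq b hb) hW
        (fun w hw => by
          have := hWn.conj_mem w hw b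
          rwa [h.hB.inv hb] at this)
        (by rw [hCb b hb hb1, hR, hW16]) hr.1 (hTe.comm r hr.2 b (h.hBT hb))
    obtain ⟨b₁, -, hb₁, -, h1, -⟩ := h.exists_pair
    have hbb : b₁ * b₁ = 1 := h.hB.sq b₁ hb₁
    have hbconj : ∀ w ∈ W, b₁ * w * b₁ ∈ W := fun w hw => by
      have := hWn.conj_mem w hw b₁
      rwa [h.hB.inv hb₁] at this
    -- elements commuting with `b₁` modulo `W` lie in `B W`
    have hlift : ∀ g : P, b₁ * g * b₁ * g⁻¹ ∈ W → ∃ b ∈ B, b⁻¹ * g ∈ W := by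
      intro g hg
      have hc := comm_of_inverted hbb hW hg (inverted hbb g)
      obtain ⟨n, hn', he⟩ := hmoves b₁ hb₁ h1 _
        ⟨hg, h.cent b₁ hb₁ h1 _ hc⟩
      have hy := adjust hbb hW hn' rfl hg he
      obtain ⟨b, hb, hbw⟩ := hTsplit W hWn hW (by omega) _ (h.cent b₁ hb₁ h1 _ hy)
      refine ⟨b, hb, ?_⟩
      rw [show b⁻¹ * g = (b⁻¹ * n⁻¹ * b⁻¹⁻¹) * (b⁻¹ * (n * g)) by group]
      exact mul_mem (hWn.conj_mem _ (inv_mem hn') b⁻¹) hbw
    have hself : centralizer (W : Set P) = W := by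
      by_contra hne
      obtain ⟨k, hk, hkW, hfix⟩ := exists_fixed_coset h.hP
        (lt_of_le_of_ne hW.le_centralizer (Ne.symm hne))
        (fun x _ n hn => hWn.conj_mem n hn x) {b₁}
        (fun x _ y hy => (inferInstance : (centralizer (W : Set P)).Normal).conj_mem y hy x)
        (fun x _ n hn => hWn.conj_mem n hn x)
      have := hfix b₁ rfl
      rw [h.hB.inv hb₁] at this
      obtain ⟨b, hb, hbk⟩ := hlift k this
      by_cases hb1 : b = 1
      · exact hkW (by simpa [hb1] using hbk)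
      have hbK : b ∈ centralizer (W : Set P) := by
        have := mul_mem hk (inv_mem (hW.le_centralizer hbk))
        simpa using this
      have hWT : W ≤ W ⊓ T := by
        rw [← hCb b hb hb1]
        exact le_inf le_rfl fun w hw =>
          mem_centralizer_singleton_iff.2 (mem_centralizer_iff.1 hbK w hw)
      have := card_le_of_le hWT
      omega
    refine frattini_index_of_moves h.hP hW hW16 hself (fun J N hN => ?_) H
    have ha2 : (b₁ : P ⧸ W) * (b₁ : P ⧸ W) = 1 := by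
      rw [← QuotientGroup.mk_mul, hbb, QuotientGroup.mk_one]
    have hcomm : ∀ g : P, (b₁ : P ⧸ W) * g = g * b₁ → b₁ * g * b₁ * g⁻¹ ∈ W := fun g hg => by
      refine (QuotientGroup.eq_one_iff _).1 ?_
      rw [QuotientGroup.mk_mul, QuotientGroup.mk_mul, QuotientGroup.mk_mul, QuotientGroup.mk_inv,
        hg, mul_assoc (g : P ⧸ W), ha2, mul_one, mul_inv_cancel]
    have h4 : Nat.card (centralizer ({(b₁ : P ⧸ W)} : Set (P ⧸ W))) ≤ 4 := by
      rw [← h.cardB]
      refine le_trans (card_le_of_le (K := B.map (QuotientGroup.mk' W)) fun q hq => ?_)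
        (Nat.card_le_card_of_surjective _ ((QuotientGroup.mk' W).subgroupMap_surjective B))
      obtain ⟨g, rfl⟩ := QuotientGroup.mk_surjective q
      obtain ⟨b, hb, hbg⟩ := hlift g (hcomm g (mem_centralizer_singleton_iff.1 hq).symm)
      exact ⟨b, hb, QuotientGroup.eq.2 hbg⟩
    obtain ⟨hb4, hb3⟩ := small_centralizer_bound (h.hP.to_quotient W) ha2 h4 J N hN
    refine ⟨hb4, fun h3 => ?_⟩
    obtain ⟨q, hq, hq1, hqa⟩ := hb3 h3
    obtain ⟨g, rfl⟩ := QuotientGroup.mk_surjective q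
    obtain ⟨b, hb, hbg⟩ := hlift g (hcomm g hqa)
    have hbq : (b : P ⧸ W) = g := QuotientGroup.eq.2 hbg
    refine ⟨b, hbq ▸ hq, ?_⟩
    have hb1 : b ≠ 1 := fun e => hq1 (by rw [← hbq, e, QuotientGroup.mk_one])
    obtain ⟨r, hr, hr1, r', hr', hr1', hne⟩ : ∃ r ∈ W ⊓ T, r ≠ 1 ∧ ∃ r' ∈ W ⊓ T, r' ≠ 1 ∧ r ≠ r' := by
      obtain ⟨r, hr, hr1⟩ := (W ⊓ T).bot_or_exists_ne_one.resolve_left fun e => by
        rw [e, card_bot] at hR; omega
      refine ⟨r, hr, hr1, ?_⟩
      by_contra hh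
      push Not at hh
      let f : ↥(W ⊓ T) → Fin 2 := fun x => by classical exact if (x : P) = 1 then 0 else 1
      have hf : Function.Injective f := by
        intro x y hxy
        refine Subtype.ext ?_
        by_cases hx : (x : P) = 1 <;> by_cases hy : (y : P) = 1 <;> simp [f, hx, hy] at hxy ⊢
        exact Subtype.ext ((hh x x.2 hx).symm.trans (hh y y.2 hy))
      have := Nat.card_le_card_of_injective f hf
      rw [Nat.card_fin, hR] at this
      omega
    obtain ⟨m, hm, em⟩ := hmoves b hb hb1 r hr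
    obtain ⟨m', hm', em'⟩ := hmoves b hb hb1 r' hr'
    refine ⟨m, hm, m', hm', ?_⟩
    rw [h.hB.inv hb, hW.inv hm, hW.inv hm', em, em']
    exact ⟨hr1, hr1', hne⟩
  push Not at h16
  push Not at hex
  obtain ⟨W, hWn, hW, h5⟩ := hex
  haveI := hWn
  have hsmall : ∀ V : Subgroup P, V.Normal → Elem V → Nat.card V ≤ 8 := fun V hV hVe => by
    obtain ⟨n, hn⟩ := exists_two_pow h.hP V
    have := h16 V hV hVe
    rw [hn] at this ⊢
    have : n ≤ 3 := by
      by_contra hh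
      have : 2 ^ 4 ≤ 2 ^ n := Nat.pow_le_pow_right two_pos (by omega)
      omega
    exact Nat.pow_le_pow_right two_pos this
  have h8 : Nat.card W = 8 :=
    eq_eight_of_two_pow (exists_two_pow h.hP W) h5 (hsmall W hWn hW)
  obtain ⟨hR, -, hdisj, hCb⟩ := facts W hWn hW h8.ge
  have hconj : ∀ b ∈ B, ∀ w ∈ W, b * w * b ∈ W := fun b hb w hw => by
    have := hWn.conj_mem w hw b
    rwa [h.hB.inv hb] at this
  -- the centres of the transvections
  have hcentre : ∀ b ∈ B, b ≠ 1 → ∃ c ∈ W ⊓ T, c ≠ 1 ∧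
      (∀ w ∈ W, b * w * b * w = 1 ∨ b * w * b * w = c) ∧ ∃ w ∈ W, b * w * b * w = c := by
    intro b hb hb1
    obtain ⟨R, hRle, hcard, himg, hsurj⟩ := exists_image (h.hB.sq b hb) hW (hconj b hb)
    rw [hCb b hb hb1] at hRle hcard
    rw [hR, h8] at hcard
    obtain ⟨c, hc, hc1⟩ := R.bot_or_exists_ne_one.resolve_left fun e => by
      rw [e, card_bot] at hcard; omega
    refine ⟨c, hRle hc, hc1, fun w hw => ?_, hsurj c hc⟩
    by_contra hh
    push Not at hh
    let f : Fin 3 → R := ![1, ⟨c, hc⟩, ⟨_, himg w hw⟩]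
    have hf : Function.Injective f := by
      intro i j hij
      have e := congrArg Subtype.val hij
      fin_cases i <;> fin_cases j <;> simp [f, hc1] at e ⊢ <;>
        first
          | exact hh.1 e | exact hh.1 e.symm | exact hh.2 e | exact hh.2 e.symm
          | exact hc1 e.symm
    have := Nat.card_le_card_of_injective f hf
    rw [Nat.card_fin] at this
    omega
  have height : ∀ b ∈ B, b ≠ 1 → ∀ c, c ∈ W ⊓ T → c ≠ 1 →
      (∀ w ∈ W, b * w * b * w = 1 ∨ b * w * b * w = c) → (∃ w ∈ W, b * w * b * w = c) →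
      Eight W b c := fun b hb hb1 c hc hc1 himg hex =>
    ⟨h.hP, hW, h8, hsmall, h.hB.sq b hb, hc.1, hc1, himg, hex,
      hTe.comm c hc.2 b (h.hBT hb), fun k hk hkb => by
        obtain ⟨b', hb', hbk⟩ := hTsplit W hWn hW h8.ge k (h.cent b hb hb1 k hkb)
        by_cases hb'1 : b' = 1
        · simpa [hb'1] using hbk
        exfalso
        have hbK : b' ∈ centralizer (W : Set P) := by
          simpa using mul_mem hk (inv_mem (hW.le_centralizer hbk))
        have hWT : W ≤ W ⊓ T := by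
          rw [← hCb b' hb' hb'1]
          exact le_inf le_rfl fun w hw =>
            mem_centralizer_singleton_iff.2 (mem_centralizer_iff.1 hbK w hw)
        have := card_le_of_le hWT
        omega⟩
  -- every involution of `W ∩ T` is a centre
  have hall : ∀ r ∈ W ⊓ T, r ≠ 1 → ∃ b ∈ B, b ≠ 1 ∧ Eight W b r := by
    intro r hr hr1
    obtain ⟨w, hw, hwT⟩ : ∃ w ∈ W, w ∉ T := by
      by_contra hh
      push Not at hh
      have := card_le_of_le (le_inf le_rfl hh : W ≤ W ⊓ T)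
      omega
    let f : B → ↥(W ⊓ T) := fun b => ⟨b * w * b * w, mul_mem (hconj b b.2 w hw) hw, by
      by_cases hb1 : (b : P) = 1
      · rw [hb1]; simp [hW.sq w hw]
      obtain ⟨c, hc, -, himg, -⟩ := hcentre b b.2 hb1
      rcases himg w hw with e | e <;> rw [e]
      · exact one_mem T
      · exact hc.2⟩
    have hf : Function.Injective f := by
      intro b b' e
      have e' : (b : P) * w * b * w = b' * w * b' * w := congrArg Subtype.val e
      by_contra hne
      have hb1 : (b' : P)⁻¹ * b ≠ 1 := fun e1 => hne (Subtype.ext (inv_mul_eq_one.1 e1).symm)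
      refine hwT (h.cent _ (mul_mem (inv_mem b'.2) b.2) hb1 w ?_)
      have e2 : (b : P) * w * b = b' * w * b' := mul_right_cancel e'
      calc w * ((b' : P)⁻¹ * b) = (b' : P)⁻¹ * (b' * w * b') * ((b' : P)⁻¹ * (b' : P)⁻¹) * b := by
            group
        _ = (b' : P)⁻¹ * (b * w * b) * b := by
            rw [e2, h.hB.inv b'.2, h.hB.sq _ b'.2, mul_one]
        _ = (b' : P)⁻¹ * b * w * (b * b) := by group
        _ = (b' : P)⁻¹ * b * w := by rw [h.hB.sq _ b.2, mul_one]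
    have hb := (Nat.bijective_iff_injective_and_card f).2 ⟨hf, by rw [h.cardB, hR]⟩
    obtain ⟨b, hbr⟩ := hb.2 ⟨r, hr⟩
    have e : (b : P) * w * b * w = r := congrArg Subtype.val hbr
    have hb1 : (b : P) ≠ 1 := fun e1 => hr1 (by rw [← e, e1]; simp [hW.sq w hw])
    obtain ⟨c, hc, hc1, himg, hex⟩ := hcentre b b.2 hb1
    rcases himg w hw with e' | e' <;> rw [e] at e'
    · exact absurd e' hr1
    · subst e'
      exact ⟨b, b.2, hb1, height b b.2 hb1 r hr hr1 himg hex⟩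
  obtain ⟨b₁, -, hb₁, -, h1, -⟩ := h.exists_pair
  obtain ⟨c₁, hc₁, hc1, himg, hexw⟩ := hcentre b₁ hb₁ h1
  have E₁ := height b₁ hb₁ h1 c₁ hc₁ hc1 himg hexw
  by_cases hlt : W < centralizer (W : Set P)
  · obtain ⟨k₀, C₁⟩ := E₁.exists_core hlt
    have hw0 : k₀ * k₀ ∈ W ⊓ T := ⟨C₁.sq_mem, h.cent b₁ hb₁ h1 _
      (mul_inv_eq_iff_eq_mul.1 (C₁.w₀_central b₁)).symm⟩
    obtain ⟨b, hb, hb1, E⟩ := hall _ hw0 C₁.w₀_ne_one
    refine E.frattini_index (fun k C => Or.inl ?_) H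
    -- the square of `k₀` does not depend on the choice
    rcases C₁.fixed_coset C.mem (by
      have := C.cen b₁
      rwa [h.hB.inv hb₁] at this) with hk | hk
    · exact absurd hk C.notMem
    · set v := k₀⁻¹ * k with hv
      have hc := mem_centralizer_iff.1 C₁.mem _ hk
      calc k₀ * k₀ = k₀ * k₀ * (v * v) := by rw [hW.sq v hk, mul_one]
        _ = k₀ * (k₀ * v) * v := by group
        _ = k * k := by rw [← hc, hv]; group
  · refine E₁.frattini_index (fun k C => absurd ?_ hlt) H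
    exact lt_of_le_of_ne hW.le_centralizer fun e => C.notMem (e ▸ C.mem)

end Elementary

end ProductFour

end CfsgLib.SelfCentEight
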