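import Cfsg.Agent.SelfCentEight.Index

/-!
Elementary quotients of subgroups of 2-groups with an involution having small centralizer.
-/

set_option autoImplicit false
set_option linter.style.haveILetI false
set_option linter.unusedSectionVars false

namespace CfsgLib.SelfCentEight

open Subgroup

universe u

theorem isCyclic_subgroupOf {G : Type u} [Group G] {C : Subgroup G} [IsCyclic C] (J : Subgroup G) :
    IsCyclic (C.subgroupOf J) :=
  isCyclic_of_injective
    ((J.subtype.comp (C.subgroupOf J).subtype).codRestrict C fun x => x.2)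
    fun _ _ h => Subtype.ext (Subtype.ext (congrArg (fun z : C => (z : G)) h))

namespace FixTwo

variable {K : Type u} [Group K] [Finite K] {T : FixTwo K}

theorem Good.top [IsCyclic K] : T.Good ⊤ where
  cyclic := isCyclic_of_surjective (topEquiv (G := K)).symm.toMonoidHom
    (topEquiv (G := K)).symm.surjective
  index := by simp
  mem₀ := mem_top _
  tw_mem _ := mem_top _

/-- Elementary quotients of subgroups have order at most 4. -/
theorem subgroup_bound {C : Subgroup K} (hC : T.Good C) (J : Subgroup K) (N : Subgroup J)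
    (hN : ∀ x : J, x * x ∈ N) : N.index ≤ 4 ∧ (3 ≤ N.index → T.k₀ ∈ J) := by
  haveI := hC.cyclic
  haveI := isCyclic_subgroupOf (C := C) J
  have h1 : (C.subgroupOf J).index ≤ 2 :=
    (Nat.le_of_dvd (Nat.pos_of_ne_zero index_ne_zero_of_finite)
      (haveI := hC.normal; C.relIndex_dvd_index_of_normal J)).trans hC.index
  have h2 := index_le_of_cyclic (N := N) (D := C.subgroupOf J) fun x _ => hN x
  refine ⟨by omega, fun h3 => ?_⟩
  by_contra hk
  have hbot : C.subgroupOf J = ⊥ := (eq_bot_iff_forall _).2 fun x hx => by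
    by_contra hx1
    exact hk (hC.k₀_mem hx x.2 fun e => hx1 (Subtype.ext e))
  rw [hbot] at h1
  have := Nat.le_of_dvd (Nat.pos_of_ne_zero (index_ne_zero_of_finite (H := (⊥ : Subgroup J))))
    (index_dvd_of_le (bot_le : ⊥ ≤ N))
  omega

/-- Elementary quotients of subgroups of a cyclic group have order at most 2. -/
theorem subgroup_bound_cyclic [IsCyclic K] (J : Subgroup K) (N : Subgroup J)
    (hN : ∀ x : J, x * x ∈ N) : N.index ≤ 2 := by
  have h := index_le_of_cyclic (N := N) (D := ⊤) (fun x _ => hN x)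
  · simpa using h

end FixTwo

variable {Q : Type u} [Group Q] [Finite Q]

/-- An involution with centralizer of order at most 4 lies outside the Frattini subgroup, unless it
is central. -/
theorem notMem_frattini (hQ : IsPGroup 2 Q) {a : Q} (hne : centralizer ({a} : Set Q) ≠ ⊤)
    (h4 : Nat.card (centralizer ({a} : Set Q)) ≤ 4) : a ∉ frattini Q := by
  intro haF
  haveI : Fact (Nat.Prime 2) := ⟨Nat.prime_two⟩
  obtain ⟨hc, hp⟩ := CfsgLib.PGroupBasic.commutator_pow_le_frattini hQ
  haveI : (frattini Q).Normal := inferInstance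
  have hF4 : 4 ≤ (frattini Q).index := by
    obtain ⟨n, hn⟩ := hQ.index (frattini Q)
    rw [hn]
    by_contra hlt
    have hn1 : n ≤ 1 := by
      by_contra h2
      exact hlt (Nat.pow_le_pow_right two_pos (show 2 ≤ n by omega))
    obtain ⟨g, hg⟩ : ∃ g : Q, ∀ x : Q, x ∈ zpowers g ⊔ frattini Q := by
      by_cases ht : frattini Q = ⊤
      · exact ⟨1, fun x => by rw [ht, sup_top_eq]; exact mem_top _⟩
      obtain ⟨g, hg⟩ : ∃ g : Q, g ∉ frattini Q := by
        by_contra hh
        push Not at hh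
        exact ht (eq_top_iff.2 fun x _ => hh x)
      have hn2 : (frattini Q).index = 2 := by
        interval_cases n
        · exact absurd (index_eq_one.1 (by simpa using hn)) ht
        · simpa using hn
      refine ⟨g, fun x => ?_⟩
      by_cases hx : x ∈ frattini Q
      · exact mem_sup_right hx
      · have := (mul_mem_iff_of_index_two hn2).2 (iff_of_false hg hx)
        simpa using mul_mem (inv_mem (mem_sup_left (mem_zpowers g))) (mem_sup_right (S := zpowers g) this)
    have htop : zpowers g = ⊤ := frattini_nongenerating (eq_top_iff.2 fun x _ => hg x)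
    refine hne (eq_top_iff.2 fun x _ => mem_centralizer_singleton_iff.2 ?_)
    obtain ⟨i, rfl⟩ := mem_zpowers_iff.1 (htop ▸ mem_top x : x ∈ zpowers g)
    obtain ⟨j, rfl⟩ := mem_zpowers_iff.1 (htop ▸ mem_top a : a ∈ zpowers g)
    exact ((Commute.refl g).zpow_zpow i j).eq
  set C := centralizer ({a} : Set Q) with hC
  let f : Q ⧸ C → frattini Q := fun q =>
    ⟨q.out * a * q.out⁻¹, (inferInstance : (frattini Q).Normal).conj_mem a haF _⟩
  have hf : Function.Injective f := by
    intro q r h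
    have h' : q.out * a * q.out⁻¹ = r.out * a * r.out⁻¹ := congrArg Subtype.val h
    have hm : r.out⁻¹ * q.out ∈ C := mem_centralizer_singleton_iff.2 (by
      calc r.out⁻¹ * q.out * a = r.out⁻¹ * (q.out * a * q.out⁻¹) * q.out := by group
        _ = a * (r.out⁻¹ * q.out) := by rw [h']; group)
    rw [← QuotientGroup.eq, QuotientGroup.out_eq', QuotientGroup.out_eq'] at hm
    exact hm.symm
  have hne1 : a ≠ 1 := fun e => hne (eq_top_iff.2 fun x _ =>
    mem_centralizer_singleton_iff.2 (by rw [e]; simp))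
  have hnsurj : ¬ Function.Surjective f := fun hs => by
    obtain ⟨q, hq⟩ := hs 1
    exact hne1 (conj_eq_one_iff.1 (congrArg Subtype.val hq))
  haveI := Fintype.ofFinite (Q ⧸ C)
  haveI := Fintype.ofFinite (frattini Q)
  have hlt := Fintype.card_lt_of_injective_not_surjective f hf hnsurj
  rw [← Nat.card_eq_fintype_card, ← Nat.card_eq_fintype_card, ← index_eq_card] at hlt
  have e1 := C.card_mul_index
  have e2 := (frattini Q).card_mul_index
  have : Nat.card C * C.index ≤ 4 * C.index := Nat.mul_le_mul_right _ h4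
  have : Nat.card (frattini Q) * 4 ≤ Nat.card (frattini Q) * (frattini Q).index :=
    Nat.mul_le_mul_left _ hF4
  omega

/-- Elementary quotients of subgroups of a 2-group with an involution whose centralizer has order
at most 4 have order at most 4, and those of order 4 force a fixed point of the involution. -/
theorem small_centralizer_bound (hQ : IsPGroup 2 Q) {a : Q} (ha2 : a * a = 1)
    (h4 : Nat.card (centralizer ({a} : Set Q)) ≤ 4) (J : Subgroup Q) (N : Subgroup J)
    (hN : ∀ x : J, x * x ∈ N) :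
    N.index ≤ 4 ∧ (3 ≤ N.index → ∃ q ∈ J, q ≠ 1 ∧ a * q = q * a) := by
  haveI : Fact (Nat.Prime 2) := ⟨Nat.prime_two⟩
  have hNJ : N.index ≤ Nat.card J := by
    rw [← N.card_mul_index]; exact Nat.le_mul_of_pos_left _ Nat.card_pos
  by_cases hne : centralizer ({a} : Set Q) = ⊤
  · have hJ : Nat.card J ≤ 4 := by
      refine le_trans ?_ h4
      exact card_le_of_le (hne ▸ le_top)
    refine ⟨by omega, fun h3 => ?_⟩
    obtain ⟨q, hq, hq1⟩ := J.bot_or_exists_ne_one.resolve_left fun e => by
      subst e; rw [card_bot] at hNJ; omega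
    exact ⟨q, hq, hq1, (mem_centralizer_singleton_iff.1
      (hne ▸ mem_top q : q ∈ centralizer ({a} : Set Q))).symm⟩
  have haF := notMem_frattini hQ hne h4
  obtain ⟨M, hM, haM⟩ : ∃ M : Subgroup Q, IsCoatom M ∧ a ∉ M := by
    by_contra h
    push Not at h
    exact haF (by
      rw [frattini, Order.radical]
      simp only [mem_iInf]
      exact fun M hM => h M hM)
  obtain ⟨hMn, hMi⟩ := CfsgLib.PGroupBasic.coatom_normal_index hQ hM
  haveI := hMn
  haveI := hQ.isNilpotent
  have hinv : a⁻¹ = a := inv_eq_of_mul_eq_one_right ha2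
  have hMne : M ≠ ⊥ := by
    intro e
    refine hne (eq_top_iff.2 fun x _ => mem_centralizer_singleton_iff.2 ?_)
    by_cases hx : x ∈ M
    · rw [e, mem_bot] at hx; simp [hx]
    · have := (mul_mem_iff_of_index_two hMi).2 (iff_of_false haM hx)
      rw [e, mem_bot] at this
      rw [show x = a from (eq_inv_of_mul_eq_one_right this).trans hinv]
  obtain ⟨z, hz, hz1⟩ := (bot_or_exists_ne_one _).resolve_left
    (CfsgLib.PGroupBasic.inf_center_ne_bot M hMne)
  have hfixle : ∀ m : Q, m ∈ M → a * m = m * a → m = 1 ∨ m = z := by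
    intro m hm hma
    by_contra h
    push Not at h
    let f : Fin 5 → centralizer ({a} : Set Q) :=
      ![1, ⟨a, mem_centralizer_singleton_iff.2 rfl⟩, ⟨m, mem_centralizer_singleton_iff.2 hma.symm⟩,
        ⟨z, mem_centralizer_singleton_iff.2 (mem_center_iff.1 hz.2 a).symm⟩,
        ⟨a * z, mem_centralizer_singleton_iff.2 (by
          rw [mul_assoc, ← mem_center_iff.1 hz.2 a])⟩]
    have haz : a * z ∉ M := fun h' => haM (by simpa using mul_mem h' (inv_mem hz.1))
    have hf : Function.Injective f := by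
      intro i j hij
      have e := congrArg Subtype.val hij
      fin_cases i <;> fin_cases j <;> simp [f] at e ⊢ <;>
        first
          | exact haM (e ▸ one_mem M) | exact haM (e.symm ▸ one_mem M) | exact haM (e ▸ hm)
          | exact haM (e.symm ▸ hm) | exact haM (e ▸ hz.1) | exact haM (e.symm ▸ hz.1)
          | exact haz (e ▸ one_mem M) | exact haz (e.symm ▸ one_mem M) | exact haz (e ▸ hm)
          | exact haz (e.symm ▸ hm) | exact haz (e ▸ hz.1) | exact haz (e.symm ▸ hz.1)
          | exact h.1 e | exact h.1 e.symm | exact h.2 e | exact h.2 e.symm | exact hz1 e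
          | exact hz1 e.symm
    have := (Nat.card_le_card_of_injective f hf).trans h4
    rw [Nat.card_fin] at this
    omega
  have hσ : ∀ m : M, ((MulAut.conjNormal a m : M) : Q) = a * m * a := fun m => by
    rw [MulAut.conjNormal_apply, hinv]
  let T : FixTwo M :=
    { hK := hQ.to_subgroup M
      σ := MulAut.conjNormal a
      invol := fun m => Subtype.ext (by
        rw [hσ, hσ, show a * (a * (m : Q) * a) * a = a * a * m * (a * a) by group, ha2,
          one_mul, mul_one])
      k₀ := ⟨z, hz.1⟩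
      fix₀ := Subtype.ext (by
        rw [hσ, mem_center_iff.1 hz.2 a, mul_assoc, ha2, mul_one])
      fixed := fun m hm => by
        have e : a * (m : Q) * a = m := (hσ m).symm.trans (congrArg Subtype.val hm)
        rcases hfixle m m.2 (by
          calc a * (m : Q) = a * m * (a * a) := by rw [ha2, mul_one]
            _ = a * m * a * a := by group
            _ = m * a := by rw [e]) with h | h
        · exact Or.inl (Subtype.ext h)
        · exact Or.inr (Subtype.ext h)
      ne := fun _ e => hz1 (congrArg Subtype.val e) }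
  obtain ⟨C, hC⟩ := T.exists_good
  set D := C.map M.subtype with hD
  haveI := hC.cyclic
  haveI : IsCyclic D := isCyclic_of_surjective (C.equivMapOfInjective M.subtype
    M.subtype_injective).toMonoidHom (C.equivMapOfInjective M.subtype M.subtype_injective).surjective
  have hmemD : ∀ {m : M}, (m : Q) ∈ D ↔ m ∈ C := fun {m} => by
    rw [hD]; exact mem_map_iff_mem M.subtype_injective
  have hDM : D ≤ M := map_subtype_le C
  haveI := isCyclic_subgroupOf (C := D) J
  -- `C` has at most one further coset in `M`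
  have hCC : ∀ m n : M, m ∉ C → n ∉ C → m * n ∈ C := by
    intro m n hm hn
    have h0 := hC.index
    have h1 := C.index_ne_zero_of_finite
    rcases (show C.index = 1 ∨ C.index = 2 by omega) with h | h
    · exact absurd (index_eq_one.1 h ▸ mem_top m) hm
    · exact (mul_mem_iff_of_index_two h).2 (iff_of_false hm hn)
  by_cases hgood : ∀ x y : J, x ∉ D.subgroupOf J → y ∉ D.subgroupOf J → x⁻¹ * y ∈ D.subgroupOf J
  · have h2 := index_le_two_of hgood
    have h22 := index_le_of_cyclic (N := N) (D := D.subgroupOf J) fun x _ => hN x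
    refine ⟨by omega, fun h3 => ?_⟩
    obtain ⟨x, hx, hx1⟩ := (D.subgroupOf J).bot_or_exists_ne_one.resolve_left fun e => by
      rw [e] at h2
      have := Nat.le_of_dvd (Nat.pos_of_ne_zero (index_ne_zero_of_finite (H := (⊥ : Subgroup J))))
        (index_dvd_of_le (bot_le : ⊥ ≤ N))
      omega
    rw [mem_subgroupOf] at hx
    have hxM : (x : Q) ∈ M := hDM hx
    have hk := hC.k₀_mem (J := J.subgroupOf M) (x := ⟨(x : Q), hxM⟩) (hmemD.1 hx) x.2
      fun e => hx1 (Subtype.ext (congrArg Subtype.val e : (x : Q) = 1))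
    exact ⟨z, hk, hz1, mem_center_iff.1 hz.2 a⟩
  -- otherwise `J` meets the cosets of `a` and of an element of `M` outside `C`
  push Not at hgood
  obtain ⟨x, y, hx, hy, hxy⟩ := hgood
  rw [mem_subgroupOf] at hx hy hxy
  have hasplit : ∀ {g : Q}, g ∉ M → a * g ∈ M := fun {g} hg =>
    (mul_mem_iff_of_index_two hMi).2 (iff_of_false haM hg)
  obtain ⟨⟨g, hg, m, hm, hgm⟩, ⟨n, hn, hnC⟩⟩ :
      (∃ g ∈ J, ∃ m : M, m ∈ C ∧ g = a * m) ∧ ∃ n : M, (n : Q) ∈ J ∧ n ∉ C := by
    have hwr : ∀ {g : Q} (hg : g ∉ M), g = a * ((⟨a * g, hasplit hg⟩ : M) : Q) := fun {g} hg => by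
      show g = a * (a * g)
      rw [← mul_assoc, ha2, one_mul]
    have hconj : ∀ m : M, a * (m : Q) * a = ((T.σ m : M) : Q) := fun m => (hσ m).symm
    have hσC : ∀ m : M, T.σ m ∈ C → m ∈ C := fun m h => by
      have := hC.σ_mem h; rwa [T.invol] at this
    -- an element of `J` in `M` outside `C`
    have h1 : ∃ n : M, (n : Q) ∈ J ∧ n ∉ C := by
      by_contra hh
      push Not at hh
      have hin : ∀ w : J, (w : Q) ∈ M → (w : Q) ∈ D := fun w hw =>
        (hmemD (m := ⟨_, hw⟩)).2 (hh ⟨_, hw⟩ w.2)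
      have hxM : (x : Q) ∉ M := fun h' => hx (hin x h')
      have hyM : (y : Q) ∉ M := fun h' => hy (hin y h')
      exact hxy (hin (x⁻¹ * y) ((mul_mem_iff_of_index_two hMi).2
        (iff_of_false (fun h' => hxM (inv_mem_iff.1 h')) hyM)))
    refine ⟨?_, h1⟩
    by_contra hh
    push Not at hh
    have hout : ∀ w : J, (hw : (w : Q) ∉ M) → (⟨a * w, hasplit hw⟩ : M) ∉ C := fun w hw h' =>
      hh w w.2 ⟨a * w, hasplit hw⟩ h' (hwr hw)
    obtain ⟨n, hn, hnC⟩ := h1
    by_cases hout' : ∃ w : J, (w : Q) ∉ M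
    · obtain ⟨w, hw⟩ := hout'
      have hwn : (w : Q) * n ∉ M := fun h' => hw (by simpa using mul_mem h' (inv_mem n.2))
      apply hh ((w : Q) * n) (mul_mem w.2 hn) (⟨a * w, hasplit hw⟩ * n) (hCC _ _ (hout w hw) hnC)
      show (w : Q) * n = a * (a * w * n)
      rw [← mul_assoc, ← mul_assoc, ha2, one_mul]
    · push Not at hout'
      exact hxy ((hmemD (m := ⟨_, mul_mem (inv_mem (hout' x)) (hout' y)⟩)).2
        (hCC (⟨_, inv_mem (hout' x)⟩ : M) ⟨_, hout' y⟩
          (fun h' => hx (inv_mem_iff.1 (hmemD.2 h'))) (fun h' => hy (hmemD.2 h'))))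
  set u : M := T.σ (m * n * m⁻¹) * n⁻¹ with hu
  have huv : (u : Q) = g * n * g⁻¹ * (n : Q)⁻¹ := by
    rw [hgm, hu, Subgroup.coe_mul, hσ, Subgroup.coe_inv, mul_inv_rev, hinv]
    simp only [Subgroup.coe_mul, Subgroup.coe_inv, mul_assoc]
  have huC : u ∈ C := by
    rw [show u = T.tw (m * n * m⁻¹) * (m * (n * m⁻¹ * n⁻¹)) by
      rw [hu, FixTwo.tw]; group]
    exact mul_mem (hC.tw_mem _) (mul_mem hm (hC.normal.conj_mem _ (inv_mem hm) n))
  have hns : ¬ ∃ c ∈ C, c * c = u := by
    rintro ⟨c, hc, hcu⟩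
    -- `u` is the twisted commutator of `n` times a square
    set e := T.σ m with he
    have heC : e ∈ C := hC.σ_mem hm
    have hconjC : ∀ {w : M}, w ∈ C → n * w * n⁻¹ ∈ C := fun hw => hC.normal.conj_mem _ hw n
    have hfac : u = T.tw n * (e * (n * e⁻¹ * n⁻¹)) := by
      have h1 : u = e * T.tw n * (n * e⁻¹ * n⁻¹) := by
        rw [hu, he, map_mul, map_mul, map_inv, FixTwo.tw]; group
      rw [h1, hC.comm heC (hC.tw_mem n), mul_assoc]
    obtain ⟨d, hd, hd'⟩ : ∃ d ∈ C, d * d = e * (n * e⁻¹ * n⁻¹) := by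
      by_cases hsq : ∃ f ∈ C, f * f = e
      · obtain ⟨f, hf, hf'⟩ := hsq
        refine ⟨f * (n * f⁻¹ * n⁻¹), mul_mem hf (hconjC (inv_mem hf)), ?_⟩
        rw [show f * (n * f⁻¹ * n⁻¹) * (f * (n * f⁻¹ * n⁻¹)) =
          f * ((n * f⁻¹ * n⁻¹) * f) * (n * f⁻¹ * n⁻¹) by group,
          hC.comm (hconjC (inv_mem hf)) hf, ← hf']
        group
      · refine hC.sq_of_not heC (hconjC (inv_mem heC)) hsq ?_
        rintro ⟨f, hf, hf'⟩
        refine hsq ⟨(n⁻¹ * f * n)⁻¹, inv_mem ?_, ?_⟩
        · simpa using hC.normal.conj_mem _ hf n⁻¹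
        · rw [← mul_inv_rev, show n⁻¹ * f * n * (n⁻¹ * f * n) = n⁻¹ * (f * f) * n by group, hf']
          group
    rw [← hd'] at hfac
    refine hC.tw_not_sq hnC ⟨c * d⁻¹, mul_mem hc (inv_mem hd), ?_⟩
    rw [show T.tw n = u * (d * d)⁻¹ by rw [hfac]; group, ← hcu,
      show c * d⁻¹ * (c * d⁻¹) = c * (d⁻¹ * c) * d⁻¹ by group, hC.comm (inv_mem hd) hc]
    group
  have huJ : (u : Q) ∈ J := huv ▸ mul_mem (mul_mem (mul_mem hg hn) (inv_mem hg)) (inv_mem hn)
  have hgenle := hC.gen_of_not_sq huC hns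
  have hCJ : ∀ c : M, c ∈ C → (c : Q) ∈ J := fun c hc => by
    obtain ⟨i, rfl⟩ := mem_zpowers_iff.1 (hgenle hc)
    rw [Subgroup.coe_zpow]; exact zpow_mem huJ i
  have huN : (⟨(u : Q), huJ⟩ : J) ∈ N := by
    rw [show (⟨(u : Q), huJ⟩ : J) = ⟨g, hg⟩ * ⟨(n : Q), hn⟩ * ⟨g, hg⟩⁻¹ * ⟨(n : Q), hn⟩⁻¹ from
      Subtype.ext huv]
    exact comm_mem_of_sq hN _ _
  have hle : D.subgroupOf J ≤ N := fun w hw => by
    rw [mem_subgroupOf] at hw
    obtain ⟨i, hi⟩ := mem_zpowers_iff.1 (hgenle ((hmemD (m := ⟨_, hDM hw⟩)).1 hw))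
    rw [show w = (⟨(u : Q), huJ⟩ : J) ^ i from Subtype.ext (by
      rw [Subgroup.coe_zpow]
      exact (congrArg Subtype.val hi).symm.trans (Subgroup.coe_zpow _ _ _))]
    exact zpow_mem huN i
  refine ⟨?_, fun _ => ⟨z, hCJ _ hC.mem₀, hz1, mem_center_iff.1 hz.2 a⟩⟩
  have hD4 : D.index ≤ 4 := by
    rw [hD, index_map_subtype, hMi]
    have := hC.index
    omega
  haveI hDn : D.Normal := ⟨fun d hd h => by
    obtain ⟨c, hc, rfl⟩ := hd
    by_cases hh : h ∈ M
    · exact ⟨⟨h, hh⟩ * c * ⟨h, hh⟩⁻¹, hC.normal.conj_mem c hc _, rfl⟩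
    · refine ⟨T.σ (⟨a * h, hasplit hh⟩ * c * ⟨a * h, hasplit hh⟩⁻¹),
        hC.σ_mem (hC.normal.conj_mem c hc _), ?_⟩
      show ((T.σ _ : M) : Q) = _
      rw [hσ]
      show a * (a * h * c * (a * h)⁻¹) * a = h * c * h⁻¹
      rw [mul_inv_rev, hinv]
      calc a * (a * h * c * (h⁻¹ * a)) * a = (a * a) * (h * c * h⁻¹) * (a * a) := by group
        _ = h * c * h⁻¹ := by rw [ha2, one_mul, mul_one]⟩
  calc N.index ≤ (D.subgroupOf J).index :=
        Nat.le_of_dvd (Nat.pos_of_ne_zero index_ne_zero_of_finite) (index_dvd_of_le hle)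
    _ ≤ D.index := Nat.le_of_dvd (Nat.pos_of_ne_zero index_ne_zero_of_finite)
        (D.relIndex_dvd_index_of_normal J)
    _ ≤ 4 := hD4

end CfsgLib.SelfCentEight
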