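import Cfsg.Agent.SelfCentEight.Flag
import Cfsg.Agent.SelfCentEight.SmallCentralizer

/-!
The case of a normal elementary abelian subgroup of order at least 16.
-/

set_option autoImplicit false
set_option linter.style.haveILetI false
set_option linter.unusedSectionVars false
set_option linter.unusedTactic false
set_option linter.unreachableTactic false

namespace CfsgLib.SelfCentEight

open Subgroup

universe u

variable {S : Type u} [Group S] [Finite S]

/-- A self-centralizing elementary abelian subgroup of order 8. -/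
structure SelfCent (A : Subgroup S) : Prop where
  hS : IsPGroup 2 S
  elem : Elem A
  card : Nat.card A = 8
  self : ∀ y : S, (∀ x ∈ A, x * y = y * x) → y ∈ A

theorem conj_eq_of_comm {y x : S} (h : x * y = y * x) : y * x * y⁻¹ = x := by
  rw [← h, mul_inv_cancel_right]

/-- A normal elementary abelian subgroup of order 16 with an involution of rank-two fixed space. -/
structure Sixteen (M : Subgroup S) (a : S) : Prop where
  hS : IsPGroup 2 S
  hM : Elem M
  card : Nat.card M = 16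
  self : centralizer (M : Set S) = M
  inv : a * a = 1
  cardB : Nat.card ↥(M ⊓ centralizer {a}) = 4
  two : ∀ y : S, y * a = a * y → (∀ m ∈ M, m * a = a * m → m * y = y * m) → y ∈ M ∨ a * y ∈ M

/-- Correcting a fixed coset by an element of the module. -/
theorem adjust {a y n m : S} (ha : a * a = 1) {M : Subgroup S} (hM : Elem M) (hn : n ∈ M)
    (hm : a * y * a * y⁻¹ = m) (hmM : m ∈ M) (he : a * n * a * n = m) :
    n * y * a = a * (n * y) := by
  refine comm_mem_ker ha ?_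
  calc a * (n * y) * a * (n * y)⁻¹ = a * n * (a * a) * y * a * y⁻¹ * n⁻¹ := by rw [ha, mul_one]; group
    _ = a * n * a * (a * y * a * y⁻¹) * n⁻¹ := by group
    _ = a * n * a * m * n := by rw [hm, hM.inv hn]
    _ = 1 := by rw [mul_assoc, hM.comm m hmM n hn, ← mul_assoc, he, hM.sq m hmM]

namespace SelfCent

variable {A : Subgroup S}

theorem mem_of_basis (hA : SelfCent A) {c a₁ a₂ y : S} (b : Basis A c a₁ a₂) (hc : c * y = y * c)
    (h1 : a₁ * y = y * a₁) (h2 : a₂ * y = y * a₂) : y ∈ A :=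
  hA.self y fun _ hx => mem_centralizer_singleton_iff.1 (b.le_of_mem hA.hS
    (mem_centralizer_singleton_iff.2 hc) (mem_centralizer_singleton_iff.2 h1)
    (mem_centralizer_singleton_iff.2 h2) hx)

/-- Reduction to the rank-two fixed space. -/
theorem exists_sixteen (hA : SelfCent A) {M : Subgroup S} [hn : M.Normal] (hM : Elem M)
    (h16 : 16 ≤ Nat.card M) : ∃ a, Sixteen M a := by
  haveI : Fact (Nat.Prime 2) := ⟨Nat.prime_two⟩
  have hinvA : ∀ {x}, x ∈ A → x * x = 1 := fun hx => hA.elem.sq _ hx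
  have hconj : ∀ {x}, x ∈ A → ∀ m ∈ M, x * m * x ∈ M := fun {x} hx m hm => by
    have := hn.conj_mem m hm x
    rwa [hA.elem.inv hx] at this
  have hfix : ∀ {m}, m ∈ M → (∀ x ∈ A, x * m = m * x) → m ∈ M ⊓ A :=
    fun hm h => ⟨hm, hA.self _ h⟩
  have hcomB : ∀ {m x}, m ∈ M ⊓ A → x ∈ A → m * x = x * m := fun hm hx => hA.elem.comm _ hm.2 _ hx
  set B := M ⊓ A with hB
  have hB4 : Nat.card B ≤ 4 := by
    obtain ⟨n, hn'⟩ := exists_two_pow hA.hS B
    have hle : Nat.card B ≤ 8 := hA.card ▸ card_le_of_le inf_le_right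
    by_contra h
    have h8 := eq_eight_of_two_pow ⟨n, hn'⟩ (by omega) hle
    have heq : B = A := eq_of_le_of_card_ge inf_le_right (by rw [h8, hA.card])
    have hAM : A ≤ M := heq ▸ inf_le_left
    have : M ≤ A := fun m hm => hA.self m fun x hx => hM.comm x (hAM hx) m hm
    have := card_le_of_le this
    rw [hA.card] at this
    omega
  have hB2 : 2 ≤ Nat.card B := by
    have hne : (⊥ : Subgroup S) < M := bot_lt_iff_ne_bot.2 fun e => by
      rw [e, card_bot] at h16; omega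
    obtain ⟨m, hm, hm1, hfixm⟩ := exists_fixed_coset hA.hS hne
      (fun x _ n hn => by rw [mem_bot.1 hn]; simp) (A : Set S)
      (fun x _ m hm => hn.conj_mem m hm x) (fun x _ n hn => by rw [mem_bot.1 hn]; simp)
    have hmB : m ∈ B := hfix hm fun x hx => by
      have := mem_bot.1 (hfixm x hx)
      exact mul_inv_eq_iff_eq_mul.1 (mul_inv_eq_one.1 this)
    haveI : Nontrivial B := ⟨⟨⟨m, hmB⟩, 1, fun e => hm1 (mem_bot.2 (congrArg Subtype.val e))⟩⟩
    exact Finite.one_lt_card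
  set K := centralizer (M : Set S) with hK
  haveI hKn : K.Normal := inferInstance
  have hMK : M ≤ K := hM.le_centralizer
  have hnotK : ∀ {x}, x ∈ A → Nat.card ↥(M ⊓ centralizer {x}) ≤ 4 → x ∉ K := fun {x} _ hc hxK => by
    have : M ≤ M ⊓ centralizer {x} := le_inf le_rfl fun m hm =>
      mem_centralizer_singleton_iff.2 (mem_centralizer_iff.1 hxK m hm)
    have := card_le_of_le this
    omega
  have hfixK : M < K → ∃ y ∈ K, y ∉ M ∧ ∀ x ∈ A, x * y * x * y⁻¹ ∈ M := fun hlt => by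
    obtain ⟨y, hy, hyM, h⟩ := exists_fixed_coset hA.hS hlt
      (fun x _ n hnM => hn.conj_mem n hnM x) (A : Set S)
      (fun x _ y hy => hKn.conj_mem y hy x) (fun x _ n hnM => hn.conj_mem n hnM x)
    refine ⟨y, hy, hyM, fun x hx => ?_⟩
    have := h x hx
    rwa [hA.elem.inv hx] at this
  obtain ⟨k, hk⟩ := exists_two_pow hA.hS B
  have hk' : Nat.card B = 2 ∨ Nat.card B = 4 := by
    have h3 : k ≤ 2 := by
      by_contra h
      have : 2 ^ 3 ≤ 2 ^ k := Nat.pow_le_pow_right two_pos (by omega)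
      omega
    interval_cases k <;> simp_all
  rcases hk' with hb | hb
  swap
  · -- `|B| = 4`
    obtain ⟨a, ha, haB⟩ : ∃ a ∈ A, a ∉ B := by
      by_contra h
      push Not at h
      have := card_le_of_le h
      rw [hA.card] at this
      omega
    have hBA : ∀ {x}, x ∈ A → x ∈ B ∨ a * x ∈ B := fun {x} hx => by
      have h2 : (B.subgroupOf A).index = 2 := by
        have := (B.subgroupOf A).card_mul_index
        rw [Nat.card_congr (subgroupOfEquivOfLe (inf_le_right : B ≤ A)).toEquiv, hb, hA.card] at this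
        omega
      by_cases hxB : x ∈ B
      · exact Or.inl hxB
      · exact Or.inr ((mul_mem_iff_of_index_two h2 (a := ⟨a, ha⟩) (b := ⟨x, hx⟩)).2
          (iff_of_false haB hxB))
    have hCB : M ⊓ centralizer {a} = B := by
      refine le_antisymm (fun m hm => hfix hm.1 fun x hx => ?_) fun m hm =>
        ⟨hm.1, mem_centralizer_singleton_iff.2 (hcomB hm ha)⟩
      have hma : m * a = a * m := mem_centralizer_singleton_iff.1 hm.2
      rcases hBA hx with h | h
      · exact hM.comm x h.1 m hm.1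
      · rw [show x = a * (a * x) by rw [← mul_assoc, hinvA ha, one_mul], mul_assoc,
          hM.comm _ h.1 m hm.1, ← mul_assoc, ← hma, mul_assoc]
    have hcard : Nat.card M = 16 := by
      have := card_le_sq (hinvA ha) hM (hconj ha)
      rw [hCB, hb] at this
      omega
    have htwo : ∀ y : S, y * a = a * y → (∀ m ∈ M, m * a = a * m → m * y = y * m) →
        y ∈ M ∨ a * y ∈ M := by
      intro y hya hyB
      have hyA : y ∈ A := hA.self y fun x hx => by
        rcases hBA hx with h | h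
        · exact hyB x h.1 (hcomB h ha)
        · rw [show x = a * (a * x) by rw [← mul_assoc, hinvA ha, one_mul], mul_assoc,
            hyB _ h.1 (hcomB h ha), ← mul_assoc, ← hya, mul_assoc]
      exact (hBA hyA).imp (fun h => h.1) fun h => h.1
    refine ⟨a, hA.hS, hM, hcard, ?_, hinvA ha, by rw [hCB, hb], htwo⟩
    by_contra hne
    obtain ⟨y, hy, hyM, hfy⟩ := hfixK (lt_of_le_of_ne hMK (Ne.symm hne))
    have hcomm := comm_of_inverted (hinvA ha) hM (hfy a ha) (inverted (hinvA ha) y)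
    obtain ⟨n, hnM, he⟩ := exists_comm_eq (hinvA ha) hM (hconj ha) (by rw [hCB, hb, hcard])
      (hfy a ha) hcomm
    have hny := adjust (hinvA ha) hM hnM rfl (hfy a ha) he
    rcases htwo (n * y) hny (fun m hm _ =>
      mem_centralizer_iff.1 (mul_mem (hMK hnM) hy) m hm) with h | h
    · exact hyM (by simpa using mul_mem (inv_mem hnM) h)
    · have h' := mul_mem (hMK h) (inv_mem (mul_mem (hMK hnM) hy))
      rw [mul_inv_cancel_right] at h'
      exact hnotK ha (by rw [hCB, hb]) h'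
  -- `|B| = 2`
  have hX : ∀ {a₁ a₂}, a₁ ∈ A → a₁ ∉ B → a₂ ∈ A → a₂ ∉ B → a₁ * a₂ ∉ B →
      (M ⊓ centralizer {a₁}) ⊓ centralizer {a₂} = B := by
    intro a₁ a₂ h1 h1B h2 h2B h12
    obtain ⟨c, hc, hc1⟩ := B.bot_or_exists_ne_one.resolve_left fun e => by
      rw [e, card_bot] at hb; omega
    refine le_antisymm (fun m hm => ⟨hm.1.1, ?_⟩) fun m hm =>
      ⟨⟨hm.1, mem_centralizer_singleton_iff.2 (hcomB hm h1)⟩,
        mem_centralizer_singleton_iff.2 (hcomB hm h2)⟩
    have b : Basis A c a₁ a₂ := ⟨hA.elem, hA.card, hc.2, h1, h2, hc1, fun e => h1B (e ▸ one_mem B),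
      fun e => h1B (e ▸ hc), fun e => h2B (e ▸ one_mem B), fun e => h2B (e ▸ hc),
      fun e => h12 (by rw [e, hinvA h1]; exact one_mem B), fun e => h12 (by
        rw [e, ← mul_assoc, hA.elem.comm a₁ h1 c hc.2, mul_assoc, hinvA h1, mul_one]; exact hc)⟩
    exact hA.mem_of_basis b (hM.comm c hc.1 m hm.1.1)
      (mem_centralizer_singleton_iff.1 hm.1.2).symm (mem_centralizer_singleton_iff.1 hm.2).symm
  have hnX : ∀ {a₁ a₂}, a₁ ∈ A → a₂ ∈ A → ∀ m ∈ M ⊓ centralizer {a₁},
      a₂ * m * a₂ ∈ M ⊓ centralizer {a₁} := by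
    intro a₁ a₂ h1 h2 m hm
    refine ⟨hconj h2 m hm.1, mem_centralizer_singleton_iff.2 ?_⟩
    have hma := mem_centralizer_singleton_iff.1 hm.2
    calc a₂ * m * a₂ * a₁ = a₂ * (m * (a₂ * a₁)) := by group
      _ = a₂ * (m * a₁) * a₂ := by rw [hA.elem.comm a₂ h2 a₁ h1]; group
      _ = (a₂ * a₁) * m * a₂ := by rw [hma]; group
      _ = a₁ * (a₂ * m * a₂) := by rw [hA.elem.comm a₂ h2 a₁ h1]; group
  have hXelem : ∀ {a₁}, Elem (M ⊓ centralizer ({a₁} : Set S)) := fun {_} =>
    ⟨fun x hx y hy => hM.comm x hx.1 y hy.1, fun x hx => hM.sq x hx.1⟩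
  have hsecond : ∀ {a₁}, a₁ ∈ A → ∃ a₂ ∈ A, a₂ ∉ B ∧ a₁ * a₂ ∉ B := by
    intro a₁ h1
    by_contra h
    push Not at h
    let f : A → B × Fin 2 := fun x => by
      classical exact if hx : (x : S) ∈ B then (⟨x, hx⟩, 0) else (⟨a₁ * x, h x x.2 hx⟩, 1)
    have hf : Function.Injective f := by
      intro x y e
      simp only [f] at e
      by_cases hx : (x : S) ∈ B <;> by_cases hy : (y : S) ∈ B <;> simp [hx, hy] at e
      · exact e
      · exact e
    have := Nat.card_le_card_of_injective f hf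
    rw [Nat.card_prod, Nat.card_fin, hb, hA.card] at this
    omega
  have hall : ∀ {x}, x ∈ A → x ∉ B →
      Nat.card ↥(M ⊓ centralizer {x}) = 4 ∧ Nat.card M = 16 := by
    intro x hx hxB
    obtain ⟨y, hy, hyB, hxy⟩ := hsecond hx
    have h1 := card_le_sq (hinvA hy) hXelem (hnX hx hy)
    rw [hX hx hxB hy hyB hxy, hb] at h1
    have h2 := card_le_sq (hinvA hx) hM (hconj hx)
    have := Nat.mul_le_mul h1 h1
    constructor
    · by_contra hne
      have := Nat.mul_le_mul (show Nat.card ↥(M ⊓ centralizer {x}) ≤ 3 by omega)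
        (show Nat.card ↥(M ⊓ centralizer {x}) ≤ 3 by omega)
      omega
    · omega
  -- choose the coset fixed by the normalizer
  let π := QuotientGroup.mk' M
  set Ab := A.map π with hAb
  set N := normalizer (Ab : Set (S ⧸ M)) with hN
  haveI := ((hA.hS.to_quotient M).to_subgroup N).isNilpotent
  haveI : (Ab.subgroupOf N).Normal := ⟨fun x hx g => (g.2 x).1 hx⟩
  obtain ⟨z, hz, hz1⟩ := (bot_or_exists_ne_one _).resolve_left
    (CfsgLib.PGroupBasic.inf_center_ne_bot (Ab.subgroupOf N) fun e => by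
      obtain ⟨x, hx, hxB⟩ : ∃ x ∈ A, x ∉ B := by
        by_contra h
        push Not at h
        have := card_le_of_le h
        rw [hA.card] at this
        omega
      have hm : (⟨π x, le_normalizer (mem_map_of_mem π hx)⟩ : N) ∈ Ab.subgroupOf N :=
        mem_map_of_mem π hx
      rw [e, mem_bot] at hm
      exact hxB ⟨(QuotientGroup.eq_one_iff x).1 (congrArg Subtype.val hm), hx⟩)
  obtain ⟨a₂, ha₂, ha₂z⟩ := hz.1
  have ha₂B : a₂ ∉ B := fun h => hz1 (Subtype.ext
    (ha₂z.symm.trans ((QuotientGroup.eq_one_iff a₂).2 h.1)))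
  obtain ⟨a₁, ha₁, ha₁B, h21⟩ := hsecond ha₂
  have h12 : a₁ * a₂ ∉ B := by rw [hA.elem.comm a₁ ha₁ a₂ ha₂]; exact h21
  have hkey : ∀ g : S, (g * a₁ * g⁻¹ = a₁) → g * a₂ * g⁻¹ * (a₁ * a₂) ∈ M → False := by
    intro g hg1 hg2
    have e1 : π g * π a₁ * (π g)⁻¹ = π a₁ := by rw [← map_inv, ← map_mul, ← map_mul, hg1]
    have e2 : π g * π a₂ * (π g)⁻¹ = π (a₁ * a₂) := by
      rw [← map_inv, ← map_mul, ← map_mul]
      have := (QuotientGroup.eq_one_iff _).2 hg2
      change π (g * a₂ * g⁻¹ * (a₁ * a₂)) = 1 at this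
      rw [map_mul, mul_eq_one_iff_eq_inv, ← map_inv] at this
      rwa [hA.elem.inv (mul_mem ha₁ ha₂)] at this
    have hgN : π g ∈ N := mem_normalizer_of_conj fun w hw => by
      obtain ⟨x, hx, rfl⟩ := hw
      have hm : A ≤ Ab.comap ((MulAut.conj (π g)).toMonoidHom.comp π) := by
        obtain ⟨c, hc, hc1⟩ := B.bot_or_exists_ne_one.resolve_left fun e => by
          rw [e, card_bot] at hb; omega
        have b : Basis A c a₁ a₂ := ⟨hA.elem, hA.card, hc.2, ha₁, ha₂, hc1,
          fun e => ha₁B (e ▸ one_mem B), fun e => ha₁B (e ▸ hc), fun e => ha₂B (e ▸ one_mem B),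
          fun e => ha₂B (e ▸ hc), fun e => h12 (by rw [e, hinvA ha₁]; exact one_mem B),
          fun e => h12 (by
            rw [e, ← mul_assoc, hA.elem.comm a₁ ha₁ c hc.2, mul_assoc, hinvA ha₁, mul_one]
            exact hc)⟩
        refine b.le_of_mem hA.hS ?_ ?_ ?_ <;> rw [mem_comap] <;>
          simp only [MonoidHom.comp_apply, MulEquiv.coe_toMonoidHom, MulAut.conj_apply]
        · rw [show π c = 1 from (QuotientGroup.eq_one_iff c).2 hc.1, mul_one, mul_inv_cancel]
          exact one_mem _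
        · rw [e1]; exact mem_map_of_mem π ha₁
        · rw [e2]; exact mem_map_of_mem π (mul_mem ha₁ ha₂)
      exact hm hx
    have hcz := congrArg Subtype.val (mem_center_iff.1 hz.2 ⟨π g, hgN⟩)
    simp only [Subgroup.coe_mul] at hcz
    rw [show (z : S ⧸ M) = π a₂ from ha₂z.symm] at hcz
    rw [hcz, mul_inv_cancel_right, map_mul, eq_comm, mul_eq_right] at e2
    exact ha₁B ⟨(QuotientGroup.eq_one_iff a₁).1 e2, ha₁⟩
  have hK' : K = M := by
    by_contra hne
    obtain ⟨y, hy, hyM, hfy⟩ := hfixK (lt_of_le_of_ne hMK (Ne.symm hne))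
    obtain ⟨h14, hM16⟩ := hall ha₁ ha₁B
    obtain ⟨n, hnM, he⟩ := exists_comm_eq (hinvA ha₁) hM (hconj ha₁) (by rw [h14, hM16])
      (hfy a₁ ha₁) (comm_of_inverted (hinvA ha₁) hM (hfy a₁ ha₁) (inverted (hinvA ha₁) y))
    have hy' := adjust (hinvA ha₁) hM hnM rfl (hfy a₁ ha₁) he
    set y' := n * y with hy'def
    have hy'K : y' ∈ K := mul_mem (hMK hnM) hy
    have hm2 : a₂ * y' * a₂ * y'⁻¹ ∈ M := by
      have e : a₂ * y' * a₂ * y'⁻¹ = a₂ * n * a₂ * (a₂ * y * a₂ * y⁻¹) * n⁻¹ := by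
        rw [hy'def]
        calc a₂ * (n * y) * a₂ * (n * y)⁻¹ = a₂ * n * (1 : S) * y * a₂ * y⁻¹ * n⁻¹ := by group
          _ = a₂ * n * (a₂ * a₂) * y * a₂ * y⁻¹ * n⁻¹ := by rw [hinvA ha₂]
          _ = a₂ * n * a₂ * (a₂ * y * a₂ * y⁻¹) * n⁻¹ := by group
      rw [e]
      exact mul_mem (mul_mem (hconj ha₂ n hnM) (hfy a₂ ha₂)) (inv_mem hnM)
    set m₂ := a₂ * y' * a₂ * y'⁻¹ with hm₂
    have hm2X : m₂ ∈ M ⊓ centralizer {a₁} := ⟨hm2, mem_centralizer_singleton_iff.2 (by
      have h12c : a₂ * a₁ = a₁ * a₂ := hA.elem.comm a₂ ha₂ a₁ ha₁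
      have hyi : y'⁻¹ * a₁ = a₁ * y'⁻¹ :=
        inv_mul_eq_iff_eq_mul.2 (by rw [← mul_assoc, hy', mul_inv_cancel_right])
      rw [hm₂]
      calc a₂ * y' * a₂ * y'⁻¹ * a₁ = a₂ * y' * a₂ * (y'⁻¹ * a₁) := by group
        _ = a₂ * y' * (a₂ * a₁) * y'⁻¹ := by rw [hyi]; group
        _ = a₂ * (y' * a₁) * a₂ * y'⁻¹ := by rw [h12c]; group
        _ = (a₂ * a₁) * y' * a₂ * y'⁻¹ := by rw [hy']; group
        _ = a₁ * (a₂ * y' * a₂ * y'⁻¹) := by rw [h12c]; group)⟩
    obtain ⟨q, hq, he2⟩ := exists_comm_eq (hinvA ha₂) hXelem (hnX ha₁ ha₂)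
      (by rw [hX ha₁ ha₁B ha₂ ha₂B h12, hb, h14]) hm2X
      (comm_of_inverted (hinvA ha₂) hM hm2 (inverted (hinvA ha₂) y'))
    have hy2 := adjust (hinvA ha₂) hXelem hq rfl hm2X he2
    have hqK : q * y' ∈ K := mul_mem (hMK hq.1) hy'K
    have hy1 : q * y' * a₁ = a₁ * (q * y') := by
      rw [mul_assoc, hy', ← mul_assoc, mem_centralizer_singleton_iff.1 hq.2, mul_assoc]
    have hyA : q * y' ∈ A := by
      obtain ⟨c, hc, hc1⟩ := B.bot_or_exists_ne_one.resolve_left fun e => by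
        rw [e, card_bot] at hb; omega
      have b : Basis A c a₁ a₂ := ⟨hA.elem, hA.card, hc.2, ha₁, ha₂, hc1,
        fun e => ha₁B (e ▸ one_mem B), fun e => ha₁B (e ▸ hc), fun e => ha₂B (e ▸ one_mem B),
        fun e => ha₂B (e ▸ hc), fun e => h12 (by rw [e, hinvA ha₁]; exact one_mem B),
        fun e => h12 (by
          rw [e, ← mul_assoc, hA.elem.comm a₁ ha₁ c hc.2, mul_assoc, hinvA ha₁, mul_one]
          exact hc)⟩
      exact hA.mem_of_basis b (mem_centralizer_iff.1 hqK c hc.1) hy1.symm hy2.symm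
    have hyB : q * y' ∈ B := by
      by_contra h
      exact hnotK hyA (hall hyA h).1.le hqK
    exact hyM (by simpa [hy'def] using mul_mem (inv_mem hnM) (mul_mem (inv_mem hq.1) hyB.1))
  refine ⟨a₁, hA.hS, hM, (hall ha₁ ha₁B).2, hK', hinvA ha₁, (hall ha₁ ha₁B).1, fun y hy1 hyX => ?_⟩
  -- the new elementary subgroup is self-centralizing
  set X := M ⊓ centralizer ({a₁} : Set S) with hXdef
  have hXa : ∀ {x}, x ∈ X → x * a₁ = a₁ * x := fun hx => mem_centralizer_singleton_iff.1 hx.2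
  let A' : Subgroup S :=
    { carrier := {x | x ∈ X ∨ a₁ * x ∈ X}
      one_mem' := Or.inl (one_mem X)
      mul_mem' := by
        rintro x y (hx | hx) (hy | hy)
        · exact Or.inl (mul_mem hx hy)
        · refine Or.inr ?_
          rw [← mul_assoc, ← hXa hx, mul_assoc]
          exact mul_mem hx hy
        · exact Or.inr (by rw [← mul_assoc]; exact mul_mem hx hy)
        · refine Or.inl ?_
          rw [show x * y = a₁ * a₁ * (x * y) by rw [hinvA ha₁, one_mul],
            show a₁ * a₁ * (x * y) = a₁ * ((a₁ * x) * y) by group, ← mul_assoc, ← hXa hx, mul_assoc]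
          exact mul_mem hx hy
      inv_mem' := by
        rintro x (hx | hx)
        · exact Or.inl (inv_mem hx)
        · refine Or.inr ?_
          have h := inv_mem hx
          rw [mul_inv_rev, hA.elem.inv ha₁] at h
          have e := hXa h
          rw [mul_assoc, hinvA ha₁, mul_one] at e
          rw [e, ← mul_assoc, hinvA ha₁, one_mul]
          exact h }
  let U := centralizer ({a₁} : Set S) ⊓ centralizer (X : Set S)
  have hA'U : A' ≤ U := by
    rintro x (hx | hx)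
    · exact ⟨hx.2, mem_centralizer_iff.2 fun w hw => hM.comm w hw.1 x hx.1⟩
    · rw [show x = a₁ * (a₁ * x) by rw [← mul_assoc, hinvA ha₁, one_mul]]
      exact mul_mem ⟨mem_centralizer_singleton_iff.2 rfl,
          mem_centralizer_iff.2 fun w hw => hXa hw⟩
        ⟨hx.2, mem_centralizer_iff.2 fun w hw => hM.comm w hw.1 _ hx.1⟩
  by_contra hnot
  have hlt : A' < U := lt_of_le_of_ne hA'U fun e => by
    have : y ∈ A' := e ▸ ⟨mem_centralizer_singleton_iff.2 hy1,
      mem_centralizer_iff.2 fun w hw => hyX w hw.1 (hXa hw)⟩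
    exact hnot (this.imp (fun h => h.1) fun h => h.1)
  have hA'cent : ∀ x ∈ U, ∀ n ∈ A', x * n * x⁻¹ ∈ A' := by
    intro x hx n hn'
    have : n * x = x * n := by
      rcases hn' with h | h
      · exact mem_centralizer_iff.1 hx.2 n h
      · have e1 := mem_centralizer_iff.1 hx.2 _ h
        have e2 := mem_centralizer_singleton_iff.1 hx.1
        calc n * x = a₁ * (a₁ * n * x) := by
              rw [← mul_assoc, ← mul_assoc, hinvA ha₁, one_mul]
          _ = a₁ * x * (a₁ * n) := by rw [e1]; group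
          _ = x * n := by
              rw [← e2, mul_assoc x, ← mul_assoc a₁, hinvA ha₁, one_mul]
    rw [conj_eq_of_comm this]; exact hn'
  obtain ⟨u, huU, huA, hu2⟩ := exists_fixed_coset hA.hS hlt hA'cent {a₂}
    (by
      intro b hb' x ⟨hx1, hx2⟩
      rw [Set.mem_singleton_iff.1 hb', hA.elem.inv ha₂]
      refine ⟨mem_centralizer_singleton_iff.2 ?_, mem_centralizer_iff.2 fun w hw => ?_⟩
      · have e := mem_centralizer_singleton_iff.1 hx1
        have h12c : a₂ * a₁ = a₁ * a₂ := hA.elem.comm a₂ ha₂ a₁ ha₁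
        calc a₂ * x * a₂ * a₁ = a₂ * x * (a₂ * a₁) := by group
          _ = a₂ * (x * a₁) * a₂ := by rw [h12c]; group
          _ = (a₂ * a₁) * x * a₂ := by rw [e]; group
          _ = a₁ * (a₂ * x * a₂) := by rw [h12c]; group
      · have hw' := hnX ha₁ ha₂ w hw
        have e := mem_centralizer_iff.1 hx2 _ hw'
        have h2 := hinvA ha₂
        calc w * (a₂ * x * a₂) = a₂ * a₂ * w * a₂ * x * a₂ := by rw [h2, one_mul]; group
          _ = a₂ * (a₂ * w * a₂ * x) * a₂ := by group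
          _ = a₂ * x * a₂ * w * (a₂ * a₂) := by rw [e]; group
          _ = a₂ * x * a₂ * w := by rw [h2, mul_one])
    (by
      intro b hb' x hx
      rw [Set.mem_singleton_iff.1 hb', hA.elem.inv ha₂]
      rcases hx with h | h
      · exact Or.inl (hnX ha₁ ha₂ x h)
      · refine Or.inr ?_
        have := hnX ha₁ ha₂ _ h
        rwa [← mul_assoc a₂ a₁ x, hA.elem.comm a₂ ha₂ a₁ ha₁, mul_assoc a₁ a₂ x,
          mul_assoc a₁ (a₂ * x) a₂] at this)
  have hv := hu2 a₂ rfl
  rw [hA.elem.inv ha₂] at hv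
  have hinv := inverted (hinvA ha₂) u
  rcases hv with hv | hv
  · have hvc := comm_of_inverted (hinvA ha₂) hM hv.1 hinv
    obtain ⟨q, hq, he⟩ := exists_comm_eq (hinvA ha₂) hXelem (hnX ha₁ ha₂)
      (by rw [hX ha₁ ha₁B ha₂ ha₂B h12, hb, (hall ha₁ ha₁B).1]) hv hvc
    have hy2 := adjust (hinvA ha₂) hXelem hq rfl hv he
    have hqU : q * u ∈ U := mul_mem (hA'U (Or.inl hq)) huU
    have hquA : q * u ∈ A := by
      obtain ⟨c, hc, hc1⟩ := B.bot_or_exists_ne_one.resolve_left fun e => by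
        rw [e, card_bot] at hb; omega
      have b : Basis A c a₁ a₂ := ⟨hA.elem, hA.card, hc.2, ha₁, ha₂, hc1,
        fun e => ha₁B (e ▸ one_mem B), fun e => ha₁B (e ▸ hc), fun e => ha₂B (e ▸ one_mem B),
        fun e => ha₂B (e ▸ hc), fun e => h12 (by rw [e, hinvA ha₁]; exact one_mem B),
        fun e => h12 (by
          rw [e, ← mul_assoc, hA.elem.comm a₁ ha₁ c hc.2, mul_assoc, hinvA ha₁, mul_one]
          exact hc)⟩
      exact hA.mem_of_basis b
        (mem_centralizer_iff.1 hqU.2 c ⟨hc.1, mem_centralizer_singleton_iff.2 (hcomB hc ha₁)⟩)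
        (mem_centralizer_singleton_iff.1 hqU.1).symm hy2.symm
    refine huA ?_
    suffices q * u ∈ A' by
      simpa using mul_mem (inv_mem (show q ∈ A' from Or.inl hq)) this
    -- otherwise `a₂` would centralize `X`
    by_contra hqu
    have hquB : q * u ∉ B := fun h => hqu (Or.inl ⟨h.1, mem_centralizer_singleton_iff.2
      (hcomB h ha₁)⟩)
    have h1qu : a₁ * (q * u) ∉ B := fun h => hqu (Or.inr ⟨h.1, mem_centralizer_singleton_iff.2
      (hcomB h ha₁)⟩)
    have hle : X ≤ B := fun w hw => by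
      rw [← hX ha₁ ha₁B hquA hquB h1qu]
      exact ⟨hw, mem_centralizer_singleton_iff.2 (mem_centralizer_iff.1 hqU.2 w hw)⟩
    have := card_le_of_le hle
    rw [(hall ha₁ ha₁B).1, hb] at this
    omega
  · -- `u` would move the cosets of `a₂`
    refine hkey u (conj_eq_of_comm (mem_centralizer_singleton_iff.1 huU.1).symm) ?_
    have h2 := hinvA ha₂
    have hcm : u * a₂ * u⁻¹ * (a₁ * a₂) = a₂ * (a₂ * u * a₂ * u⁻¹ * a₁) * a₂ := by
      calc u * a₂ * u⁻¹ * (a₁ * a₂) = a₂ * a₂ * u * a₂ * u⁻¹ * a₁ * a₂ := by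
            rw [h2, one_mul]; group
        _ = a₂ * (a₂ * u * a₂ * u⁻¹ * a₁) * a₂ := by group
    rw [hcm]
    refine hconj ha₂ _ ?_
    have := hn.conj_mem _ hv.1 a₁
    rwa [hA.elem.inv ha₁, ← mul_assoc a₁ a₁, hinvA ha₁, one_mul] at this

end SelfCent


/-- An element moves `M` in two different directions. -/
def Sixteen.Moves (M : Subgroup S) (x : S) : Prop :=
  ∃ m₁ ∈ M, ∃ m₂ ∈ M, x * m₁ * x⁻¹ * m₁⁻¹ ≠ 1 ∧ x * m₂ * x⁻¹ * m₂⁻¹ ≠ 1 ∧
    x * m₁ * x⁻¹ * m₁⁻¹ ≠ x * m₂ * x⁻¹ * m₂⁻¹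

/-- An element moves `M` in two different directions. -/
theorem moves_congr' {M : Subgroup S} [hn : M.Normal] (hM : Elem M) {x y : S}
    (hxy : (y : S ⧸ M) = (x : S ⧸ M)) (hy : Sixteen.Moves M y) : Sixteen.Moves M x := by
  obtain ⟨m₁, h1, m₂, h2, e1, e2, e3⟩ := hy
  have key : ∀ m ∈ M, x * m * x⁻¹ = y * m * y⁻¹ := fun m hm => by
    have hk : y⁻¹ * x ∈ M := QuotientGroup.eq.1 hxy
    calc x * m * x⁻¹ = y * ((y⁻¹ * x) * m * (y⁻¹ * x)⁻¹) * y⁻¹ := by group
      _ = y * m * y⁻¹ := by rw [hM.comm _ hk m hm, mul_inv_cancel_right]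
  refine ⟨m₁, h1, m₂, h2, ?_, ?_, ?_⟩ <;> simp only [key m₁ h1, key m₂ h2] <;> assumption

/-- Subgroups have Frattini index at most 16 when elements of large elementary quotients of `S / M`
move `M` in two directions. -/
theorem frattini_index_of_moves (hS : IsPGroup 2 S) {M : Subgroup S} [hn : M.Normal] (hM : Elem M)
    (hcard : Nat.card M = 16) (hself : centralizer (M : Set S) = M)
    (hQ : ∀ (J : Subgroup (S ⧸ M)) (N : Subgroup J), (∀ x : J, x * x ∈ N) →
      N.index ≤ 4 ∧ (3 ≤ N.index → ∃ x : S, (x : S ⧸ M) ∈ J ∧ Sixteen.Moves M x))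
    (H : Subgroup S) : (frattini H).index ≤ 16 := by
  haveI : Fact (Nat.Prime 2) := ⟨Nat.prime_two⟩
  haveI : (frattini H).Normal := inferInstance
  haveI : (M.subgroupOf H).Normal := Normal.subgroupOf inferInstance H
  have hsplit := index_split H (le_rfl : M ≤ M)
  rw [relIndex_eq_one.2 le_sup_right, mul_one] at hsplit
  set A3 := (frattini H).relIndex (M.subgroupOf H) with hA3
  set A1 := (frattini H ⊔ M.subgroupOf H).index with hA1
  have h3 : A3 ≤ 16 := hcard ▸ relIndex_le_card H M _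
  by_contra hbig
  obtain ⟨n, hn'⟩ := (hS.to_subgroup H).index (frattini H)
  have h32 : 32 ≤ A3 * A1 := by
    rw [← hsplit, hn']
    have : 5 ≤ n := by
      by_contra hh
      exact hbig (hn'.trans_le (Nat.pow_le_pow_right two_pos (show n ≤ 4 by omega)))
    exact Nat.pow_le_pow_right two_pos this
  obtain ⟨N, hN, hNi⟩ := top_le hS H (K := M)
  obtain ⟨hb4, hb3⟩ := hQ _ N hN
  rw [hNi, ← hA1] at hb4 hb3
  by_cases hA12 : A1 ≤ 2
  · have h16 : 16 ≤ A3 := by
      have := Nat.mul_le_mul_left A3 hA12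
      omega
    have := top_eq_one_of_full hS H (W := M) (by rw [hcard]; exact h16)
    rw [hself, ← hA1] at this
    rw [this] at h32
    omega
  obtain ⟨x₀, hx₀, hx0⟩ := hb3 (by omega)
  obtain ⟨⟨x, hx⟩, hxq⟩ := hx₀
  obtain ⟨m₁, h1, m₂, h2, e1, e2, e3⟩ := moves_congr' hM hxq.symm hx0
  have h8 : 8 ≤ A3 := by
    have := Nat.mul_le_mul_left A3 hb4
    omega
  have hval : ∀ m (hm : m ∈ M) (hmH : m ∈ H),
      (⟨x * m * x⁻¹ * m⁻¹, mul_mem (mul_mem (mul_mem hx hmH) (inv_mem hx)) (inv_mem hmH)⟩ : H)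
        ∈ frattini H ∧ x * m * x⁻¹ * m⁻¹ ∈ M := fun m hm hmH =>
    ⟨comm_mem_frattini hS H ⟨x, hx⟩ ⟨m, hmH⟩, mul_mem (hn.conj_mem m hm x) (inv_mem hm)⟩
  by_cases hz : ∃ z : H, z ∈ frattini H ∧ (z : S) ∈ M ∧ (z : S) ≠ 1
  · obtain ⟨z, hzF, hzM, hz1⟩ := hz
    obtain ⟨hle, hF⟩ := of_card_le_two_mul H M (frattini H) (by rw [hcard]; omega) z.2 hzF hzM hz1
    have f1 := hval m₁ h1 (hle h1)
    have f2 := hval m₂ h2 (hle h2)
    exact e3 (((hF _ f1.1 f1.2).resolve_left e1).trans ((hF _ f2.1 f2.2).resolve_left e2).symm)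
  push Not at hz
  have hcR : ∀ m (hm : m ∈ M) (hmH : m ∈ H), x * m * x⁻¹ * m⁻¹ = 1 := fun m hm hmH =>
    hz _ (hval m hm hmH).1 (hval m hm hmH).2
  have hidx : (H.subgroupOf M).index ≤ 2 := by
    have e := (H.subgroupOf M).card_mul_index
    have hc : Nat.card (M.subgroupOf H) ≤ Nat.card (H.subgroupOf M) :=
      Nat.card_le_card_of_injective (fun y => (⟨⟨((y : H) : S), y.2⟩, (y : H).2⟩ : H.subgroupOf M))
        fun _ _ e' => Subtype.ext (Subtype.ext (congrArg (fun z : H.subgroupOf M => ((z : M) : S)) e'))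
    have hR : 8 ≤ Nat.card (M.subgroupOf H) :=
      h8.trans ((Nat.le_mul_of_pos_right _ Nat.card_pos).trans_eq (relIndex_mul_card H M _))
    rw [hcard] at e
    by_contra hh
    have := Nat.mul_le_mul (hR.trans hc) (show 3 ≤ (H.subgroupOf M).index by omega)
    omega
  have n1 : m₁ ∉ H := fun hH => e1 (hcR m₁ h1 hH)
  have n2 : m₂ ∉ H := fun hH => e2 (hcR m₂ h2 hH)
  have hi : (H.subgroupOf M).index = 2 := by
    have h0 := (H.subgroupOf M).index_ne_zero_of_finite
    have h1' : (H.subgroupOf M).index ≠ 1 := fun e =>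
      n1 (show (⟨m₁, h1⟩ : M) ∈ H.subgroupOf M by rw [index_eq_one.1 e]; exact mem_top _)
    omega
  have h12 : m₁ * m₂ ∈ H :=
    (mul_mem_iff_of_index_two hi (a := ⟨m₁, h1⟩) (b := ⟨m₂, h2⟩)).2 (iff_of_false n1 n2)
  have e12 : x * (m₁ * m₂) * x⁻¹ = m₁ * m₂ :=
    mul_inv_eq_one.1 (hcR _ (mul_mem h1 h2) h12)
  refine e3 ?_
  rw [hM.inv h1, hM.inv h2]
  rw [← conj_mul] at e12
  calc x * m₁ * x⁻¹ * m₁ = x * m₁ * x⁻¹ * (x * m₂ * x⁻¹) * (x * m₂ * x⁻¹)⁻¹ * m₁ := by group
    _ = m₁ * (m₂ * (x * m₂ * x⁻¹)⁻¹ * m₁) := by rw [e12]; group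
    _ = m₂ * (x * m₂ * x⁻¹)⁻¹ := by
        rw [hM.comm _ (mul_mem h2 (inv_mem (hn.conj_mem m₂ h2 x))) m₁ h1, ← mul_assoc,
          hM.sq m₁ h1, one_mul]
    _ = x * m₂ * x⁻¹ * m₂ := by
        rw [hM.inv (hn.conj_mem m₂ h2 x), hM.comm m₂ h2 _ (hn.conj_mem m₂ h2 x)]


namespace Sixteen

variable {M : Subgroup S} [hn : M.Normal] {a : S}

theorem conj_mem (h : Sixteen M a) {m : S} (hm : m ∈ M) : a * m * a ∈ M := by
  have := hn.conj_mem m hm a
  rwa [inv_eq_of_mul_eq_one_right h.inv] at this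

theorem exists_comm (h : Sixteen M a) {x : S} (hx : x ∈ M) (hxa : x * a = a * x) :
    ∃ m ∈ M, a * m * a * m = x :=
  exists_comm_eq h.inv h.hM (fun _ hm => h.conj_mem hm) (by rw [h.cardB, h.card]) hx hxa

/-- Elements of the centralizer of `ā` lift to elements centralizing `a`. -/
theorem exists_lift (h : Sixteen M a) {q : S ⧸ M}
    (hq : (a : S ⧸ M) * q = q * (a : S ⧸ M)) : ∃ y : S, (y : S ⧸ M) = q ∧ y * a = a * y := by
  obtain ⟨g, rfl⟩ := QuotientGroup.mk_surjective q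
  have hm : a * g * a * g⁻¹ ∈ M := by
    refine (QuotientGroup.eq_one_iff _).1 ?_
    rw [QuotientGroup.mk_mul, QuotientGroup.mk_mul, QuotientGroup.mk_mul, hq, QuotientGroup.mk_inv,
      mul_assoc (g : S ⧸ M), ← QuotientGroup.mk_mul, h.inv, QuotientGroup.mk_one, mul_one,
      mul_inv_cancel]
  obtain ⟨n, hnM, he⟩ := h.exists_comm hm (comm_of_inverted h.inv h.hM hm (inverted h.inv g))
  refine ⟨n * g, ?_, adjust h.inv h.hM hnM rfl hm he⟩
  rw [QuotientGroup.mk_mul, (QuotientGroup.eq_one_iff n).2 hnM, one_mul]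

theorem moves_congr (h : Sixteen M a) {x y : S} (hxy : (y : S ⧸ M) = (x : S ⧸ M))
    (hy : Moves M y) : Moves M x := moves_congr' h.hM hxy hy

theorem exists_basisB (h : Sixteen M a) : ∃ c e : S, c ∈ M ∧ e ∈ M ∧ c * a = a * c ∧ e * a = a * e ∧
    c ≠ 1 ∧ e ≠ 1 ∧ c ≠ e ∧ (∀ y, y * a = a * y → y * c * y⁻¹ = c ∧
      (y * e * y⁻¹ = e ∨ y * e * y⁻¹ = c * e)) ∧
    ∀ m ∈ M, m * a = a * m → m = 1 ∨ m = c ∨ m = e ∨ m = c * e := by
  set B := M ⊓ centralizer ({a} : Set S) with hB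
  have hBe : Elem B := ⟨fun x hx y hy => h.hM.comm x hx.1 y hy.1, fun x hx => h.hM.sq x hx.1⟩
  set P : Set S := {y | y * a = a * y} with hP
  have hPB : ∀ y ∈ P, ∀ m ∈ B, y * m * y⁻¹ ∈ B := fun y hy m hm => by
    have hyc : y ∈ centralizer ({a} : Set S) := mem_centralizer_singleton_iff.2 hy
    exact mem_inf.2 ⟨hn.conj_mem m hm.1 y, mul_mem (mul_mem hyc (mem_inf.1 hm).2) (inv_mem hyc)⟩
  have hne : (⊥ : Subgroup S) < B := bot_lt_iff_ne_bot.2 fun e => by
    have := h.cardB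
    rw [← hB, e, card_bot] at this
    omega
  obtain ⟨c, hc, hc1, hfc⟩ := exists_fixed_coset h.hS hne
    (fun x _ n hn' => by rw [mem_bot.1 hn']; simp) P hPB (fun x _ n hn' => by rw [mem_bot.1 hn']; simp)
  obtain ⟨e, he, hec⟩ : ∃ e ∈ B, e ∉ four hBe hc (one_mem B) := by
    by_contra hh
    push Not at hh
    have h1 := h.cardB
    rw [← hB] at h1
    have h2 := card_le_of_le (show B ≤ four hBe hc (one_mem B) from hh)
    let f : Fin 2 → four hBe hc (one_mem B) := ![⟨1, Or.inl rfl⟩, ⟨c, Or.inr (Or.inl rfl)⟩]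
    have hf : Function.Surjective f := by
      rintro ⟨x, rfl | rfl | rfl | rfl⟩
      exacts [⟨0, rfl⟩, ⟨1, rfl⟩, ⟨0, rfl⟩, ⟨1, Subtype.ext (mul_one c).symm⟩]
    have := Nat.card_le_card_of_surjective f hf
    rw [Nat.card_fin] at this
    omega
  have hc1' : c ≠ 1 := fun e => hc1 (mem_bot.2 e)
  have hec' : c ≠ e := fun e' => hec (Or.inr (Or.inl e'.symm))
  have he1 : e ≠ 1 := fun e' => hec (Or.inl e')
  have hall : ∀ m ∈ B, m = 1 ∨ m = c ∨ m = e ∨ m = c * e := by
    intro m hm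
    by_contra hh
    push Not at hh
    obtain ⟨h1, h2, h3, h4⟩ := hh
    have h5 : c * e ≠ 1 := fun e' => hec' ((eq_inv_of_mul_eq_one_left e').trans (hBe.inv he))
    have h6 : c * e ≠ c := fun e' => he1 (mul_eq_left.1 e')
    have h7 : c * e ≠ e := fun e' => hc1' (mul_eq_right.1 e')
    let f : Fin 5 → B := ![1, ⟨c, hc⟩, ⟨e, he⟩, ⟨c * e, mul_mem hc he⟩, ⟨m, hm⟩]
    have hf : Function.Injective f := by
      intro i j hij
      have e' := congrArg Subtype.val hij
      fin_cases i <;> fin_cases j <;> simp [f, hc1', he1] at e' ⊢ <;>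
        first
          | exact h1 e' | exact h1 e'.symm | exact h2 e' | exact h2 e'.symm | exact h3 e'
          | exact h3 e'.symm | exact h4 e' | exact h4 e'.symm | exact h5 e' | exact h5 e'.symm
          | exact hec' e' | exact hec' e'.symm | exact hc1' e' | exact he1 e'
          | exact hc1' e'.symm | exact he1 e'.symm
          | exact h6 e' | exact h6 e'.symm | exact h7 e' | exact h7 e'.symm
    have := Nat.card_le_card_of_injective f hf
    rw [Nat.card_fin, hB, h.cardB] at this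
    omega
  refine ⟨c, e, hc.1, he.1, mem_centralizer_singleton_iff.1 hc.2,
    mem_centralizer_singleton_iff.1 he.2, hc1', he1, hec', fun y hy => ?_,
    fun m hm hma => hall m ⟨hm, mem_centralizer_singleton_iff.2 hma⟩⟩
  have hyc : y * c * y⁻¹ = c := mul_inv_eq_one.1 (mem_bot.1 (hfc y hy))
  refine ⟨hyc, ?_⟩
  rcases hall _ (hPB y hy e he) with e' | e' | e' | e'
  · exact absurd (conj_eq_one_iff.1 e') he1
  · exact absurd (mul_left_cancel (mul_right_cancel (e'.trans hyc.symm))).symm hec'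
  · exact Or.inl e'
  · exact Or.inr e'

theorem card_centralizer_le (h : Sixteen M a) :
    Nat.card (centralizer ({(a : S ⧸ M)} : Set (S ⧸ M))) ≤ 4 := by
  obtain ⟨c, e, hc, he, hca, hea, hc1, he1, hce, hact, hall⟩ := h.exists_basisB
  set Z := (zpowers (a : S ⧸ M)).subgroupOf (centralizer ({(a : S ⧸ M)} : Set (S ⧸ M))) with hZ
  have hker : ∀ y : S, y * a = a * y → y * e * y⁻¹ = e → (y : S ⧸ M) ∈ zpowers (a : S ⧸ M) := by
    intro y hy hye
    rcases h.two y hy (fun m hm hma => by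
      have e1 := (hact y hy).1
      have : y * m * y⁻¹ = m := by
        rcases hall m hm hma with rfl | rfl | rfl | rfl
        · group
        · exact e1
        · exact hye
        · rw [← conj_mul, e1, hye]
      exact (mul_inv_eq_iff_eq_mul.1 this).symm) with h' | h'
    · rw [(QuotientGroup.eq_one_iff y).2 h']; exact one_mem _
    · rw [(QuotientGroup.eq (a := y) (b := a)).2 ?_]
      · exact mem_zpowers _
      · rw [show y⁻¹ * a = (a⁻¹ * y)⁻¹ by group, inv_eq_of_mul_eq_one_right h.inv]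
        exact inv_mem h'
  have h2 : Z.index ≤ 2 := by
    refine index_le_two_of fun q r hq hr => ?_
    obtain ⟨y, hy, hya⟩ := h.exists_lift (mem_centralizer_singleton_iff.1 q.2).symm
    obtain ⟨z, hz, hza⟩ := h.exists_lift (mem_centralizer_singleton_iff.1 r.2).symm
    have hye : y * e * y⁻¹ = c * e := ((hact y hya).2).resolve_left fun e' => hq (by
      rw [hZ, mem_subgroupOf, ← hy]; exact hker y hya e')
    have hze : z * e * z⁻¹ = c * e := ((hact z hza).2).resolve_left fun e' => hr (by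
      rw [hZ, mem_subgroupOf, ← hz]; exact hker z hza e')
    have hyz : (y⁻¹ * z) * a = a * (y⁻¹ * z) := by
      have := mul_mem (inv_mem (mem_centralizer_singleton_iff.2 hya))
        (mem_centralizer_singleton_iff.2 hza : z ∈ centralizer {a})
      exact mem_centralizer_singleton_iff.1 this
    rw [hZ, mem_subgroupOf, Subgroup.coe_mul, Subgroup.coe_inv, ← hy, ← hz, ← QuotientGroup.mk_inv,
      ← QuotientGroup.mk_mul]
    refine hker _ hyz ?_
    rw [show y⁻¹ * z * e * (y⁻¹ * z)⁻¹ = y⁻¹ * (z * e * z⁻¹) * y by group, hze, ← hye]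
    group
  have hZ2 : Nat.card Z ≤ 2 := by
    refine (card_subgroupOf_le _ _).trans ?_
    rw [Nat.card_zpowers]
    exact orderOf_le_of_pow_eq_one two_pos (by
      rw [pow_two, ← QuotientGroup.mk_mul, h.inv, QuotientGroup.mk_one])
  rw [← Z.card_mul_index]
  exact Nat.mul_le_mul hZ2 h2

theorem moves_of_comm (h : Sixteen M a) {q : S ⧸ M} (hq1 : q ≠ 1)
    (hq : (a : S ⧸ M) * q = q * (a : S ⧸ M)) {x : S} (hx : (x : S ⧸ M) = q) : Moves M x := by
  obtain ⟨c, e, hc, he, hca, hea, hc1, he1, hce, hact, hall⟩ := h.exists_basisB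
  obtain ⟨y, hy, hya⟩ := h.exists_lift hq
  refine h.moves_congr (y := y) (hy.trans hx.symm) ?_
  have hai : a⁻¹ = a := inv_eq_of_mul_eq_one_right h.inv
  rcases (hact y hya).2 with hye | hye
  · -- `y` acts as `a`
    have hay : a * y ∈ M := (h.two y hya fun m hm hma => by
      have : y * m * y⁻¹ = m := by
        rcases hall m hm hma with rfl | rfl | rfl | rfl
        · group
        · exact (hact y hya).1
        · exact hye
        · rw [← conj_mul, (hact y hya).1, hye]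
      exact (mul_inv_eq_iff_eq_mul.1 this).symm).resolve_left fun h' =>
        hq1 (hy ▸ (QuotientGroup.eq_one_iff y).2 h')
    have key : ∀ m ∈ M, y * m * y⁻¹ * m⁻¹ = a * m * a * m := fun m hm => by
      rw [h.hM.inv hm]
      calc y * m * y⁻¹ * m = a⁻¹ * ((a * y) * m * (a * y)⁻¹) * a * m := by group
        _ = a * m * a * m := by rw [h.hM.comm _ hay m hm, mul_inv_cancel_right, hai]
    obtain ⟨m₁, h1, e1⟩ := h.exists_comm hc hca
    obtain ⟨m₂, h2, e2⟩ := h.exists_comm he hea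
    refine ⟨m₁, h1, m₂, h2, ?_, ?_, ?_⟩ <;> simp only [key m₁ h1, key m₂ h2, e1, e2] <;> assumption
  · obtain ⟨m, hm, em⟩ := h.exists_comm he hea
    have hcv : y * e * y⁻¹ * e⁻¹ = c := by rw [hye, mul_inv_cancel_right]
    set v := y * m * y⁻¹ * m⁻¹ with hv
    have hav : a * v * a * v = c := by
      have hu : y * m * y⁻¹ ∈ M := hn.conj_mem m hm y
      have hau : a * (y * m * y⁻¹) * a = y * (a * m * a) * y⁻¹ := by
        have hyi : y⁻¹ * a = a * y⁻¹ :=
          inv_mul_eq_iff_eq_mul.2 (by rw [← mul_assoc, hya, mul_inv_cancel_right])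
        calc a * (y * m * y⁻¹) * a = (a * y) * m * (y⁻¹ * a) := by group
          _ = (y * a) * m * (a * y⁻¹) := by rw [hya, hyi]
          _ = y * (a * m * a) * y⁻¹ := by group
      rw [hv, h.hM.inv hm]
      calc a * (y * m * y⁻¹ * m) * a * (y * m * y⁻¹ * m)
          = a * (y * m * y⁻¹) * (a * a) * m * a * (y * m * y⁻¹ * m) := by rw [h.inv, mul_one]; group
        _ = a * (y * m * y⁻¹) * a * (a * m * a * ((y * m * y⁻¹) * m)) := by group
        _ = a * (y * m * y⁻¹) * a * ((y * m * y⁻¹) * (a * m * a) * m) := by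
            rw [← mul_assoc (a * m * a), h.hM.comm _ (h.conj_mem hm) _ hu]
        _ = y * (a * m * a) * y⁻¹ * (y * m * y⁻¹) * (a * m * a * m) := by rw [hau]; group
        _ = y * (a * m * a * m) * y⁻¹ * (a * m * a * m) := by group
        _ = c := by rw [em, hye, mul_assoc, h.hM.sq e he, mul_one]
    have hv1 : v ≠ 1 := fun e' => hc1 (by rw [← hav, e']; simpa using h.inv)
    refine ⟨e, he, m, hm, by rw [hcv]; exact hc1, hv1, fun e' => hc1 ?_⟩
    rw [hcv] at e'
    change c = v at e'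
    rw [← hav, ← e', show a * c * a = c by rw [← hca, mul_assoc, h.inv, mul_one], h.hM.sq c hc]

/-- Subgroups have Frattini index at most 16. -/
theorem frattini_index (h : Sixteen M a) (H : Subgroup S) : (frattini H).index ≤ 16 := by
  refine frattini_index_of_moves h.hS h.hM h.card h.self (fun J N hN => ?_) H
  have ha2 : (a : S ⧸ M) * (a : S ⧸ M) = 1 := by
    rw [← QuotientGroup.mk_mul, h.inv, QuotientGroup.mk_one]
  obtain ⟨hb4, hb3⟩ := small_centralizer_bound (h.hS.to_quotient M) ha2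
    h.card_centralizer_le J N hN
  refine ⟨hb4, fun h3 => ?_⟩
  obtain ⟨q, hq, hq1, hqa⟩ := hb3 h3
  obtain ⟨x, rfl⟩ := QuotientGroup.mk_surjective q
  exact ⟨x, hq, h.moves_of_comm hq1 hqa rfl⟩

end Sixteen

end CfsgLib.SelfCentEight
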